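import Cfsg.Agent.Lib.TensorSympMax.Basic
import Cfsg.Agent.Lib.TensorPowerMax.BlockTo
import Cfsg.Agent.Lib.UnitaryPowerMax.Fixed

/-!
Quadratic elements of the stabiliser act on one factor; a root element moved into the stabiliser moves its
block to a block; elements permuting the blocks lie in the stabiliser.
-/

set_option autoImplicit false
set_option linter.unusedSectionVars false
set_option linter.style.haveILetI false

namespace Cfsg.Agent.Lib.TensorSympMax.Quad

open Matrix Kronecker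
open Cfsg.Agent.Lib.Subspaces.Transvection Cfsg.Agent.Lib.Subspaces.FormVec
  Cfsg.Agent.Lib.TensorPowerMax.Basic Cfsg.Agent.Lib.TensorSympMax.Basic

variable {ι : Type} [Fintype ι] [DecidableEq ι] {k : ℕ} {F : Type*} [Field F]

local notation "A1" => Matrix (Fin k) (Fin k) F
local notation "Big" => Matrix (ι → Fin k) (ι → Fin k) F
local notation "GG" => GL (ι → Fin k) F
local notation "W1" => Fin k → F

theorem span_swap {x y : W1} (hy : y ≠ 0) (h : x ∉ Submodule.span F {y}) : y ∉ Submodule.span F {x} := by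
  intro e
  obtain ⟨c, hc⟩ := Submodule.mem_span_singleton.1 e
  have hc0 : c ≠ 0 := fun e0 => hy (by rw [← hc, e0, zero_smul])
  exact h (Submodule.mem_span_singleton.2 ⟨c⁻¹, by rw [← hc, inv_smul_smul₀ hc0]⟩)

theorem avoid_two (hk : 2 ≤ k) (x y : W1) :
    ∃ z : W1, z ∉ Submodule.span F {x} ∧ z ∉ Submodule.span F {y} := by
  have h1 : ∀ w : W1, ∃ z, z ∉ Submodule.span F {w} := by
    intro w
    obtain ⟨z, hz, -⟩ := exists_common_zero_not_mem (Submodule.span F {w}) (![] : Fin 0 → W1) (by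
      have : Module.finrank F (Submodule.span F {w}) ≤ 1 := (finrank_span_le_card _).trans (by simp)
      rw [Fintype.card_fin]; omega)
    exact ⟨z, hz⟩
  obtain ⟨a, ha⟩ := h1 x
  obtain ⟨b, hb⟩ := h1 y
  by_cases hay : a ∈ Submodule.span F {y}
  swap
  · exact ⟨a, ha, hay⟩
  by_cases hbx : b ∈ Submodule.span F {x}
  swap
  · exact ⟨b, hbx, hb⟩
  exact ⟨a + b, fun e => ha ((Submodule.add_mem_iff_left _ hbx).1 e),
    fun e => hb ((Submodule.add_mem_iff_right _ hay).1 e)⟩

/-- A quadratic element of the stabiliser acts on one factor. -/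
theorem one_factor (hk : 2 ≤ k) (h2 : (2 : F) ≠ 0) [Nonempty ι] {a : ι → GL (Fin k) F} {σ : Equiv.Perm ι}
    (hsq : (((ptGL a * pmGL σ : GG) : Big) - 1) * (((ptGL a * pmGL σ : GG) : Big) - 1) = 0) :
    ∃ (j : ι) (b : A1), ((ptGL a * pmGL σ : GG) : Big) = oneM j b := by
  classical
  set S : Big := ((ptGL a * pmGL σ : GG) : Big) with hS
  let R : (ι → W1) → ι → W1 := fun r i => (a i : A1) *ᵥ r (σ.symm i)
  have hR : ∀ r, S *ᵥ pv r = pv (R r) := fun r => tw_mulVec a σ r
  have hRne : ∀ r : ι → W1, (∀ i, r i ≠ 0) → ∀ i, R r i ≠ 0 := fun r hr i => gl_ne_zero _ (hr _)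
  have near : ∀ r : ι → W1, (∀ i, r i ≠ 0) → ∀ i l, i ≠ l →
      R r i ∉ Submodule.span F {r i} → R r l ∉ Submodule.span F {r l} → False := by
    intro r hr i l hil hi hl
    have h3 : (2 : F) • pv (R r) + (-1 : F) • pv r = pv (R (R r)) := by
      rw [← hR (R r), ← hR r, mulVec_mulVec, show S * S = (2 : F) • S - 1 by
        rw [two_smul]; linear_combination (norm := noncomm_ring) hsq,
        sub_mulVec, smul_mulVec, one_mulVec, neg_one_smul, sub_eq_add_neg]
    exact not_pure_of_two h2 (neg_ne_zero.2 one_ne_zero) h3 (hRne r hr) hr hil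
      (span_swap (hr i) hi) hi (span_swap (hr l) hl)
  have hx : ∀ w : W1, ∃ z, z ∉ Submodule.span F {w} := fun w =>
    (avoid_two hk w w).imp fun z h => h.1
  have hne : ∀ {z w : W1}, z ∉ Submodule.span F {w} → z ≠ 0 := fun h e => h (e ▸ Submodule.zero_mem _)
  have hnz : ∀ (b : GL (Fin k) F) {x z : W1}, z ∉ Submodule.span F {((b⁻¹ : GL (Fin k) F) : A1) *ᵥ x} →
      (b : A1) *ᵥ z ∉ Submodule.span F {x} := by
    intro b x z hz e
    obtain ⟨c, hc⟩ := Submodule.mem_span_singleton.1 e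
    exact hz (Submodule.mem_span_singleton.2 ⟨c, by rw [← mulVec_smul, hc, gl_inv_mulVec]⟩)
  obtain ⟨x, hx0⟩ := hx 0
  have hx0 : x ≠ 0 := hne hx0
  have hσ : σ = 1 := by
    by_contra hσ
    obtain ⟨i, hi⟩ : ∃ i, σ.symm i ≠ i := by
      by_contra h
      push Not at h
      exact hσ (Equiv.ext fun i => by
        conv_lhs => rw [← h i, Equiv.apply_symm_apply]
        rfl)
    set l := σ.symm i with hl
    have hl' : σ.symm l ≠ l := fun e => hi (σ.symm.injective e)
    by_cases hcyc : σ.symm l = i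
    · obtain ⟨y, hy1, hy2⟩ := avoid_two hk ((a l : A1) *ᵥ x) ((((a i)⁻¹ : GL (Fin k) F) : A1) *ᵥ x)
      refine near (fun n => if n = l then y else x) (fun n => by split_ifs <;> [exact hne hy1; exact hx0]) i l
        hi.symm ?_ ?_
      · show (a i : A1) *ᵥ (if σ.symm i = l then y else x) ∉ _
        rw [if_pos hl.symm, if_neg hi.symm]
        exact hnz _ hy2
      · show (a l : A1) *ᵥ (if σ.symm l = l then y else x) ∉ _
        rw [if_neg hl', if_pos rfl]
        exact span_swap (gl_ne_zero _ hx0) hy1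
    · obtain ⟨y, hy⟩ := hx ((a l : A1) *ᵥ x)
      obtain ⟨z, hz⟩ := hx ((a i : A1) *ᵥ y)
      refine near (fun n => if n = l then y else if n = i then z else x)
        (fun n => by split_ifs <;> [exact hne hy; exact hne hz; exact hx0]) i l hi.symm ?_ ?_
      · show (a i : A1) *ᵥ (if σ.symm i = l then y else _) ∉ _
        rw [if_pos hl.symm, if_neg hi.symm, if_pos rfl]
        exact span_swap (gl_ne_zero _ (hne hy)) hz
      · show (a l : A1) *ᵥ (if σ.symm l = l then y else if σ.symm l = i then z else x) ∉ _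
        rw [if_neg hl', if_neg hcyc, if_pos rfl]
        exact span_swap (gl_ne_zero _ hx0) hy
  subst hσ
  have hScoe : S = pt fun i => (a i : A1) := by rw [hS, map_one, mul_one, coe_ptGL]
  obtain ⟨j, hj⟩ : ∃ j, ∀ i, i ≠ j → ∃ d : F, (a i : A1) = d • 1 := by
    by_cases hall : ∀ i, ∃ d : F, (a i : A1) = d • 1
    · exact ⟨Classical.arbitrary ι, fun i _ => hall i⟩
    obtain ⟨j, hj⟩ := not_forall.1 hall
    refine ⟨j, fun i hi => ?_⟩
    by_contra hns
    push Not at hns hj
    obtain ⟨u, hu⟩ := TensorMax.FullAlgebra.exists_not_eigen hj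
    obtain ⟨w, hw⟩ := TensorMax.FullAlgebra.exists_not_eigen hns
    have hu0 : u ≠ 0 := fun e => hu (by rw [e, mulVec_zero]; exact Submodule.zero_mem _)
    have hw0 : w ≠ 0 := fun e => hw (by rw [e, mulVec_zero]; exact Submodule.zero_mem _)
    refine near (fun n => if n = i then w else u) (fun n => by split_ifs <;> assumption) i j hi ?_ ?_
    · show (a i : A1) *ᵥ (if i = i then w else u) ∉ _
      rwa [if_pos rfl]
    · show (a j : A1) *ᵥ (if j = i then w else u) ∉ _
      rwa [if_neg hi.symm]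
  choose d hd using hj
  refine ⟨j, (∏ i : {i // i ≠ j}, d i.1 i.2) • (a j : A1), ext_pv fun r => ?_⟩
  rw [hScoe, oneM_smul, smul_mulVec, oneM, pt_mulVec, pt_mulVec]
  ext y
  rw [Pi.smul_apply, smul_eq_mul]
  simp only [pv]
  rw [prod_split j, prod_split j, ← mul_assoc, ← Finset.prod_mul_distrib]
  congr 1
  · refine Finset.prod_congr rfl fun i _ => ?_
    rw [hd i.1 i.2, smul_mulVec, one_mulVec, Function.update_of_ne i.2, Pi.one_apply, one_mulVec,
      Pi.smul_apply, smul_eq_mul]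
  · rw [Function.update_self]

/-- `g` carries the block of `v` at `i` onto the block of `w` at `j`. -/
def Maps (g : GL (ι → Fin k) F) (i : ι) (v : Fin k → F) (j : ι) (w : Fin k → F) : Prop :=
  (block i v).map (Matrix.mulVecLin (g : Matrix (ι → Fin k) (ι → Fin k) F)) = block j w

theorem finrank_map (g : GG) (U : Submodule F ((ι → Fin k) → F)) :
    Module.finrank F (U.map (Matrix.mulVecLin (g : Big))) = Module.finrank F U :=
  (Submodule.equivMapOfInjective _ (gl_mulVec_injective g) U).finrank_eq.symm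

theorem maps_of_le {g : GG} {i j : ι} {v w : W1} (hv : v ≠ 0) (hw : w ≠ 0)
    (h : ∀ u, (g : Big) *ᵥ ins i v u ∈ block j w) : Maps g i v j w := by
  refine Submodule.eq_of_le_of_finrank_le ?_ (by rw [finrank_map, finrank_block hv, finrank_block hw])
  rintro _ ⟨_, ⟨u, rfl⟩, rfl⟩
  exact h u

theorem Maps.mem {g : GG} {i j : ι} {v w : W1} (h : Maps g i v j w)
    (u : ({l // l ≠ i} → Fin k) → F) : (g : Big) *ᵥ ins i v u ∈ block j w := by
  rw [← h]
  exact ⟨_, LinearMap.mem_range_self _ _, rfl⟩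

theorem Maps.exists_pre {g : GG} {i j : ι} {v w : W1} (h : Maps g i v j w)
    (u : ({l // l ≠ j} → Fin k) → F) : ∃ u', (g : Big) *ᵥ ins i v u' = ins j w u := by
  obtain ⟨_, ⟨u', rfl⟩, hu⟩ : ins j w u ∈ (block i v).map (Matrix.mulVecLin (g : Big)) := by
    rw [h]; exact LinearMap.mem_range_self _ _
  exact ⟨u', hu⟩

variable {f : (Fin k → F) → (Fin k → F) → F}

/-- A root element moved onto one factor moves its block to a block. -/
theorem maps_of_one_factor (hf : Cfsg.Geo.IsSymplecticForm f) (hk : 2 ≤ k) {g : GG} {i j : ι} {v : W1} (hv : v ≠ 0)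
    {b : A1} (hb : ((g * rs f i v 1 * g⁻¹ : GG) : Big) = oneM j b) : ∃ w : W1, w ≠ 0 ∧ Maps g i v j w := by
  set N : Big := (g : Big) * Xr f i v * ((g⁻¹ : GG) : Big)
  have hN : ((g * rs f i v 1 * g⁻¹ : GG) : Big) - 1 = N := by
    rw [Units.val_mul, Units.val_mul, coe_rs hf, one_smul, mul_add, mul_one, add_mul, ← Units.val_mul,
      mul_inv_cancel, Units.val_one, add_sub_cancel_left]
  have hND : N = oneM j (b - 1) := by
    rw [← hN, hb, sub_eq_iff_eq_add]
    conv_rhs => rw [← oneM_one (F := F) (m := k) j, ← oneM_add, sub_add_cancel]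
  have hNz : ∀ z, N *ᵥ z ∈ (block i v).map (Matrix.mulVecLin (g : Big)) := fun z =>
    ⟨Xr f i v *ᵥ (((g⁻¹ : GG) : Big) *ᵥ z), by rw [Xr_mulVec]; exact LinearMap.mem_range_self _ _, by
      show (g : Big) *ᵥ _ = _
      rw [mulVec_mulVec, mulVec_mulVec]⟩
  obtain ⟨c, hc⟩ : ∃ c, (b - 1) *ᵥ c ≠ 0 := by
    by_contra hc
    push Not at hc
    have hb1 : b - 1 = 0 := Matrix.mulVec_injective (funext fun c => by rw [hc, zero_mulVec])
    rw [hb1, oneM_zero] at hND
    have hX : Xr f i v = 0 := by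
      have := congrArg (fun Z : Big => ((g⁻¹ : GG) : Big) * Z * (g : Big)) hND
      simpa [N, ← Matrix.mul_assoc, Matrix.mul_assoc] using this
    obtain ⟨y, hy⟩ := exists_one hf hv
    haveI : Nonempty ({l // l ≠ i} → Fin k) := ⟨fun _ => ⟨0, by omega⟩⟩
    have h1 := Xr_mulVec (f := f) i v (ins i y fun _ => 1)
    rw [hX, zero_mulVec, ctr_ins, dot hf, hy, one_smul] at h1
    exact one_ne_zero (congrFun (ins_injective hv (h1.symm.trans (map_zero _).symm)) (Classical.arbitrary _))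
  refine ⟨_, hc, (Submodule.eq_of_le_of_finrank_le ?_ ?_).symm⟩
  · rintro _ ⟨u, rfl⟩
    rw [← TensorPowerMax.Roots.oneM_mulVec_ins, ← hND]
    exact hNz _
  · rw [finrank_map, finrank_block hv, finrank_block hc]

/-- A root element moved into the stabiliser moves its block to a block. -/
theorem maps_of_conj (hf : Cfsg.Geo.IsSymplecticForm f) (hk : 4 ≤ k ∨ (k = 2 ∧ (2 : F) ≠ 0)) [Nonempty ι]
    {g : GG} {i : ι} {v : W1} (hv : v ≠ 0) (h : g * rs f i v 1 * g⁻¹ ∈ stab ι k F) :
    ∃ (j : ι) (w : W1), w ≠ 0 ∧ Maps g i v j w := by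
  have hk2 : 2 ≤ k := by rcases hk with h | ⟨h, -⟩ <;> omega
  obtain ⟨a, σ, hs⟩ := h
  suffices hfac : ∃ (j : ι) (b : A1), ((g * rs f i v 1 * g⁻¹ : GG) : Big) = oneM j b by
    obtain ⟨j, b, hb⟩ := hfac
    exact ⟨j, maps_of_one_factor hf hk2 hv hb⟩
  by_cases h2 : (2 : F) = 0
  swap
  · rw [hs]
    refine one_factor hk2 h2 ?_
    rw [← hs, Units.val_mul, Units.val_mul, coe_rs hf, one_smul, mul_add, mul_one, add_mul, ← Units.val_mul,
      mul_inv_cancel, Units.val_one, add_sub_cancel_left]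
    simp only [Matrix.mul_assoc]
    rw [← Matrix.mul_assoc ((g⁻¹ : GG) : Big) (g : Big), ← Units.val_mul, inv_mul_cancel, Units.val_one,
      Matrix.one_mul, ← Matrix.mul_assoc (Xr f i v), Xr_sq hf, Matrix.zero_mul, Matrix.mul_zero]
  have hk4 : 4 ≤ k := hk.resolve_right fun h => h.2 h2
  set U := (block i v).map (Matrix.mulVecLin (g : Big))
  have hU : Module.finrank F U ≤ k ^ (Fintype.card ι - 1) := by
    rw [finrank_map, finrank_block hv]
  have hdisp : ∀ z, ((g * rs f i v 1 * g⁻¹ : GG) : Big) *ᵥ z - z ∈ U := fun z => by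
    rw [gl_mul_mulVec, gl_mul_mulVec, rs_mulVec hf, mulVec_add, gl_mulVec_inv, add_sub_cancel_left, one_smul]
    exact ⟨_, LinearMap.mem_range_self _ _, rfl⟩
  have hinv : ptGL a * pmGL σ * (ptGL a * pmGL σ) = 1 := by
    rw [← hs, show g * rs f i v 1 * g⁻¹ * (g * rs f i v 1 * g⁻¹) = g * (rs f i v 1 * rs f i v 1) * g⁻¹ by group]
    have : rs f i v 1 * rs f i v 1 = (1 : GG) := Units.ext (by
      rw [Units.val_mul, coe_rs hf, one_smul, Units.val_one, add_mul, mul_add, mul_add, mul_one, one_mul, mul_one,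
        Xr_sq hf, add_zero, add_assoc, ← two_smul F, h2, zero_smul, add_zero])
    rw [this, mul_one, mul_inv_cancel]
  obtain rfl := UnitaryPowerMax.Fixed.perm_one hk4 hinv hU fun z => by rw [← hs]; exact hdisp z
  rw [map_one, mul_one] at hs
  obtain ⟨j, w, φ, hj⟩ := TensorPowerMax.Roots.base_root (by omega) Fintype.card_pos (a := a) hU fun z => by
    rw [← coe_ptGL, ← hs]; exact hdisp z
  exact ⟨j, 1 + vecMulVec w φ, by rw [hs, coe_ptGL, hj, oneM_add, oneM_one]⟩

/-! ### elements permuting the blocks -/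

theorem mem_block_ins {j i : ι} (hij : i ≠ j) {w v : W1} (hw : w ≠ 0) (hv : v ≠ 0)
    {y : ({l // l ≠ j} → Fin k) → F} :
    ins j w y ∈ block i v ↔ y ∈ block (⟨i, hij⟩ : {l // l ≠ j}) v := by
  obtain ⟨ψ, hψ⟩ := exists_dot_eq_one hv
  have key : oneM i (vecMulVec v ψ) *ᵥ ins j w y =
      ins j w (oneM (⟨i, hij⟩ : {l // l ≠ j}) (vecMulVec v ψ) *ᵥ y) := by
    rw [oneM, mulVec_ins_pt, Function.update_of_ne hij.symm, Pi.one_apply, one_mulVec, oneM]
    congr 3
    funext l
    by_cases hl : l = (⟨i, hij⟩ : {l // l ≠ j})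
    · subst hl; simp
    · have : l.1 ≠ i := fun e => hl (Subtype.ext e)
      simp [Function.update_of_ne hl, Function.update_of_ne this]
  constructor
  · intro h
    obtain ⟨u, hu⟩ := h
    have h1 : oneM i (vecMulVec v ψ) *ᵥ ins j w y = ins j w y := by
      rw [← hu, oneM_mulVec, ctr_ins, hψ, one_smul]
    rw [key] at h1
    rw [← ins_injective hw h1, oneM_mulVec]
    exact LinearMap.mem_range_self _ _
  · rintro ⟨u, hu⟩
    have h1 : oneM (⟨i, hij⟩ : {l // l ≠ j}) (vecMulVec v ψ) *ᵥ y = y := by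
      rw [← hu, oneM_mulVec, ctr_ins, hψ, one_smul]
    rw [← h1, ← key, oneM_mulVec]
    exact LinearMap.mem_range_self _ _

theorem block_meet (hk : 2 ≤ k) {i j : ι} {v w : W1} (h : i ≠ j) (hv : v ≠ 0) (hw : w ≠ 0) :
    ∃ z, z ≠ 0 ∧ z ∈ block i v ∧ z ∈ block j w := by
  set o : W1 := Pi.single ⟨0, by omega⟩ 1
  have ho : o ≠ 0 := by simp [o]
  refine ⟨pv (fun n => if n = i then v else if n = j then w else o), pv_ne_zero fun n => by split_ifs <;> assumption,
    pv_mem_block (if_pos rfl), pv_mem_block ?_⟩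
  show (if j = i then v else if j = j then w else o) = w
  rw [if_neg h.symm, if_pos rfl]

theorem block_disjoint {j : ι} {v w : W1} (h : v ∉ Submodule.span F {w}) (hw : w ≠ 0) {z : (ι → Fin k) → F}
    (h1 : z ∈ block j v) (h2 : z ∈ block j w) : z = 0 := by
  obtain ⟨η, hη, hηv⟩ := exists_functional h
  obtain ⟨u, rfl⟩ := h1
  have := (mem_block_iff hw).1 h2 η (hη w (Submodule.mem_span_singleton_self w))
  rw [ctr_ins, hηv, one_smul] at this
  rw [this, map_zero]

theorem kron_inj {α : Type} [Fintype α] [DecidableEq α] {A : Matrix α α F} {B : A1} (g : GL (α × Fin k) F)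
    (hg : (g : Matrix (α × Fin k) (α × Fin k) F) = A ⊗ₖ B) [Nonempty α] (hk : 0 < k) :
    IsUnit A ∧ IsUnit B := by
  have hd := GeneralLinearGroup.det_ne_zero g
  rw [hg, det_kronecker, Fintype.card_fin] at hd
  have hα : Fintype.card α ≠ 0 := Fintype.card_ne_zero
  constructor <;> rw [Matrix.isUnit_iff_isUnit_det, isUnit_iff_ne_zero] <;> intro e
  · rw [e, zero_pow (by omega), zero_mul] at hd; exact hd rfl
  · rw [e, zero_pow hα, mul_zero] at hd; exact hd rfl

/-- An element carrying every block at one factor to a block at the same factor splits at it. -/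
theorem split_of_maps (hk : 2 ≤ k) {g : GG} {j : ι}
    (h : ∀ z : W1, z ≠ 0 → ∃ z', z' ≠ 0 ∧ Maps g j z j z') :
    ∃ (C : GL ({l // l ≠ j} → Fin k) F) (N : GL (Fin k) F),
      TensorPowerMax.Basic.spU j g = TensorPowerMax.Side.kronGL C N := by
  classical
  haveI : Nonempty ({l // l ≠ j} → Fin k) := ⟨fun _ => ⟨0, by omega⟩⟩
  set o : W1 := Pi.single ⟨0, by omega⟩ 1
  have ho : o ≠ 0 := by simp [o]
  obtain ⟨o', ho', hmo⟩ := h o ho
  obtain ⟨η, hη⟩ := exists_dot_eq_one ho'
  let D : (({l // l ≠ j} → Fin k) → F) →ₗ[F] ({l // l ≠ j} → Fin k) → F :=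
    (ctr j η).comp ((Matrix.mulVecLin (g : Big)).comp (ins j o))
  have hDo : ∀ u, (g : Big) *ᵥ ins j o u = ins j o' (D u) := fun u => by
    obtain ⟨y, hy⟩ := hmo.mem u
    show _ = ins j o' (ctr j η ((g : Big) *ᵥ ins j o u))
    rw [← hy, ctr_ins, hη, one_smul]
  let Col : Submodule F W1 :=
    { carrier := {z | ∃ z', ∀ u, (g : Big) *ᵥ ins j z u = ins j z' (D u)}
      zero_mem' := ⟨0, fun u => by rw [ins_zero_vec, mulVec_zero, ins_zero_vec]⟩
      add_mem' := fun {x y} ⟨x', hx⟩ ⟨y', hy⟩ => ⟨x' + y', fun u => by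
        rw [ins_add_vec, mulVec_add, hx, hy, ins_add_vec]⟩
      smul_mem' := fun c x ⟨x', hx⟩ => ⟨c • x', fun u => by rw [ins_smul, mulVec_smul, hx, ins_smul]⟩ }
  have hoC : o ∈ Col := ⟨o', hDo⟩
  have hind : ∀ z, z ∉ Submodule.span F {o} → z ∈ Col := by
    intro z hz
    have hz0 : z ≠ 0 := fun e => hz (e ▸ Submodule.zero_mem _)
    obtain ⟨z', hz', hmz⟩ := h z hz0
    obtain ⟨s', hs', hms⟩ := h (o + z) (fun e => hz (Submodule.mem_span_singleton.2 ⟨-1, by
      rw [neg_one_smul, ← eq_neg_of_add_eq_zero_right e]⟩))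
    have hz'n : z' ∉ Submodule.span F {o'} := by
      intro e
      obtain ⟨c, hc⟩ := Submodule.mem_span_singleton.1 e
      obtain ⟨u, hu⟩ := hmz.mem fun _ => 1
      obtain ⟨u', hu'⟩ := hmo.exists_pre (c • u)
      rw [map_smul, ← ins_smul, hc, hu] at hu'
      have h1 : ins j o u' = ins j z fun _ => 1 := gl_mulVec_injective g hu'
      have h2 : ins j z (fun _ => (1 : F)) = 0 :=
        block_disjoint hz ho (LinearMap.mem_range_self _ _) ⟨u', h1⟩
      exact one_ne_zero (congrFun (ins_injective hz0 (h2.trans (map_zero _).symm)) (Classical.arbitrary _))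
    obtain ⟨η1, hη1, hη1z⟩ := exists_functional hz'n
    obtain ⟨η2, hη2, hη2o⟩ := exists_functional (span_swap ho' hz'n)
    have hsum : ∀ u, ∃ y, ins j o' (D u) + (g : Big) *ᵥ ins j z u = ins j s' y := fun u => by
      obtain ⟨y, hy⟩ := hms.mem u
      exact ⟨y, by rw [hy, ins_add_vec, mulVec_add, hDo]⟩
    have hgz : ∀ u, ∀ e, (g : Big) *ᵥ ins j z u = ins j z' e → η1 ⬝ᵥ s' ≠ 0 → η2 ⬝ᵥ s' ≠ 0 →
        e = (η1 ⬝ᵥ s' * (η2 ⬝ᵥ s')⁻¹) • D u := by
      intro u e he h1 h2
      obtain ⟨y, hy⟩ := hsum u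
      rw [he] at hy
      have e1 := congrArg (ctr j η1) hy
      have e2 := congrArg (ctr j η2) hy
      simp only [map_add, ctr_ins, hη1 o' (Submodule.mem_span_singleton_self o'), hη1z, hη2o,
        hη2 z' (Submodule.mem_span_singleton_self z'), zero_smul, one_smul, zero_add, add_zero] at e1 e2
      rw [e1, e2, smul_smul, mul_assoc, inv_mul_cancel₀ h2, mul_one]
    have hpos : η1 ⬝ᵥ s' ≠ 0 ∧ η2 ⬝ᵥ s' ≠ 0 := by
      obtain ⟨e, he⟩ := hmz.mem fun _ => 1
      obtain ⟨y, hy⟩ := hsum fun _ => 1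
      rw [← he] at hy
      have e1 := congrArg (ctr j η1) hy
      have e2 := congrArg (ctr j η2) hy
      simp only [map_add, ctr_ins, hη1 o' (Submodule.mem_span_singleton_self o'), hη1z, hη2o,
        hη2 z' (Submodule.mem_span_singleton_self z'), zero_smul, one_smul, zero_add, add_zero] at e1 e2
      have hne : ∀ {x : W1}, x ≠ 0 → ins j x (fun _ : {l // l ≠ j} → Fin k => (1 : F)) ≠ 0 := fun hx e =>
        one_ne_zero (congrFun (ins_injective hx (e.trans (map_zero _).symm)) (Classical.arbitrary _))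
      refine ⟨fun h0 => ?_, fun h0 => ?_⟩
      · rw [h0, zero_smul] at e1
        rw [e1, map_zero] at he
        exact hne hz0 (gl_mulVec_injective g (he.symm.trans (mulVec_zero _).symm))
      · rw [h0, zero_smul] at e2
        refine hne ho (gl_mulVec_injective g ?_)
        show (g : Big) *ᵥ _ = (g : Big) *ᵥ _
        rw [hDo, e2, map_zero]
        exact (mulVec_zero _).symm
    refine ⟨(η1 ⬝ᵥ s' * (η2 ⬝ᵥ s')⁻¹) • z', fun u => ?_⟩
    obtain ⟨e, he⟩ := hmz.mem u
    rw [← he, hgz u e he.symm hpos.1 hpos.2, map_smul, ins_smul]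
  have htop : ∀ z, z ∈ Col := fun z => by
    by_cases hz : z ∈ Submodule.span F {o}
    · exact (Submodule.span_le.2 (Set.singleton_subset_iff.2 hoC)) hz
    · exact hind z hz
  choose N hN using htop
  set Nm : A1 := Matrix.of fun d e => N (Pi.single e 1) d
  set Cm := LinearMap.toMatrix' D
  have hgN : (TensorPowerMax.Basic.spU j g).val = Cm ⊗ₖ Nm := by
    refine Matrix.ext fun p q => ?_
    obtain ⟨r, d⟩ := p
    obtain ⟨r', e⟩ := q
    rw [coe_spU, sp_apply, kroneckerMap_apply]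
    have h1 := congrFun (hN (Pi.single e 1) (Pi.single r' 1)) ((TensorPowerMax.Basic.split j).symm (r, d))
    have h2 : ins j (Pi.single e (1 : F)) (Pi.single r' 1) = Pi.single ((TensorPowerMax.Basic.split j).symm (r', e)) 1 := by
      ext x
      obtain ⟨⟨x1, x2⟩, rfl⟩ := (TensorPowerMax.Basic.split j).symm.surjective x
      simp only [ins, LinearMap.coe_mk, AddHom.coe_mk, Equiv.apply_symm_apply, split_symm_self, Pi.single_apply,
        EmbeddingLike.apply_eq_iff_eq, Prod.mk.injEq]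
      split_ifs <;> simp_all
    rw [h2, mulVec_single_one, Matrix.col_apply] at h1
    rw [h1]
    simp only [ins, LinearMap.coe_mk, AddHom.coe_mk, Equiv.apply_symm_apply, split_symm_self, Cm, Nm,
      LinearMap.toMatrix'_apply, Matrix.of_apply]
  obtain ⟨⟨C, hC⟩, N', hN'⟩ := kron_inj _ hgN (by omega)
  exact ⟨C, N', Units.ext (by rw [hgN, ← hC, ← hN']; rfl)⟩

/-- An element permuting all blocks lies in the stabiliser. -/
theorem mem_stab_of_maps (hk : 2 ≤ k) : ∀ (n : ℕ) (ι : Type) [Fintype ι] [DecidableEq ι],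
    Fintype.card ι = n → 0 < n → ∀ g : GL (ι → Fin k) F,
    (∀ i (v : Fin k → F), v ≠ 0 → ∃ j w, w ≠ 0 ∧ Maps g i v j w) → g ∈ stab ι k F := by
  intro n
  induction n using Nat.strong_induction_on with
  | _ n ih =>
    intro ι _ _ hn hn0 g h
    by_cases h1 : n = 1
    · exact TensorPowerMax.BlockTo.mem_stab_of_unique (hn.trans h1) g
    haveI : Nonempty ι := Fintype.card_pos_iff.1 (by omega)
    set i0 := Classical.arbitrary ι
    set o : Fin k → F := Pi.single ⟨0, by omega⟩ 1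
    have ho : o ≠ 0 := by simp [o]
    obtain ⟨j0, w0, hw0, hm0⟩ := h i0 o ho
    have hfac : ∀ z, z ≠ 0 → ∃ z', z' ≠ 0 ∧ Maps g i0 z j0 z' := by
      intro z hz
      obtain ⟨j1, w1, hw1, hm1⟩ := h i0 z hz
      by_cases hzo : z ∈ Submodule.span F {o}
      · obtain ⟨c, rfl⟩ := Submodule.mem_span_singleton.1 hzo
        refine ⟨w0, hw0, maps_of_le hz hw0 fun u => ?_⟩
        rw [ins_smul, ← map_smul]
        exact hm0.mem _
      refine ⟨w1, hw1, ?_⟩
      by_cases hj : j1 = j0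
      · rwa [← hj]
      exfalso
      obtain ⟨x, hx0, hx1, hx2⟩ := block_meet hk hj hw1 hw0
      obtain ⟨u1, rfl⟩ := hx1
      obtain ⟨y1, hy1⟩ := hm1.exists_pre u1
      obtain ⟨u2, hu2⟩ := hx2
      obtain ⟨y2, hy2⟩ := hm0.exists_pre u2
      rw [hu2, ← hy1] at hy2
      have e : ins i0 o y2 = ins i0 z y1 := gl_mulVec_injective g hy2
      have h2 : ins i0 z y1 = 0 := block_disjoint hzo ho (LinearMap.mem_range_self _ _) ⟨y2, e⟩
      exact hx0 (by rw [← hy1, h2, mulVec_zero])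
    set τ := Equiv.swap j0 i0
    set g' : GL (ι → Fin k) F := pmGL τ * g with hg'
    have hτ : ∀ (l : ι) (w : Fin k → F), w ≠ 0 → ∀ u, ((pmGL τ : GL (ι → Fin k) F) : Matrix _ _ F) *ᵥ ins l w u ∈
        block (τ l) w := fun l w hw u => by
      have := TensorPowerMax.Roots.tw_mulVec_block (1 : ι → GL (Fin k) F) τ (z := ins l w u) hw
        (LinearMap.mem_range_self _ _)
      rwa [map_one, one_mul, Pi.one_apply, Units.val_one, one_mulVec] at this
    have hcomp : ∀ i v j w, v ≠ 0 → w ≠ 0 → Maps g i v j w → Maps g' i v (τ j) w := fun i v j w hv hw hm =>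
      maps_of_le hv hw fun u => by
        rw [hg', gl_mul_mulVec]
        obtain ⟨y, hy⟩ := hm.mem u
        rw [← hy]
        exact hτ j w hw y
    have hfac' : ∀ z, z ≠ 0 → ∃ z', z' ≠ 0 ∧ Maps g' i0 z i0 z' := fun z hz => by
      obtain ⟨z', hz', hm⟩ := hfac z hz
      refine ⟨z', hz', ?_⟩
      have := hcomp _ _ _ _ hz hz' hm
      rwa [show τ j0 = i0 from Equiv.swap_apply_left _ _] at this
    obtain ⟨C, N, hCN⟩ := split_of_maps hk hfac'
    suffices hC : C ∈ stab {l // l ≠ i0} k F by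
      have := mul_mem (inv_mem (pmGL_mem_stab τ)) (TensorPowerMax.BlockTo.mem_stab_of_kron hC hCN)
      rwa [hg', inv_mul_cancel_left] at this
    have hcard : Fintype.card {l // l ≠ i0} = n - 1 := by
      rw [Fintype.card_subtype_compl, Fintype.card_subtype_eq, hn]
    refine ih (n - 1) (by omega) _ hcard (by omega) C fun i v hv => ?_
    obtain ⟨j, w, hw, hm⟩ := h i.1 v hv
    have hm' := hcomp _ _ _ _ hv hw hm
    have hgins : ∀ z y, (g' : Matrix (ι → Fin k) (ι → Fin k) F) *ᵥ ins i0 z y =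
        ins i0 ((N : Matrix (Fin k) (Fin k) F) *ᵥ z) ((C : Matrix ({l // l ≠ i0} → Fin k) ({l // l ≠ i0} → Fin k) F) *ᵥ y) := by
      intro z y
      have h1 := TensorPowerMax.Roots.sp_mulVec i0 (g' : Matrix (ι → Fin k) (ι → Fin k) F) (ins i0 z y)
      rw [show sp i0 (g' : Matrix (ι → Fin k) (ι → Fin k) F) = C.val ⊗ₖ N.val by rw [← coe_spU, hCN]; rfl,
        TensorPowerMax.Roots.ins_comp, TensorPowerMax.Side.kron_mulVec_tens,
        ← TensorPowerMax.Roots.ins_comp] at h1
      ext x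
      have h2 := congrFun h1 (TensorPowerMax.Basic.split i0 x)
      simpa using h2.symm
    have hne : τ j ≠ i0 := by
      intro e
      obtain ⟨z, hz⟩ := (avoid_two hk w w).imp fun z h => h.1
      have hz0 : z ≠ 0 := fun e0 => hz (e0 ▸ Submodule.zero_mem _)
      set z0 : Fin k → F := ((N⁻¹ : GL (Fin k) F) : Matrix (Fin k) (Fin k) F) *ᵥ z
      obtain ⟨x, hx0, hx1, hx2⟩ := block_meet hk i.2 hv (gl_ne_zero (N⁻¹) hz0)
      obtain ⟨u1, rfl⟩ := hx1
      obtain ⟨u2, hu2⟩ := hx2
      have h1 := hm'.mem u1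
      rw [e, ← hu2, hgins, gl_mulVec_inv] at h1
      have h2 := block_disjoint hz hw (LinearMap.mem_range_self _ _) h1
      rw [← gl_mulVec_inv N z, ← hgins] at h2
      exact hx0 (by
        rw [← hu2]
        exact gl_mulVec_injective g' (h2.trans (mulVec_zero _).symm))
    refine ⟨⟨τ j, hne⟩, w, hw, maps_of_le hv hw fun u => ?_⟩
    have h1 : ins i0 o (ins i v u) ∈ block i.1 v :=
      (mem_block_ins i.2 ho hv).2 (LinearMap.mem_range_self _ _)
    obtain ⟨y, hy⟩ := h1
    have h2 := hm'.mem y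
    rw [hy, hgins] at h2
    exact (mem_block_ins hne (gl_ne_zero N ho) hw).1 h2

end Cfsg.Agent.Lib.TensorSympMax.Quad
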