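import Cfsg.Agent.Lib.TensorSympMax.Atoms

/-!
An algebra of endomorphisms of a tensor power of an alternating space, normalised by the isometries of the
factors and their permutations, is trivial or everything.
-/

set_option autoImplicit false
set_option linter.unusedSectionVars false
set_option linter.style.haveILetI false

namespace Cfsg.Agent.Lib.TensorSympMax.AlgTop

open Matrix
open Cfsg.Agent.Lib.Subspaces.Transvection Cfsg.Agent.Lib.Subspaces.FormVec
  Cfsg.Agent.Lib.TensorPowerMax.Basic Cfsg.Agent.Lib.TensorSympMax.Basic Cfsg.Agent.Lib.TensorSympMax.Atoms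

variable {ι : Type} [Fintype ι] [DecidableEq ι] {k : ℕ} {F : Type*} [Field F]

local notation "A1" => Matrix (Fin k) (Fin k) F
local notation "Big" => Matrix (ι → Fin k) (ι → Fin k) F
local notation "GG" => GL (ι → Fin k) F
local notation "W1" => Fin k → F

/-- Conjugation by the isometries of single factors preserves the set. -/
def OneInv (f : (Fin k → F) → (Fin k → F) → F) (K : Set (Matrix (ι → Fin k) (ι → Fin k) F)) : Prop :=
  ∀ (i : ι) (b : GL (Fin k) F),
    (∀ x y, f ((b : Matrix (Fin k) (Fin k) F) *ᵥ x) ((b : Matrix (Fin k) (Fin k) F) *ᵥ y) = f x y) →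
    ∀ X ∈ K, (oneGL i b : Matrix (ι → Fin k) (ι → Fin k) F) * X *
      (((oneGL i b)⁻¹ : GL (ι → Fin k) F) : Matrix (ι → Fin k) (ι → Fin k) F) ∈ K

theorem oneGL_inv (i : ι) (b : GL (Fin k) F) : (oneGL i b : GG)⁻¹ = oneGL i b⁻¹ :=
  inv_eq_of_mul_eq_one_right (Units.ext (by
    rw [Units.val_mul, coe_oneGL, coe_oneGL, oneM_mul, ← Units.val_mul, mul_inv_cancel, Units.val_one, oneM_one,
      Units.val_one]))

variable {f : (Fin k → F) → (Fin k → F) → F} (hf : Cfsg.Geo.IsSymplecticForm f)
include hf

theorem er_sq (v : W1) : er f v * er f v = 0 := by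
  rw [er, vecMulVec_mul_vecMulVec, formVec_self hf, zero_smul, vecMulVec_zero]

/-- The transvection as a unit. -/
theorem exists_tv (v : W1) (c : F) : ∃ b : GL (Fin k) F,
    (∀ x y, f ((b : A1) *ᵥ x) ((b : A1) *ᵥ y) = f x y) ∧
      (b : A1) = 1 + c • er f v ∧ ((b⁻¹ : GL (Fin k) F) : A1) = 1 - c • er f v := by
  have h0 : (c • formVec f v) ⬝ᵥ v = 0 := by rw [smul_dotProduct, formVec_self hf, smul_zero]
  have h1 : ((tv v (c • formVec f v) : GL (Fin k) F) : A1) = 1 + c • er f v := by
    rw [coe_tv h0, vecMulVec_smul, er]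
  refine ⟨_, tv_isometry hf v c, h1, Units.inv_eq_of_mul_eq_one_right ?_⟩
  rw [h1, add_mul, one_mul, mul_sub, mul_one, smul_mul_smul_comm, er_sq hf, smul_zero, sub_zero, sub_add_cancel]

/-- A transvection moves both vectors of a rank one map. -/
theorem tv_rank_one (t x y : W1) :
    (1 + er f t) * vecMulVec x (formVec f y) * (1 - er f t) =
      vecMulVec (x + f x t • t) (formVec f (y + f y t • t)) := by
  refine Matrix.mulVec_injective (funext fun z => ?_)
  rw [← mulVec_mulVec, ← mulVec_mulVec, sub_mulVec, one_mulVec, er_mulVec hf, vecMulVec_mulVec, op_smul_eq_smul,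
    mulVec_smul, add_mulVec, one_mulVec, er_mulVec hf, dot hf, vecMulVec_mulVec, op_smul_eq_smul, dot hf,
    hf.bilinear.add_right, hf.bilinear.smul_right, sub_eq_add_neg, ← neg_smul, hf.bilinear.add_left,
    hf.bilinear.smul_left, hf.skew t y]
  congr 1
  ring

theorem rootInv {Q : AddSubgroup Big} (hQ : OneInv f (Q : Set Big)) : RootInv f Q := by
  intro i v c A hA
  obtain ⟨b, hb, h1, h2⟩ := exists_tv hf v c
  have h := hQ i b hb A hA
  rw [oneGL_inv, coe_oneGL, coe_oneGL, h1, h2] at h
  rwa [oneM_add, oneM_one, sub_eq_add_neg (1 : A1), ← neg_smul, oneM_add, oneM_one, oneM_smul, oneM_smul,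
    neg_smul, ← sub_eq_add_neg] at h

/-! ### characteristic two -/

section Two

variable (h2 : (2 : F) = 0) (hk : 3 ≤ k) {Q : AddSubgroup (Matrix (ι → Fin k) (ι → Fin k) F)}
  (hQ : RootInv f Q)
include h2 hk hQ

/-- One step of the reduction. -/
theorem step_two [Finite F] {i : ι} {a : ι → A1} (hai : a i = 1) {A : Big} (hA : pt a * A ∈ Q) :
    (∃ (b : A1) (φ u : W1), Atom f b ∧ coefAt i A φ u ≠ 0 ∧ pt a * (oneM i b * coefAt i A φ u) ∈ Q) ∨
      Triv i A := by
  classical
  haveI : Nonempty (Fin k) := ⟨⟨0, by omega⟩⟩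
  have hneg : ∀ X : Big, -X = X := fun X => by
    refine neg_eq_of_add_eq_zero_left ?_
    rw [← two_smul F X, h2, zero_smul]
  set B := pt a * A
  set c : W1 → W1 → Big := fun x y => coefAt i A (formVec f x) y with hcdef
  have hφadd : ∀ x y : W1, formVec f (x + y) = formVec f x + formVec f y := fun x y =>
    funext fun _ => hf.bilinear.add_right _ _ _
  have hcl : ∀ x x' y, c (x + x') y = c x y + c x' y := fun x x' y => by
    simp only [hcdef, hφadd, coefAt_add_left]
  have hcr : ∀ x y y', c x (y + y') = c x y + c x y' := fun x y y' => coefAt_add_right _ _ _ _ _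
  have hcomm : ∀ b : A1, oneM i b * pt a = pt a * oneM i b := fun b => by
    rw [oneM_mul_pt, pt_mul_oneM, hai, mul_one, one_mul]
  have hsand : ∀ x y : W1, oneM i (er f x) * B * oneM i (er f y) =
      pt a * (oneM i (vecMulVec x (formVec f y)) * c x y) := fun x y => by
    rw [← mul_assoc, hcomm, mul_assoc, mul_assoc, ← mul_assoc (oneM i _)]
    exact congrArg _ (coefAt_mul i A (formVec f x) y x (formVec f y)).symm
  have hpair : ∀ v v' : W1, f v v' = 0 →
      pt a * (oneM i (vecMulVec v' (formVec f v)) * c v' v + oneM i (vecMulVec v (formVec f v')) * c v v') ∈ Q := by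
    intro v v' hvv
    have h12 : oneM i (er f v') * oneM i (er f v) = 0 := by
      rw [oneM_mul, er, er, vecMulVec_mul_vecMulVec, dot hf, hvv, zero_smul, vecMulVec_zero, oneM_zero]
    have h21 : oneM i (er f v) * oneM i (er f v') = 0 := by
      rw [oneM_mul, er, er, vecMulVec_mul_vecMulVec, dot hf, hf.skew, hvv, neg_zero, zero_smul, vecMulVec_zero,
        oneM_zero]
    rw [mul_add, ← hsand, ← hsand]
    set E := oneM i (er f v) with hE
    set E' := oneM i (er f v') with hE'
    have hD := hQ i v 1 B hA
    rw [one_smul, ← hE] at hD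
    have hD' := Q.sub_mem hD hA
    have hD2 := hQ i v' 1 _ hD'
    rw [one_smul, ← hE'] at hD2
    have := Q.neg_mem (Q.sub_mem hD2 hD')
    convert this using 1
    noncomm_ring
    simp only [← mul_assoc, h12, h21, zero_mul, mul_zero, add_zero, zero_add, smul_zero, sub_zero]
  by_cases h1 : ∃ v, c v v ≠ 0
  · obtain ⟨v, hd⟩ := h1
    have hv : v ≠ 0 := fun e => hd (by subst e; simp [hcdef, coefAt, zero_vecMulVec, oneM_zero])
    obtain ⟨v', hv'n, hv'⟩ := exists_common_zero_not_mem (Submodule.span F {v}) ![formVec f v]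
      (by rw [finrank_span_singleton hv, Fintype.card_fin]; omega)
    have hv'v : f v' v = 0 := by rw [← dot hf]; exact hv' 0
    have hvv' : f v v' = 0 := by rw [hf.skew, hv'v, neg_zero]
    obtain ⟨η, hη, hηv⟩ := exists_functional hv'n
    obtain ⟨t, rfl⟩ := formVec_onto hf η
    have hvt : f v t = 0 := by rw [← dot hf]; exact hη v (Submodule.mem_span_singleton_self v)
    have hv't : f v' t = 1 := by rw [← dot hf, hηv]
    have hnt : t ∉ Submodule.span F {v} := fun e => by
      obtain ⟨d, rfl⟩ := Submodule.mem_span_singleton.1 e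
      rw [hf.bilinear.smul_right, hv'v, mul_zero] at hv't
      exact zero_ne_one hv't
    refine Or.inl ⟨la f v t, formVec f v, v, Or.inr ⟨v, t, hvt, hnt, hv, rfl⟩, hd, ?_⟩
    have hm1 := hpair v (v' + v) (by rw [hf.bilinear.add_right, hvv', hf.alternating, add_zero])
    have hm := Q.sub_mem hm1 (hpair v v' hvv')
    set r := vecMulVec v (formVec f v) with hr
    set s := vecMulVec v' (formVec f v) + vecMulVec v (formVec f v') with hs
    set C := c v' v + c v v' with hC
    set d := c v v with hdd
    have hZ : pt a * (oneM i r * C + oneM i s * d) ∈ Q := by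
      convert hm using 1
      rw [← mul_sub, hcl, hcr, hφadd, vecMulVec_add, add_vecMulVec, oneM_add, oneM_add, oneM_add, ← hr, ← hdd, hC]
      congr 1
      have h2X : ∀ X : Big, X + X = 0 := fun X => by rw [← two_smul F X, h2, zero_smul]
      have h2Y : ∀ X Y : Big, X + (X + Y) = Y := fun X Y => by rw [← add_assoc, h2X, zero_add]
      simp only [sub_eq_add_neg, hneg, add_mul, mul_add]
      set P := oneM i r * d
      set P' := oneM i (vecMulVec v' (formVec f v)) * c v' v
      rw [← sub_eq_zero, sub_eq_add_neg, hneg]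
      abel_nf
      simp only [two_nsmul, two_zsmul, h2X, add_zero, zero_add]
    have hT := Q.sub_mem (hQ i t 1 _ hZ) hZ
    convert hT using 1
    rw [one_smul]
    have hE : ∀ (b : A1) (G : Big), Triv i G → (1 + oneM i (er f t)) * (pt a * (oneM i b * G)) *
        (1 - oneM i (er f t)) = pt a * (oneM i ((1 + er f t) * b * (1 - er f t)) * G) := fun b G hG => by
      have e1 : 1 + oneM i (er f t) = oneM i (1 + er f t) := by rw [oneM_add, oneM_one]
      have e2 : 1 - oneM i (er f t) = oneM i (1 - er f t) := by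
        rw [eq_sub_iff_add_eq.2 (show oneM i (1 - er f t) + oneM i (er f t) = 1 by
          rw [← oneM_add, sub_add_cancel, oneM_one])]
      rw [e1, e2, ← mul_assoc, hcomm, mul_assoc, mul_assoc, mul_assoc, ← hG, ← oneM_mul, ← oneM_mul]
      simp only [mul_assoc]
    have hTC : Triv i C := fun b => by
      rw [hC, mul_add, add_mul, coefAt_triv i A _ _ b, coefAt_triv i A _ _ b]
    have hr' : (1 + er f t) * r * (1 - er f t) = r := by
      rw [hr, tv_rank_one hf, hvt, zero_smul, add_zero]
    have hs' : (1 + er f t) * s * (1 - er f t) = s + la f v t := by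
      rw [hs, mul_add, add_mul, tv_rank_one hf, tv_rank_one hf, hvt, hv't, zero_smul, add_zero, one_smul,
        add_vecMulVec, hφadd, vecMulVec_add, la, sub_eq_add_neg,
        show -vecMulVec t (formVec f v) = vecMulVec t (formVec f v) from neg_eq_of_add_eq_zero_left (by
          rw [← two_smul F (vecMulVec t (formVec f v)), h2, zero_smul])]
      abel
    rw [mul_add (pt a), mul_add, add_mul, hE r C hTC, hE s d (coefAt_triv i A _ _), hr', hs', oneM_add, add_mul,
      mul_add]
    rw [hdd]
    simp only [hcdef, mul_add]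
    abel
  push Not at h1
  by_cases h3 : ∃ v v', f v v' = 0 ∧ c v v' ≠ 0
  · obtain ⟨v, v', hvv, hne⟩ := h3
    have hv : v ≠ 0 := fun e => hne (by
      subst e
      have := h1 v'
      have e0 : formVec f (0 : W1) = 0 := funext fun _ => zero_right hf _
      simp [hcdef, coefAt, e0, vecMulVec_zero, oneM_zero])
    have hn : v' ∉ Submodule.span F {v} := fun e => by
      obtain ⟨d, rfl⟩ := Submodule.mem_span_singleton.1 e
      refine hne ?_
      simp only [hcdef, coefAt_smul_right]
      rw [show coefAt i A (formVec f v) v = 0 from h1 v, smul_zero]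
    refine Or.inl ⟨la f v v', formVec f v, v', Or.inr ⟨v, v', hvv, hn, hv, rfl⟩, hne, ?_⟩
    have heq : c v' v = c v v' := by
      have h4 := h1 (v + v')
      rw [hcl, hcr, hcr, h1, h1, zero_add, add_zero] at h4
      rw [eq_neg_of_add_eq_zero_right h4, hneg]
    have := hpair v v' hvv
    convert this using 1
    rw [heq, la, sub_eq_add_neg, oneM_add, ← neg_one_smul F, oneM_smul, neg_one_smul, hneg, add_mul, add_comm]
  push Not at h3
  refine Or.inr (triv_of_coef fun φ u hφ => ?_)
  obtain ⟨v, rfl⟩ := formVec_onto hf φ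
  rw [dot hf] at hφ
  exact h3 v u (by rw [hf.skew, hφ, neg_zero])

/-- Reduction to a pure tensor of atoms in characteristic two. -/
theorem exists_pure_two [Finite F] {A : Big} (hA : A ∈ Q) (hns : ∀ c : F, A ≠ c • 1) :
    ∃ (S : Finset ι) (a : ι → A1) (c : F), S.Nonempty ∧ c ≠ 0 ∧ (∀ i ∈ S, Atom f (a i)) ∧
      (∀ i, i ∉ S → a i = 1) ∧ c • pt a ∈ Q := by
  classical
  haveI : Nonempty (Fin k) := ⟨⟨0, by omega⟩⟩
  have key : ∀ T : Finset ι, ∃ (S : Finset ι) (a : ι → A1) (A' : Big), S ⊆ T ∧ (∀ i ∈ S, Atom f (a i)) ∧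
      (∀ i, i ∉ S → a i = 1) ∧ A' ≠ 0 ∧ (∀ i ∈ T, Triv i A') ∧ pt a * A' ∈ Q ∧ (S = ∅ → A' = A) := by
    intro T
    induction T using Finset.induction_on with
    | empty =>
      exact ⟨∅, 1, A, subset_rfl, by simp, fun _ _ => rfl, fun e => hns 0 (by rw [e, zero_smul]), by simp,
        by rwa [pt_one, one_mul], fun _ => rfl⟩
    | insert i T hi ih =>
      obtain ⟨S, a, A', hST, hat, hone, hne, htr, hmem, hempty⟩ := ih
      have hiS : i ∉ S := fun h => hi (hST h)
      have hai : a i = 1 := hone i hiS
      rcases step_two hf h2 hk hQ hai hmem with ⟨b, φ, u, hb, hc, hm⟩ | htriv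
      · refine ⟨insert i S, Function.update a i b, coefAt i A' φ u, Finset.insert_subset_insert _ hST,
          fun l hl => ?_, fun l hl => ?_, hc, fun l hl => ?_, ?_,
          fun e => absurd e (Finset.insert_ne_empty _ _)⟩
        · rcases Finset.mem_insert.1 hl with rfl | hl'
          · rwa [Function.update_self]
          · rw [Function.update_of_ne (fun e : l = i => hiS (e ▸ hl'))]; exact hat l hl'
        · simp only [Finset.mem_insert, not_or] at hl
          rw [Function.update_of_ne hl.1]; exact hone l hl.2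
        · rcases Finset.mem_insert.1 hl with rfl | hl'
          · exact coefAt_triv _ _ _ _
          · exact coefAt_triv_of (fun e : l = i => hi (e ▸ hl')) (htr l hl') _ _
        · rwa [← mul_assoc, pt_mul_oneM, hai, one_mul] at hm
      · exact ⟨S, a, A', hST.trans (Finset.subset_insert _ _), hat, hone, hne, fun l hl => by
          rcases Finset.mem_insert.1 hl with rfl | hl'
          · exact htriv
          · exact htr l hl', hmem, hempty⟩
  obtain ⟨S, a, A', -, hat, hone, hne, htr, hmem, hempty⟩ := key Finset.univ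
  obtain ⟨c, rfl⟩ := eq_smul_one fun i => htr i (Finset.mem_univ i)
  refine ⟨S, a, c, Finset.nonempty_iff_ne_empty.2 fun e => hns c (hempty e).symm,
    fun e => hne (by rw [e, zero_smul]), hat, hone, ?_⟩
  rwa [Matrix.mul_smul, mul_one] at hmem

end Two

/-! ### one factor -/

/-- A space of endomorphisms of one factor normalised by transvections and containing an idempotent of rank
one is everything. -/
theorem slot_top [Finite F] (W : Submodule F A1) (hW : ∀ t : W1, ∀ X ∈ W, (1 + er f t) * X * (1 - er f t) ∈ W)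
    {v w : W1} (hvw : f v w ≠ 0) (hm : vecMulVec v (formVec f w) ∈ W) : W = ⊤ := by
  classical
  have hadd : ∀ x y : W1, formVec f (x + y) = formVec f x + formVec f y := fun x y =>
    funext fun _ => hf.bilinear.add_right _ _ _
  have hsmul : ∀ (c : F) (y : W1), formVec f (c • y) = c • formVec f y := fun c y =>
    funext fun _ => hf.bilinear.smul_right _ _ _
  -- the first vector
  have left : ∀ {v w : W1}, f v w ≠ 0 → vecMulVec v (formVec f w) ∈ W → ∀ x, vecMulVec x (formVec f w) ∈ W := by
    intro v w hvw hm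
    have key : ∀ t, f t w = 0 → vecMulVec t (formVec f w) ∈ W := by
      have k0 : ∀ t, f t w = 0 → f v t ≠ 0 → vecMulVec t (formVec f w) ∈ W := fun t ht hvt => by
        have h := W.sub_mem (hW t _ hm) hm
        rw [tv_rank_one hf, show f w t = 0 by rw [hf.skew, ht, neg_zero], zero_smul, add_zero, add_vecMulVec,
          add_sub_cancel_left, smul_vecMulVec] at h
        exact (W.smul_mem_iff hvt).1 h
      intro t ht
      by_cases hvt : f v t = 0
      · have h1 := k0 (t + w) (by rw [hf.bilinear.add_left, ht, hf.alternating, add_zero])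
          (by rw [hf.bilinear.add_right, hvt, zero_add]; exact hvw)
        rw [add_vecMulVec] at h1
        have := W.sub_mem h1 (k0 w (hf.alternating w) hvw)
        rwa [add_sub_cancel_right] at this
      · exact k0 t ht hvt
    intro x
    set μ := f x w / f v w
    have := W.add_mem (key (x + (-μ) • v) (by
      rw [hf.bilinear.add_left, hf.bilinear.smul_left, neg_mul, div_mul_cancel₀ _ hvw, add_neg_cancel]))
      (W.smul_mem μ hm)
    rwa [add_vecMulVec, ← smul_vecMulVec μ, ← add_vecMulVec, ← add_vecMulVec, neg_smul, neg_add_cancel_right] at this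
  -- the second vector
  have right : ∀ {v w : W1}, f v w ≠ 0 → vecMulVec v (formVec f w) ∈ W → ∀ y, vecMulVec v (formVec f y) ∈ W := by
    intro v w hvw hm
    have key : ∀ t, f v t = 0 → vecMulVec v (formVec f t) ∈ W := by
      have k0 : ∀ t, f v t = 0 → f w t ≠ 0 → vecMulVec v (formVec f t) ∈ W := fun t ht hwt => by
        have h := W.sub_mem (hW t _ hm) hm
        rw [tv_rank_one hf, ht, zero_smul, add_zero, hadd, vecMulVec_add, add_sub_cancel_left, hsmul,
          vecMulVec_smul] at h
        exact (W.smul_mem_iff hwt).1 h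
      have hwv : f w v ≠ 0 := by rw [hf.skew]; exact neg_ne_zero.2 hvw
      intro t ht
      by_cases hwt : f w t = 0
      · have h1 := k0 (t + v) (by rw [hf.bilinear.add_right, ht, hf.alternating, add_zero])
          (by rw [hf.bilinear.add_right, hwt, zero_add]; exact hwv)
        rw [hadd, vecMulVec_add] at h1
        have := W.sub_mem h1 (k0 v (hf.alternating v) hwv)
        rwa [add_sub_cancel_right] at this
      · exact k0 t ht hwt
    intro y
    set μ := f v y / f v w
    have := W.add_mem (key (y + (-μ) • w) (by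
      rw [hf.bilinear.add_right, hf.bilinear.smul_right, neg_mul, div_mul_cancel₀ _ hvw, add_neg_cancel]))
      (W.smul_mem μ hm)
    rwa [hadd, hsmul, vecMulVec_add, vecMulVec_smul, neg_smul, neg_add_cancel_right] at this
  have hall : ∀ x y, vecMulVec x (formVec f y) ∈ W := by
    intro x y
    by_cases hx : f x w = 0
    · have h1 := right (show f (x + v) w ≠ 0 by rw [hf.bilinear.add_left, hx, zero_add]; exact hvw)
        (left hvw hm _) y
      rw [add_vecMulVec] at h1
      have := W.sub_mem h1 (right hvw hm y)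
      rwa [add_sub_cancel_right] at this
    · exact right hx (left hvw hm _) y
  refine eq_top_iff.2 fun X _ => ?_
  rw [Matrix.matrix_eq_sum_single X]
  refine sum_mem fun a _ => sum_mem fun b _ => ?_
  obtain ⟨y, hy⟩ := formVec_onto hf (Pi.single b (1 : F))
  rw [show Matrix.single a b (X a b) = X a b • Matrix.single a b (1 : F) by
    rw [Matrix.smul_single, smul_eq_mul, mul_one], Matrix.single_eq_single_vecMulVec_single, ← hy]
  exact W.smul_mem _ (hall _ y)

/-- A normalised algebra with a non-scalar element is everything. -/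
theorem eq_top [Finite F] (hk : (2 : F) ≠ 0 ∨ 3 ≤ k) (R : Subalgebra F Big) (hinv : OneInv f (R : Set Big))
    (hperm : ∀ (σ : Equiv.Perm ι), ∀ X ∈ R, pm σ * X * pm σ⁻¹ ∈ R) {A : Big} (hA : A ∈ R)
    (hns : ∀ c : F, A ≠ c • 1) : R = ⊤ := by
  classical
  haveI : Nonempty (Fin k) := by
    by_contra hc
    rw [not_nonempty_iff] at hc
    rcases isEmpty_or_nonempty ι with hι | hι
    · exact hns (A default default) (Matrix.ext fun p q => by
        obtain rfl : p = default := Subsingleton.elim _ _
        obtain rfl : q = default := Subsingleton.elim _ _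
        simp)
    · exact hns 0 (Matrix.ext fun p _ => isEmptyElim (p (Classical.arbitrary ι)))
  set Q : AddSubgroup Big := (Subalgebra.toSubmodule R).toAddSubgroup
  have hQ : RootInv f Q := rootInv hf hinv
  obtain ⟨S, a, c, hne, hc, hat, hone, hmem⟩ : ∃ (S : Finset ι) (a : ι → A1) (c : F), S.Nonempty ∧ c ≠ 0 ∧
      (∀ i ∈ S, Atom f (a i)) ∧ (∀ i, i ∉ S → a i = 1) ∧ c • pt a ∈ Q := by
    by_cases h2 : (2 : F) = 0
    · exact exists_pure_two hf h2 (hk.resolve_left (not_not.2 h2)) hQ hA hns
    · exact exists_pure hf hQ h2 hA hns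
  have hpa : pt a ∈ R := by
    have := R.smul_mem (show c • pt a ∈ R from hmem) c⁻¹
    rwa [inv_smul_smul₀ hc] at this
  have hconj : ∀ {a : ι → A1}, pt a ∈ R → ∀ g : ι → GL (Fin k) F,
      (∀ i x y, f ((g i : A1) *ᵥ x) ((g i : A1) *ᵥ y) = f x y) →
      pt (fun i => a i * ((g i : A1) * a i * (((g i)⁻¹ : GL (Fin k) F) : A1))) ∈ R := by
    intro a ha g hg
    suffices h : ∀ T : Finset ι,
        pt (fun i => if i ∈ T then (g i : A1) * a i * (((g i)⁻¹ : GL (Fin k) F) : A1) else a i) ∈ R by
      have := R.mul_mem ha (h Finset.univ)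
      simpa [pt_mul, Pi.mul_def] using this
    intro T
    induction T using Finset.induction_on with
    | empty => simpa using ha
    | insert i T hi ih =>
      have h := hinv i (g i) (hg i) _ ih
      rw [oneGL_inv, coe_oneGL, coe_oneGL, oneM_mul_pt, pt_mul_oneM, Function.update_self, Function.update_idem,
        if_neg hi] at h
      rwa [show (fun l => if l ∈ insert i T then (g l : A1) * a l * (((g l)⁻¹ : GL (Fin k) F) : A1) else a l) =
        Function.update (fun l => if l ∈ T then (g l : A1) * a l * (((g l)⁻¹ : GL (Fin k) F) : A1) else a l) i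
          ((g i : A1) * a i * (((g i)⁻¹ : GL (Fin k) F) : A1)) from funext fun l => by
        by_cases hl : l = i
        · subst hl; simp
        · simp [Finset.mem_insert, hl, Function.update_of_ne hl]]
  -- rank one at every factor of the support
  let P1 : A1 → Prop := fun b => ∃ v w, f v w ≠ 0 ∧ b = vecMulVec v (formVec f w)
  let P2 : A1 → Prop := fun b => ∃ v, v ≠ 0 ∧ b = er f v
  have hid : ∀ x y, f (((1 : GL (Fin k) F) : A1) *ᵥ x) (((1 : GL (Fin k) F) : A1) *ᵥ y) = f x y := fun x y => by
    rw [Units.val_one, one_mulVec, one_mulVec]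
  have stage : ∀ (P P' : A1 → Prop), (∀ b, P b → ∃ g : GL (Fin k) F,
      (∀ x y, f ((g : A1) *ᵥ x) ((g : A1) *ᵥ y) = f x y) ∧ P' (b * ((g : A1) * b * ((g⁻¹ : GL (Fin k) F) : A1)))) →
      (∃ a : ι → A1, pt a ∈ R ∧ (∀ i ∈ S, P (a i)) ∧ ∀ i, i ∉ S → a i = 1) →
      ∃ a : ι → A1, pt a ∈ R ∧ (∀ i ∈ S, P' (a i)) ∧ ∀ i, i ∉ S → a i = 1 := by
    rintro P P' h ⟨a, ha, hP, h1⟩
    have hg : ∀ i, ∃ g : GL (Fin k) F, (∀ x y, f ((g : A1) *ᵥ x) ((g : A1) *ᵥ y) = f x y) ∧
        (i ∈ S → P' (a i * ((g : A1) * a i * ((g⁻¹ : GL (Fin k) F) : A1)))) := fun i => by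
      by_cases hi : i ∈ S
      · obtain ⟨g, h1, h2⟩ := h _ (hP i hi)
        exact ⟨g, h1, fun _ => h2⟩
      · exact ⟨1, hid, fun h => absurd h hi⟩
    choose g hg hg' using hg
    refine ⟨_, hconj ha g hg, hg', fun i hi => ?_⟩
    rw [h1 i hi, one_mul, mul_one, ← Units.val_mul, mul_inv_cancel, Units.val_one]
  have s1 : ∃ a : ι → A1, pt a ∈ R ∧ (∀ i ∈ S, P1 (a i) ∨ P2 (a i)) ∧ ∀ i, i ∉ S → a i = 1 := by
    refine stage (Atom f) (fun b => P1 b ∨ P2 b) (fun b hb => ?_) ⟨a, hpa, hat, hone⟩
    rcases hb with ⟨v, hv, rfl⟩ | ⟨v, v', hvv, hn, hv, rfl⟩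
    · obtain ⟨w, hw⟩ := exists_one hf hv
      obtain ⟨g, hg, hgv⟩ := exists_move hf hv (show w ≠ 0 from fun e => by
        rw [e, zero_left hf] at hw; exact zero_ne_one hw)
      refine ⟨g, hg, Or.inl ⟨v, w, by rw [hf.skew, hw]; simp, Matrix.mulVec_injective (funext fun x => ?_)⟩⟩
      rw [conj_er hf hg, hgv, ← mulVec_mulVec, er_mulVec hf, er_mulVec hf, hf.bilinear.smul_left, hw, mul_one,
        vecMulVec_mulVec, op_smul_eq_smul, dot hf]
    · obtain ⟨η, hη, hηv⟩ := exists_functional hn
      obtain ⟨t, rfl⟩ := formVec_onto hf η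
      have hvt : f v t = 0 := by rw [← dot hf]; exact hη v (Submodule.mem_span_singleton_self v)
      have hv't : f v' t = 1 := by rw [← dot hf, hηv]
      have h0 : ((1 : F) • formVec f t) ⬝ᵥ t = 0 := by rw [one_smul, formVec_self hf]
      refine ⟨tv t ((1 : F) • formVec f t), tv_isometry hf t 1, Or.inr ⟨v, hv, ?_⟩⟩
      refine Matrix.mulVec_injective (funext fun x => ?_)
      have h' : f v' v = 0 := by rw [hf.skew, hvv, neg_zero]
      have ht' : f t v' = -1 := by rw [hf.skew, hv't]
      have htv : f t v = 0 := by rw [hf.skew, hvt, neg_zero]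
      rw [conj_la hf (tv_isometry hf t 1), tv_mulVec h0, tv_mulVec h0, one_smul, dot hf, dot hf, hvt, hv't,
        zero_smul, add_zero, one_smul, ← mulVec_mulVec, er_mulVec hf, la_mulVec hf, la_mulVec hf]
      simp only [sub_eq_add_neg, ← neg_smul, hf.bilinear.add_left, hf.bilinear.smul_left, hf.alternating, hvv, h',
        ht', htv]
      module
  have s2 : ∃ a : ι → A1, pt a ∈ R ∧ (∀ i ∈ S, P1 (a i)) ∧ ∀ i, i ∉ S → a i = 1 := by
    refine stage (fun b => P1 b ∨ P2 b) P1 (fun b hb => ?_) s1
    rcases hb with ⟨v, w, hvw, rfl⟩ | ⟨v, hv, rfl⟩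
    · refine ⟨1, hid, f v w • v, w, by rw [hf.bilinear.smul_left]; exact mul_ne_zero hvw hvw, ?_⟩
      rw [inv_one, Units.val_one, one_mul, mul_one, vecMulVec_mul_vecMulVec, dot hf, smul_vecMulVec, vecMulVec_smul]
    · obtain ⟨w, hw⟩ := exists_one hf hv
      obtain ⟨g, hg, hgv⟩ := exists_move hf hv (show w ≠ 0 from fun e => by
        rw [e, zero_left hf] at hw; exact zero_ne_one hw)
      refine ⟨g, hg, v, w, by rw [hf.skew, hw]; simp, Matrix.mulVec_injective (funext fun x => ?_)⟩
      rw [conj_er hf hg, hgv, ← mulVec_mulVec, er_mulVec hf, er_mulVec hf, hf.bilinear.smul_left, hw, mul_one,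
        vecMulVec_mulVec, op_smul_eq_smul, dot hf]
  obtain ⟨b, hbR, hb1, hb0⟩ := s2
  -- slot by slot
  have hslots : ∀ T : Finset ι, T ⊆ S → ∀ d : ι → A1, (∀ i, i ∉ T → d i = b i) → pt d ∈ R := by
    intro T
    induction T using Finset.induction_on with
    | empty =>
      intro _ d hd
      rwa [show d = b from funext fun i => hd i (Finset.notMem_empty i)]
    | insert i T hi ih =>
      intro hTS d hd
      let L : A1 →ₗ[F] Big :=
        { toFun := fun D => pt (Function.update d i D)
          map_add' := fun D E => pt_update_add d i D E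
          map_smul' := fun t D => pt_update_smul d i t D }
      obtain ⟨v, w, hvw, hbi⟩ := hb1 i (hTS (Finset.mem_insert_self i T))
      have htop := slot_top hf ((Subalgebra.toSubmodule R).comap L) (fun t X hX => ?_) hvw ?_
      · have : L (d i) ∈ R := (htop.symm ▸ Submodule.mem_top : d i ∈ (Subalgebra.toSubmodule R).comap L)
        rwa [show L (d i) = pt d from congrArg pt (Function.update_eq_self i d)] at this
      · show pt (Function.update d i _) ∈ R
        have h := hQ i t 1 _ (show pt (Function.update d i X) ∈ Q from hX)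
        rw [one_smul] at h
        have e1 : 1 + oneM i (er f t) = oneM i (1 + er f t) := by rw [oneM_add, oneM_one]
        have e2 : 1 - oneM i (er f t) = oneM i (1 - er f t) := by
          rw [eq_sub_iff_add_eq.2 (show oneM i (1 - er f t) + oneM i (er f t) = 1 by
            rw [← oneM_add, sub_add_cancel, oneM_one])]
        rwa [e1, e2, oneM_mul_pt, pt_mul_oneM, Function.update_self, Function.update_idem, Function.update_self,
          Function.update_idem] at h
      · rw [← hbi]
        show pt (Function.update d i (b i)) ∈ R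
        refine ih (fun l hl => hTS (Finset.mem_insert_of_mem hl)) _ fun l hl => ?_
        by_cases hli : l = i
        · subst hli; rw [Function.update_self]
        · rw [Function.update_of_ne hli]; exact hd l (by simp [hli, hl])
  obtain ⟨i0, hi0⟩ := hne
  have hone' : ∀ (l : ι) (D : A1), oneM l D ∈ R := by
    intro l D
    have h0 : oneM i0 D ∈ R := hslots S subset_rfl _ fun i hi => by
      rw [Function.update_of_ne (fun e : i = i0 => hi (e ▸ hi0)), Pi.one_apply, hb0 i hi]
    have := hperm (Equiv.swap i0 l) _ h0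
    rwa [pm_mul_oneM, mul_assoc, pm_mul, mul_inv_cancel, pm_one, mul_one, Equiv.swap_apply_left] at this
  have hpt : ∀ (T : Finset ι) (d : ι → A1), (∀ i, i ∉ T → d i = 1) → pt d ∈ R := by
    intro T
    induction T using Finset.induction_on with
    | empty =>
      intro d hd
      rw [show d = 1 from funext fun i => hd i (Finset.notMem_empty i), pt_one]
      exact R.one_mem
    | insert i T hi ih =>
      intro d hd
      have e : pt d = oneM i (d i) * pt (Function.update d i 1) := by
        rw [oneM_mul_pt, Function.update_self, mul_one, Function.update_idem, Function.update_eq_self]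
      rw [e]
      refine R.mul_mem (hone' i _) (ih _ fun l hl => ?_)
      by_cases hli : l = i
      · subst hli; rw [Function.update_self]
      · rw [Function.update_of_ne hli]; exact hd l (by simp [hli, hl])
  refine eq_top_iff.2 fun X _ => ?_
  rw [Matrix.matrix_eq_sum_single X]
  refine sum_mem fun p _ => sum_mem fun q _ => ?_
  rw [show Matrix.single p q (X p q) = X p q • Matrix.single p q (1 : F) by
    rw [Matrix.smul_single, smul_eq_mul, mul_one], ← pt_single]
  exact R.smul_mem (hpt Finset.univ _ fun i hi => absurd (Finset.mem_univ i) hi) _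

end Cfsg.Agent.Lib.TensorSympMax.AlgTop
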