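import Cfsg.Agent.Lib.TensorSympMax.Basic

/-!
Square zero endomorphisms of one factor coming from roots and orthogonal planes; the reduction of an element
of an invariant group of endomorphisms of a tensor power to a pure tensor of them.
-/

set_option autoImplicit false
set_option linter.unusedSectionVars false
set_option linter.style.haveILetI false

namespace Cfsg.Agent.Lib.TensorSympMax.Atoms

open Matrix
open Cfsg.Agent.Lib.Subspaces.Transvection Cfsg.Agent.Lib.Subspaces.FormVec
  Cfsg.Agent.Lib.TensorPowerMax.Basic Cfsg.Agent.Lib.TensorSympMax.Basic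

variable {ι : Type} [Fintype ι] [DecidableEq ι] {k : ℕ} {F : Type*} [Field F]

local notation "A1" => Matrix (Fin k) (Fin k) F
local notation "Big" => Matrix (ι → Fin k) (ι → Fin k) F
local notation "GG" => GL (ι → Fin k) F
local notation "W1" => Fin k → F

/-- The root endomorphism of a vector. -/
def er (f : (Fin k → F) → (Fin k → F) → F) (v : Fin k → F) : Matrix (Fin k) (Fin k) F :=
  vecMulVec v (formVec f v)

/-- The endomorphism of an orthogonal plane. -/
def la (f : (Fin k → F) → (Fin k → F) → F) (v v' : Fin k → F) : Matrix (Fin k) (Fin k) F :=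
  vecMulVec v (formVec f v') - vecMulVec v' (formVec f v)

/-- Root and plane endomorphisms. -/
def Atom (f : (Fin k → F) → (Fin k → F) → F) (a : Matrix (Fin k) (Fin k) F) : Prop :=
  (∃ v, v ≠ 0 ∧ a = er f v) ∨ ∃ v v', f v v' = 0 ∧ v' ∉ Submodule.span F {v} ∧ v ≠ 0 ∧ a = la f v v'

variable {f : (Fin k → F) → (Fin k → F) → F} (hf : Cfsg.Geo.IsSymplecticForm f)
include hf

theorem er_mulVec (v x : W1) : er f v *ᵥ x = f x v • v := by
  rw [er, vecMulVec_mulVec, op_smul_eq_smul, dot hf]

theorem la_mulVec (v v' x : W1) : la f v v' *ᵥ x = f x v' • v - f x v • v' := by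
  rw [la, sub_mulVec, vecMulVec_mulVec, vecMulVec_mulVec, op_smul_eq_smul, op_smul_eq_smul, dot hf, dot hf]

theorem er_mul_er (u : W1) (c : A1) : er f u * c * er f u = f (c *ᵥ u) u • er f u := by
  refine Matrix.mulVec_injective (funext fun x => ?_)
  rw [← mulVec_mulVec, ← mulVec_mulVec, smul_mulVec, er_mulVec hf, er_mulVec hf, mulVec_smul, hf.bilinear.smul_left,
    smul_smul, mul_comm]

theorem Atom.sq {a : A1} (h : Atom f a) : a * a = 0 := by
  rcases h with ⟨v, -, rfl⟩ | ⟨v, v', hvv, -, -, rfl⟩
  · refine Matrix.mulVec_injective (funext fun x => ?_)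
    rw [← mulVec_mulVec, er_mulVec hf, er_mulVec hf, hf.bilinear.smul_left, hf.alternating, mul_zero, zero_smul,
      zero_mulVec]
  · refine Matrix.mulVec_injective (funext fun x => ?_)
    have h' : f v' v = 0 := by rw [hf.skew, hvv, neg_zero]
    rw [← mulVec_mulVec, la_mulVec hf, la_mulVec hf]
    simp [sub_eq_add_neg, ← neg_smul, hf.bilinear.add_left, hf.bilinear.smul_left, hf.alternating, hvv, h']

theorem Atom.adj {a : A1} (h : Atom f a) : ∃ e : F, e * e = 1 ∧ ∀ x y, f (a *ᵥ x) y = e * f x (a *ᵥ y) := by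
  rcases h with ⟨v, -, rfl⟩ | ⟨v, v', -, -, -, rfl⟩
  · refine ⟨-1, by ring, fun x y => ?_⟩
    rw [er_mulVec hf, er_mulVec hf, hf.bilinear.smul_left, hf.bilinear.smul_right, hf.skew v y]
    ring
  · refine ⟨1, by ring, fun x y => ?_⟩
    rw [la_mulVec hf, la_mulVec hf, one_mul, sub_eq_add_neg, sub_eq_add_neg, ← neg_smul, ← neg_smul]
    simp only [hf.bilinear.add_left, hf.bilinear.smul_left, hf.bilinear.add_right, hf.bilinear.smul_right]
    rw [hf.skew v y, hf.skew v' y]
    ring

theorem conj_er {g : GL (Fin k) F} (hg : ∀ x y, f ((g : A1) *ᵥ x) ((g : A1) *ᵥ y) = f x y) (v : W1) :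
    (g : A1) * er f v * ((g⁻¹ : GL (Fin k) F) : A1) = er f ((g : A1) *ᵥ v) := by
  refine Matrix.mulVec_injective (funext fun x => ?_)
  rw [← mulVec_mulVec, ← mulVec_mulVec, er_mulVec hf, er_mulVec hf, mulVec_smul]
  conv_rhs => rw [← gl_mulVec_inv g x, hg]

theorem conj_la {g : GL (Fin k) F} (hg : ∀ x y, f ((g : A1) *ᵥ x) ((g : A1) *ᵥ y) = f x y) (v v' : W1) :
    (g : A1) * la f v v' * ((g⁻¹ : GL (Fin k) F) : A1) = la f ((g : A1) *ᵥ v) ((g : A1) *ᵥ v') := by
  refine Matrix.mulVec_injective (funext fun x => ?_)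
  rw [← mulVec_mulVec, ← mulVec_mulVec, la_mulVec hf, la_mulVec hf, mulVec_sub, mulVec_smul, mulVec_smul]
  conv_rhs => rw [← gl_mulVec_inv g x, hg, hg]

theorem Atom.conj {a : A1} (h : Atom f a) {g : GL (Fin k) F}
    (hg : ∀ x y, f ((g : A1) *ᵥ x) ((g : A1) *ᵥ y) = f x y) :
    Atom f ((g : A1) * a * ((g⁻¹ : GL (Fin k) F) : A1)) := by
  rcases h with ⟨v, hv, rfl⟩ | ⟨v, v', hvv, hn, hv, rfl⟩
  · exact Or.inl ⟨_, gl_ne_zero g hv, conj_er hf hg v⟩
  · refine Or.inr ⟨_, _, by rw [hg, hvv], fun e => hn ?_, gl_ne_zero g hv, conj_la hf hg v v'⟩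
    obtain ⟨c, hc⟩ := Submodule.mem_span_singleton.1 e
    rw [← mulVec_smul] at hc
    exact Submodule.mem_span_singleton.2 ⟨c, gl_mulVec_injective g hc⟩

/-- An atom has a conjugate with which it does not anticommute on some root. -/
theorem Atom.partner [Finite F] {a : A1} (h : Atom f a) :
    ∃ g : GL (Fin k) F, (∀ x y, f ((g : A1) *ᵥ x) ((g : A1) *ᵥ y) = f x y) ∧
      ∃ u, u ≠ 0 ∧ f ((a * ((g : A1) * a * ((g⁻¹ : GL (Fin k) F) : A1))) *ᵥ u) u ≠ 0 ∧
        f (((g : A1) * a * ((g⁻¹ : GL (Fin k) F) : A1) * a) *ᵥ u) u =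
          -f ((a * ((g : A1) * a * ((g⁻¹ : GL (Fin k) F) : A1))) *ᵥ u) u := by
  obtain ⟨e, he, hadj⟩ := h.adj hf
  have hsign : ∀ g : GL (Fin k) F, (∀ x y, f ((g : A1) *ᵥ x) ((g : A1) *ᵥ y) = f x y) → ∀ u,
      f (((g : A1) * a * ((g⁻¹ : GL (Fin k) F) : A1) * a) *ᵥ u) u =
        -f ((a * ((g : A1) * a * ((g⁻¹ : GL (Fin k) F) : A1))) *ᵥ u) u := fun g hg u => by
    set b := (g : A1) * a * ((g⁻¹ : GL (Fin k) F) : A1)
    have hb : ∀ x y, f (b *ᵥ x) y = e * f x (b *ᵥ y) := fun x y => by
      conv_lhs => rw [show b = (g : A1) * a * ((g⁻¹ : GL (Fin k) F) : A1) from rfl, ← gl_mulVec_inv g y,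
        ← mulVec_mulVec, ← mulVec_mulVec, hg, hadj, ← hg, gl_mulVec_inv]
      rw [show b = (g : A1) * a * ((g⁻¹ : GL (Fin k) F) : A1) from rfl, ← mulVec_mulVec, ← mulVec_mulVec]
    clear_value b
    rw [← mulVec_mulVec, ← mulVec_mulVec, hb, hadj, hf.skew u]
    linear_combination (-f (a *ᵥ b *ᵥ u) u) * he
  rcases h with ⟨v, hv, rfl⟩ | ⟨v, v', hvv, hn, hv, rfl⟩
  · obtain ⟨w, hw⟩ := exists_one hf hv
    obtain ⟨g, hg, hgv⟩ := exists_move hf hv (show w ≠ 0 from fun e => by
      rw [e, zero_left hf] at hw; exact zero_ne_one hw)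
    refine ⟨g, hg, v + w, fun e0 => ?_, ?_, hsign g hg _⟩
    · have := congrArg (fun z => f z v) e0
      simp [hf.bilinear.add_left, hf.alternating, hw, zero_left hf] at this
    · rw [conj_er hf hg, hgv, ← mulVec_mulVec, er_mulVec hf, er_mulVec hf, hf.bilinear.smul_left,
        hf.bilinear.smul_left, hf.bilinear.add_left, hf.bilinear.add_right, hw, hf.alternating, hf.alternating,
        hf.skew v w, hw]
      simp
  · obtain ⟨η, hη, hηv⟩ := exists_functional hn
    obtain ⟨t, rfl⟩ := formVec_onto hf η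
    have hvt : f v t = 0 := by rw [← dot hf]; exact hη v (Submodule.mem_span_singleton_self v)
    have hv't : f v' t = 1 := by rw [← dot hf, hηv]
    have h0 : ((1 : F) • formVec f t) ⬝ᵥ t = 0 := by rw [one_smul, formVec_self hf]
    refine ⟨tv t ((1 : F) • formVec f t), tv_isometry hf t 1, ?_⟩
    obtain ⟨u, hu⟩ := exists_one hf hv
    refine ⟨u, fun e0 => by rw [e0, zero_left hf] at hu; exact zero_ne_one hu, ?_, hsign _ (tv_isometry hf t 1) _⟩
    have h' : f v' v = 0 := by rw [hf.skew, hvv, neg_zero]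
    have ht' : f t v' = -1 := by rw [hf.skew, hv't]
    have htv : f t v = 0 := by rw [hf.skew, hvt, neg_zero]
    rw [conj_la hf (tv_isometry hf t 1), tv_mulVec h0, tv_mulVec h0, one_smul, dot hf, dot hf, hvt, hv't,
      zero_smul, add_zero, one_smul, ← mulVec_mulVec, la_mulVec hf, la_mulVec hf]
    have hneg : ∀ x y, f (-x) y = -f x y := fun x y => by
      rw [← neg_one_smul F, hf.bilinear.smul_left, neg_one_mul]
    simp [sub_eq_add_neg, ← neg_smul, hf.bilinear.add_left, hf.bilinear.add_right, hf.bilinear.smul_left,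
      hf.alternating, hneg, hvv, h', ht', htv, hu, hf.skew v u]

omit hf

theorem pt_smul_family (c : ι → F) (a : ι → A1) : pt (fun i => c i • a i) = (∏ i, c i) • pt a := by
  ext x y
  simp [pt_apply, Finset.prod_mul_distrib]

theorem pt_eq_zero {a : ι → A1} {i : ι} (h : a i = 0) : pt a = 0 := by
  ext x y
  rw [pt_apply]
  exact Finset.prod_eq_zero (Finset.mem_univ i) (by rw [h]; rfl)

theorem oneM_mul_pt (i : ι) (b : A1) (a : ι → A1) : oneM i b * pt a = pt (Function.update a i (b * a i)) := by
  rw [oneM, pt_mul]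
  congr 1
  funext l
  by_cases hl : l = i
  · subst hl; simp
  · simp [Function.update_of_ne hl]

theorem pt_mul_oneM (i : ι) (b : A1) (a : ι → A1) : pt a * oneM i b = pt (Function.update a i (a i * b)) := by
  rw [oneM, pt_mul]
  congr 1
  funext l
  by_cases hl : l = i
  · subst hl; simp
  · simp [Function.update_of_ne hl]

theorem oneM_comm {i l : ι} (h : i ≠ l) (b c : A1) : oneM i b * oneM l c = oneM l c * oneM i b := by
  rw [oneM, oneM, pt_mul, pt_mul]
  congr 1
  funext r
  by_cases hr : r = i
  · subst hr; simp [Function.update_of_ne h]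
  · simp [Function.update_of_ne hr]

/-- The element acts trivially on the factor. -/
def Triv (i : ι) (A : Matrix (ι → Fin k) (ι → Fin k) F) : Prop :=
  ∀ b : Matrix (Fin k) (Fin k) F, oneM i b * A = A * oneM i b

theorem eq_smul_one [Nonempty (ι → Fin k)] {A : Big} (h : ∀ i, Triv i A) : ∃ c : F, A = c • 1 := by
  classical
  have hpt : ∀ (T : Finset ι) (a : ι → A1), (∀ i, i ∉ T → a i = 1) → pt a * A = A * pt a := by
    intro T
    induction T using Finset.induction_on with
    | empty =>
      intro a ha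
      rw [show a = 1 from funext fun i => ha i (Finset.notMem_empty i), pt_one, one_mul, mul_one]
    | insert i T hi ih =>
      intro a ha
      have e : pt a = oneM i (a i) * pt (Function.update a i 1) := by
        rw [oneM_mul_pt, Function.update_self, mul_one, Function.update_idem, Function.update_eq_self]
      have h1 := ih (Function.update a i 1) fun l hl => by
        by_cases hli : l = i
        · subst hli; simp
        · rw [Function.update_of_ne hli]; exact ha l (by simp [hl, hli])
      rw [e, mul_assoc, h1, ← mul_assoc, h i, mul_assoc]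
  have hsingle : ∀ x y : ι → Fin k, pt (fun i => Matrix.single (x i) (y i) (1 : F)) = Matrix.single x y 1 := by
    intro x y
    ext p q
    rw [pt_apply, Matrix.single_apply]
    split_ifs with hc
    · obtain ⟨rfl, rfl⟩ := hc
      simp
    · by_cases hp : x = p
      · obtain ⟨i, hi⟩ := Function.ne_iff.1 fun e : y = q => hc ⟨hp, e⟩
        exact Finset.prod_eq_zero (Finset.mem_univ i) (by simp [hi])
      · obtain ⟨i, hi⟩ := Function.ne_iff.1 hp
        exact Finset.prod_eq_zero (Finset.mem_univ i) (by simp [hi])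
  have hc : ∀ x y p q : ι → Fin k, (Matrix.single x y (1 : F) * A) p q = (A * Matrix.single x y (1 : F)) p q :=
    fun x y p q => by rw [← hsingle, hpt Finset.univ _ fun i hi => absurd (Finset.mem_univ i) hi]
  set o := Classical.arbitrary (ι → Fin k)
  refine ⟨A o o, Matrix.ext fun p q => ?_⟩
  rw [Matrix.smul_apply, smul_eq_mul]
  by_cases hpq : p = q
  · subst hpq
    have := hc o p o p
    rw [Matrix.single_mul_apply_same, Matrix.mul_single_apply_same] at this
    simpa using this
  · have := hc p p p q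
    rw [Matrix.single_mul_apply_same, Matrix.mul_single_apply_of_ne _ _ _ _ _ (Ne.symm hpq)] at this
    rw [Matrix.one_apply_ne hpq, mul_zero]
    simpa using this

/-- The coefficient of an endomorphism at a factor. -/
def coefAt (i : ι) (A : Matrix (ι → Fin k) (ι → Fin k) F) (φ u : Fin k → F) :
    Matrix (ι → Fin k) (ι → Fin k) F :=
  ∑ a, oneM i (vecMulVec (Pi.single a 1) φ) * A * oneM i (vecMulVec u (Pi.single a 1))

theorem oneM_sum (i : ι) {α : Type*} (s : Finset α) (b : α → A1) : oneM i (∑ a ∈ s, b a) = ∑ a ∈ s, oneM i (b a) := by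
  classical
  induction s using Finset.induction_on with
  | empty => simp [oneM_zero]
  | insert a s ha ih => rw [Finset.sum_insert ha, Finset.sum_insert ha, oneM_add, ih]

theorem sum_single (r : W1) : ∑ a, r a • (Pi.single a 1 : W1) = r := by
  funext c; simp [Finset.sum_apply, Pi.single_apply]

theorem sum_vmv {α : Type*} (s : Finset α) (x : α → W1) (y : W1) :
    vecMulVec (∑ a ∈ s, x a) y = ∑ a ∈ s, vecMulVec (x a) y := by
  ext p q
  simp [vecMulVec, Matrix.sum_apply, Finset.sum_apply, Finset.sum_mul]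

theorem vmv_sum {α : Type*} (s : Finset α) (x : W1) (y : α → W1) :
    vecMulVec x (∑ a ∈ s, y a) = ∑ a ∈ s, vecMulVec x (y a) := by
  ext p q
  simp [vecMulVec, Matrix.sum_apply, Finset.sum_apply, Finset.mul_sum]

theorem coefAt_mul (i : ι) (A : Big) (φ u p r : W1) :
    oneM i (vecMulVec p r) * coefAt i A φ u = oneM i (vecMulVec p φ) * A * oneM i (vecMulVec u r) := by
  simp only [coefAt, Finset.mul_sum, ← mul_assoc, oneM_mul, vecMulVec_mul_vecMulVec, dotProduct_single, mul_one]
  conv_rhs => rw [← sum_single r, vmv_sum, oneM_sum, Finset.mul_sum]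
  refine Finset.sum_congr rfl fun a _ => ?_
  rw [vecMulVec_smul, vecMulVec_smul, oneM_smul, oneM_smul, Matrix.smul_mul, Matrix.smul_mul, Matrix.mul_smul]

theorem coefAt_triv (i : ι) (A : Big) (φ u : W1) : Triv i (coefAt i A φ u) := by
  intro b
  have h1 : oneM i b * coefAt i A φ u =
      ∑ c, ∑ a, b c a • (oneM i (vecMulVec (Pi.single c 1) φ) * A * oneM i (vecMulVec u (Pi.single a 1))) := by
    rw [coefAt, Finset.mul_sum, Finset.sum_comm]
    refine Finset.sum_congr rfl fun a _ => ?_
    rw [← mul_assoc, ← mul_assoc, oneM_mul, mul_vecMulVec]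
    conv_lhs => rw [← sum_single (b *ᵥ Pi.single a 1), sum_vmv, oneM_sum, Finset.sum_mul, Finset.sum_mul]
    refine Finset.sum_congr rfl fun c _ => ?_
    rw [smul_vecMulVec, oneM_smul, Matrix.smul_mul, Matrix.smul_mul, mulVec_single_one]
    rfl
  have h2 : coefAt i A φ u * oneM i b =
      ∑ c, ∑ a, b c a • (oneM i (vecMulVec (Pi.single c 1) φ) * A * oneM i (vecMulVec u (Pi.single a 1))) := by
    rw [coefAt, Finset.sum_mul]
    refine Finset.sum_congr rfl fun c _ => ?_
    rw [mul_assoc, oneM_mul, vecMulVec_mul]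
    conv_lhs => rw [← sum_single (Pi.single c 1 ᵥ* b), vmv_sum, oneM_sum, Finset.mul_sum]
    refine Finset.sum_congr rfl fun a _ => ?_
    rw [vecMulVec_smul, oneM_smul, Matrix.mul_smul, single_one_vecMul]
    rfl
  rw [h1, h2]

theorem coefAt_triv_of {i l : ι} (h : l ≠ i) {A : Big} (hA : Triv l A) (φ u : W1) : Triv l (coefAt i A φ u) := by
  intro b
  rw [coefAt, Finset.mul_sum, Finset.sum_mul]
  refine Finset.sum_congr rfl fun a _ => ?_
  rw [← mul_assoc, ← mul_assoc, oneM_comm h, mul_assoc _ (oneM l b), hA b, ← mul_assoc, mul_assoc _ (oneM l b),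
    oneM_comm h, ← mul_assoc]

theorem coefAt_add_left (i : ι) (A : Big) (φ ψ u : W1) :
    coefAt i A (φ + ψ) u = coefAt i A φ u + coefAt i A ψ u := by
  simp [coefAt, vecMulVec_add, oneM_add, add_mul, Finset.sum_add_distrib]

theorem coefAt_add_right (i : ι) (A : Big) (φ u u' : W1) :
    coefAt i A φ (u + u') = coefAt i A φ u + coefAt i A φ u' := by
  simp [coefAt, add_vecMulVec, oneM_add, mul_add, Finset.sum_add_distrib]

theorem coefAt_smul_right (i : ι) (A : Big) (c : F) (φ u : W1) :
    coefAt i A φ (c • u) = c • coefAt i A φ u := by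
  simp only [coefAt, smul_vecMulVec, oneM_smul, Matrix.mul_smul, ← Finset.smul_sum]

theorem oneM_self_sum (i : ι) : ∑ a, oneM i (vecMulVec (Pi.single a 1) (Pi.single a (1 : F)) : A1) = 1 := by
  rw [← oneM_sum, show ∑ a, vecMulVec (Pi.single a 1) (Pi.single a (1 : F)) = (1 : A1) by
    ext p q
    simp [Matrix.sum_apply, vecMulVec, Pi.single_apply, Matrix.one_apply], oneM_one]

theorem eq_sum_coef (i : ι) (A : Big) :
    A = ∑ a, ∑ b, oneM i (vecMulVec (Pi.single a 1) (Pi.single b (1 : F))) *
      coefAt i A (Pi.single a 1) (Pi.single b 1) := by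
  simp only [coefAt_mul]
  conv_lhs => rw [← one_mul A, ← mul_one (1 * A), ← oneM_self_sum i, Finset.sum_mul, Finset.sum_mul]
  refine Finset.sum_congr rfl fun a _ => ?_
  rw [Finset.mul_sum]

/-- Without coefficients at orthogonal pairs an element acts trivially on the factor. -/
theorem triv_of_coef [Nonempty (Fin k)] {i : ι} {A : Big}
    (h : ∀ φ u : W1, φ ⬝ᵥ u = 0 → coefAt i A φ u = 0) : Triv i A := by
  classical
  set o := Classical.arbitrary (Fin k)
  have hdiag : ∀ a, coefAt i A (Pi.single a 1) (Pi.single a 1) = coefAt i A (Pi.single o 1) (Pi.single o 1) := by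
    intro a
    by_cases ha : a = o
    · rw [ha]
    have h1 := h (Pi.single a 1 + Pi.single o 1) (Pi.single a 1 + (-1 : F) • Pi.single o 1) (by
      simp [dotProduct_add, ha, Ne.symm ha])
    rw [coefAt_add_left, coefAt_add_right, coefAt_add_right, coefAt_smul_right, coefAt_smul_right,
      h (Pi.single a 1) (Pi.single o 1) (by simp [ha]),
      h (Pi.single o 1) (Pi.single a 1) (by simp [Ne.symm ha]), smul_zero, add_zero, zero_add, neg_one_smul,
      ← sub_eq_add_neg, sub_eq_zero] at h1
    exact h1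
  have e : A = coefAt i A (Pi.single o 1) (Pi.single o 1) := by
    conv_lhs => rw [eq_sum_coef i A]
    rw [Finset.sum_congr rfl fun a _ => Finset.sum_eq_single a (fun b _ hb => by
        rw [h _ _ (by simp [Ne.symm hb]), mul_zero]) (by simp)]
    simp only [hdiag, ← Finset.sum_mul, oneM_self_sum, one_mul]
  rw [e]
  exact coefAt_triv _ _ _ _

/-- A group of endomorphisms invariant under the root elements. -/
def RootInv (f : (Fin k → F) → (Fin k → F) → F) (Q : AddSubgroup (Matrix (ι → Fin k) (ι → Fin k) F)) : Prop :=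
  ∀ (i : ι) (v : Fin k → F) (c : F) (A : Matrix (ι → Fin k) (ι → Fin k) F), A ∈ Q →
    (1 + c • oneM i (er f v)) * A * (1 - c • oneM i (er f v)) ∈ Q

section Loop

variable (hf : Cfsg.Geo.IsSymplecticForm f) {Q : AddSubgroup (Matrix (ι → Fin k) (ι → Fin k) F)}
  (hQ : RootInv f Q)
include hQ

theorem bracket_mem {A : Big} (hA : A ∈ Q) (i : ι) (v : W1) :
    (2 : F) • (oneM i (er f v) * A - A * oneM i (er f v)) ∈ Q := by
  have := Q.sub_mem (hQ i v 1 A hA) (hQ i v (-1) A hA)
  convert this using 1
  simp only [one_smul, neg_one_smul, two_smul]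
  noncomm_ring

theorem sandwich_mem {A : Big} (hA : A ∈ Q) (i : ι) (v : W1) :
    (-2 : F) • (oneM i (er f v) * A * oneM i (er f v)) ∈ Q := by
  have := Q.sub_mem (Q.add_mem (hQ i v 1 A hA) (hQ i v (-1) A hA)) (Q.add_mem hA hA)
  convert this using 1
  simp only [one_smul, neg_one_smul, neg_smul, two_smul]
  noncomm_ring

include hf

/-- Reduction to a pure tensor of atoms. -/
theorem exists_pure [Finite F] (h2 : (2 : F) ≠ 0) [Nonempty (Fin k)] {A : Big} (hA : A ∈ Q)
    (hns : ∀ c : F, A ≠ c • 1) :
    ∃ (S : Finset ι) (a : ι → A1) (c : F), S.Nonempty ∧ c ≠ 0 ∧ (∀ i ∈ S, Atom f (a i)) ∧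
      (∀ i, i ∉ S → a i = 1) ∧ c • pt a ∈ Q := by
  classical
  have key : ∀ T : Finset ι, ∃ (S : Finset ι) (a : ι → A1) (A1' : Big), S ⊆ T ∧ (∀ i ∈ S, Atom f (a i)) ∧
      (∀ i, i ∉ S → a i = 1) ∧ A1' ≠ 0 ∧ (∀ i ∈ T, Triv i A1') ∧ pt a * A1' ∈ Q ∧ (S = ∅ → A1' = A) := by
    intro T
    induction T using Finset.induction_on with
    | empty =>
      exact ⟨∅, 1, A, subset_rfl, by simp, fun _ _ => rfl, fun e => hns 0 (by rw [e, zero_smul]), by simp,
        by rwa [pt_one, one_mul], fun _ => rfl⟩
    | insert i T hi ih =>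
      obtain ⟨S, a, A', hST, hat, hone, hne, htr, hmem, hempty⟩ := ih
      have hai : a i = 1 := hone i fun h => hi (hST h)
      have hcomm : ∀ b : A1, oneM i b * pt a = pt a * oneM i b := fun b => by
        rw [oneM_mul_pt, pt_mul_oneM, hai, mul_one, one_mul]
      have hupd : ∀ b : A1, pt a * oneM i b = pt (Function.update a i b) := fun b => by
        rw [pt_mul_oneM, hai, one_mul]
      have finish : ∀ (b : A1) (s : F) (φ u : W1), Atom f b → s ≠ 0 → coefAt i A' φ u ≠ 0 →
          s • (pt a * (oneM i b * coefAt i A' φ u)) ∈ Q →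
          ∃ (S : Finset ι) (a : ι → A1) (A1' : Big), S ⊆ insert i T ∧ (∀ i ∈ S, Atom f (a i)) ∧
            (∀ i, i ∉ S → a i = 1) ∧ A1' ≠ 0 ∧ (∀ l ∈ insert i T, Triv l A1') ∧ pt a * A1' ∈ Q ∧
              (S = ∅ → A1' = A) := by
        intro b s φ u hb hs hc hm
        refine ⟨insert i S, Function.update a i b, s • coefAt i A' φ u, Finset.insert_subset_insert _ hST,
          fun l hl => ?_, fun l hl => ?_, smul_ne_zero hs hc, fun l hl => ?_, ?_,
          fun e => absurd e (Finset.insert_ne_empty _ _)⟩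
        · rcases Finset.mem_insert.1 hl with rfl | hl'
          · rwa [Function.update_self]
          · rw [Function.update_of_ne (fun e : l = i => hi (hST (e ▸ hl')))]; exact hat l hl'
        · simp only [Finset.mem_insert, not_or] at hl
          rw [Function.update_of_ne hl.1]; exact hone l hl.2
        · intro c
          rw [Matrix.mul_smul, Matrix.smul_mul]
          congr 1
          rcases Finset.mem_insert.1 hl with rfl | hl'
          · exact coefAt_triv _ _ _ _ c
          · exact coefAt_triv_of (fun e : l = i => hi (e ▸ hl')) (htr l hl') _ _ c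
        · rwa [Matrix.mul_smul, ← hupd, mul_assoc]
      by_cases h1 : ∃ u, u ≠ 0 ∧ coefAt i A' (formVec f u) u ≠ 0
      · obtain ⟨u, hu, hc⟩ := h1
        refine finish (er f u) (-2) _ u (Or.inl ⟨u, hu, rfl⟩) (neg_ne_zero.2 h2) hc ?_
        have := sandwich_mem hQ hmem i u
        rwa [show oneM i (er f u) * (pt a * A') * oneM i (er f u) =
          pt a * (oneM i (er f u) * coefAt i A' (formVec f u) u) by
            rw [← mul_assoc, hcomm, mul_assoc, mul_assoc, ← mul_assoc (oneM i _)]
            exact congrArg _ (coefAt_mul i A' (formVec f u) u u (formVec f u)).symm] at this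
      push Not at h1
      have hflat : ∀ u, coefAt i A' (formVec f u) u = 0 := fun u => by
        by_cases hu : u = 0
        · subst hu
          simp [coefAt, zero_vecMulVec, oneM_zero]
        · exact h1 u hu
      by_cases h3 : ∃ v v', f v v' = 0 ∧ coefAt i A' (formVec f v') v ≠ 0
      · obtain ⟨v, v', hvv, hc⟩ := h3
        have hv : v ≠ 0 := fun e => hc (by subst e; simp [coefAt, zero_vecMulVec, oneM_zero])
        have hn : v' ∉ Submodule.span F {v} := fun e => by
          obtain ⟨d, rfl⟩ := Submodule.mem_span_singleton.1 e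
          refine hc ?_
          rw [show formVec f (d • v) = d • formVec f v from funext fun _ => hf.bilinear.smul_right _ _ _]
          simp only [coefAt, vecMulVec_smul, oneM_smul, Matrix.smul_mul, ← Finset.smul_sum]
          rw [show ∑ a, oneM i (vecMulVec (Pi.single a 1) (formVec f v)) * A' *
            oneM i (vecMulVec v (Pi.single a 1)) = 0 from hflat v, smul_zero]
        refine finish (la f v v') 4 _ v (Or.inr ⟨v, v', hvv, hn, hv, rfl⟩) (by
          rw [show (4 : F) = 2 * 2 by norm_num]; exact mul_ne_zero h2 h2) hc ?_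
        have := bracket_mem hQ (bracket_mem hQ hmem i v) i v'
        have hswap : coefAt i A' (formVec f v) v' = -coefAt i A' (formVec f v') v := by
          have h4 := hflat (v + v')
          rw [show formVec f (v + v') = formVec f v + formVec f v' from funext fun _ => hf.bilinear.add_right _ _ _,
            coefAt_add_left, coefAt_add_right, coefAt_add_right, hflat v, hflat v', zero_add, add_zero] at h4
          exact eq_neg_of_add_eq_zero_left h4
        have h12 : oneM i (er f v') * oneM i (er f v) = 0 := by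
          rw [oneM_mul, er, er, vecMulVec_mul_vecMulVec, dot hf, hvv, zero_smul, vecMulVec_zero, oneM_zero]
        have h21 : oneM i (er f v) * oneM i (er f v') = 0 := by
          rw [oneM_mul, er, er, vecMulVec_mul_vecMulVec, dot hf, hf.skew, hvv, neg_zero, zero_smul, vecMulVec_zero,
            oneM_zero]
        set E := oneM i (er f v)
        set E' := oneM i (er f v')
        have e : E' * ((2 : F) • (E * (pt a * A') - pt a * A' * E)) - (2 : F) • (E * (pt a * A') - pt a * A' * E) * E' =
            (2 : F) • (pt a * (oneM i (la f v v') * coefAt i A' (formVec f v') v)) := by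
          have e1 : E' * (pt a * A') * E = pt a * (oneM i (vecMulVec v' (formVec f v)) * coefAt i A' (formVec f v') v) := by
            rw [← mul_assoc, hcomm, mul_assoc, mul_assoc, ← mul_assoc E']
            exact congrArg _ (coefAt_mul i A' (formVec f v') v v' (formVec f v)).symm
          have e2 : E * (pt a * A') * E' = pt a * (oneM i (vecMulVec v (formVec f v')) * coefAt i A' (formVec f v) v') := by
            rw [← mul_assoc, hcomm, mul_assoc, mul_assoc, ← mul_assoc E]
            exact congrArg _ (coefAt_mul i A' (formVec f v) v' v (formVec f v')).symm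
          rw [Matrix.mul_smul, Matrix.smul_mul, ← smul_sub, mul_sub, sub_mul, ← mul_assoc E' E, h12, zero_mul,
            zero_sub, mul_assoc _ E E', h21, mul_zero, sub_zero, ← mul_assoc E', e1, e2, hswap]
          congr 1
          rw [la, sub_eq_add_neg (vecMulVec v _), oneM_add, ← neg_one_smul F (vecMulVec v' _), oneM_smul,
            neg_one_smul, add_mul, neg_mul, mul_neg, mul_add, mul_neg, mul_neg]
          abel
        rw [e, smul_smul] at this
        rwa [show (2 : F) * 2 = 4 by norm_num] at this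
      push Not at h3
      have htriv : Triv i A' := triv_of_coef fun φ u hφ => by
        obtain ⟨v', rfl⟩ := formVec_onto hf φ
        rw [dot hf] at hφ
        exact h3 u v' hφ
      exact ⟨S, a, A', hST.trans (Finset.subset_insert _ _), hat, hone, hne, fun l hl => by
        rcases Finset.mem_insert.1 hl with rfl | hl'
        · exact htriv
        · exact htr l hl', hmem, hempty⟩
  obtain ⟨S, a, A', -, hat, hone, hne, htr, hmem, hempty⟩ := key Finset.univ
  obtain ⟨c, rfl⟩ := eq_smul_one fun i => htr i (Finset.mem_univ i)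
  refine ⟨S, a, c, Finset.nonempty_iff_ne_empty.2 fun e => hns c (hempty e).symm,
    fun e => hne (by rw [e, zero_smul]), hat, hone, ?_⟩
  rwa [Matrix.mul_smul, mul_one] at hmem

end Loop

end Cfsg.Agent.Lib.TensorSympMax.Atoms
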