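import Mathlib.GroupTheory.PGroup
import Mathlib.Algebra.CharP.Basic
import Mathlib.Algebra.Algebra.Basic

/-!
A normal subgroup whose image has no fixed points under a group of elements summing to `-1` in a linear
representation acts trivially; lifting of fixed points through a `p'`-kernel.
-/

set_option autoImplicit false
set_option linter.unusedSectionVars false
set_option linter.style.haveILetI false

namespace Cfsg.Agent.Lib.TensorSympMax.Average

variable {G : Type*} [Group G] [Finite G] {p : ℕ} [hp : Fact p.Prime]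

/-- The number of points fixed by an element of order `p` on a conjugation invariant set. -/
theorem card_fixed {n : G} (hn : n ^ p = 1) (S : Set G) (hS : ∀ x, x ∈ S ↔ n * x * n⁻¹ ∈ S) :
    Nat.card S ≡ Nat.card {x : G | x ∈ S ∧ n * x = x * n} [MOD p] := by
  let P := Subgroup.zpowers n
  have hP : IsPGroup p P := fun x => ⟨1, Subtype.ext (by
    obtain ⟨z, hz⟩ := Subgroup.mem_zpowers_iff.1 x.2
    rw [pow_one, Subgroup.coe_pow, ← hz, ← zpow_natCast, ← zpow_mul, mul_comm, zpow_mul, zpow_natCast, hn,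
      one_zpow]; rfl)⟩
  have hmem : ∀ g ∈ P, ∀ x ∈ S, g * x * g⁻¹ ∈ S := by
    let N : Subgroup G :=
      { carrier := {g | ∀ x, x ∈ S ↔ g * x * g⁻¹ ∈ S}
        one_mem' := fun x => by simp
        mul_mem' := fun {a b} ha hb x => (hb x).trans ((ha _).trans (by simp [mul_assoc]))
        inv_mem' := fun {a} ha x => by
          rw [ha (a⁻¹ * x * a⁻¹⁻¹)]
          simp [mul_assoc] }
    have hle : P ≤ N := Subgroup.zpowers_le.2 hS
    exact fun g hg x hx => (hle hg x).1 hx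
  letI : MulAction P S :=
    { smul := fun g x => ⟨g.1 * x.1 * g.1⁻¹, hmem g.1 g.2 x.1 x.2⟩
      one_smul := fun x => Subtype.ext (show (1 : G) * x.1 * (1 : G)⁻¹ = x.1 by simp)
      mul_smul := fun a b x => Subtype.ext
        (show a.1 * b.1 * x.1 * (a.1 * b.1)⁻¹ = a.1 * (b.1 * x.1 * b.1⁻¹) * a.1⁻¹ by group) }
  refine (hP.card_modEq_card_fixedPoints S).trans (congrArg (· % p) (Nat.card_congr
    { toFun := fun x => ⟨x.1.1, x.1.2, by
        have h : n * x.1.1 * n⁻¹ = x.1.1 := congrArg Subtype.val (x.2 ⟨n, Subgroup.mem_zpowers n⟩)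
        rw [mul_inv_eq_iff_eq_mul] at h
        exact h⟩
      invFun := fun x => ⟨⟨x.1, x.2.1⟩, fun g => Subtype.ext (by
        show g.1 * x.1 * g.1⁻¹ = x.1
        have hc : Commute g.1 x.1 := by
          obtain ⟨z, hz⟩ := Subgroup.mem_zpowers_iff.1 g.2
          rw [← hz]
          exact (show Commute n x.1 from x.2.2).zpow_left z
        rw [hc.eq, mul_inv_cancel_right])⟩
      left_inv := fun x => rfl
      right_inv := fun x => rfl }))

/-- A normalised subgroup in which nothing of order `p` is fixed has order prime to `p`. -/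
theorem not_dvd {n : G} (hn : n ^ p = 1) (D : Subgroup G) (hD : ∀ x, x ∈ D ↔ n * x * n⁻¹ ∈ D)
    (hC : ∀ x ∈ D, n * x = x * n → x ^ p = 1 → x = 1) : ¬ p ∣ Nat.card D := by
  intro hd
  let C : Subgroup G :=
    { carrier := {x | x ∈ D ∧ n * x = x * n}
      one_mem' := ⟨D.one_mem, by simp⟩
      mul_mem' := fun {a b} ha hb => ⟨D.mul_mem ha.1 hb.1, (show Commute n a from ha.2).mul_right hb.2⟩
      inv_mem' := fun {a} ha => ⟨D.inv_mem ha.1, (show Commute n a from ha.2).inv_right⟩ }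
  have h : Nat.card D ≡ Nat.card C [MOD p] := card_fixed hn (D : Set G) hD
  obtain ⟨x, hx⟩ := exists_prime_orderOf_dvd_card' (G := C) p
    (Nat.modEq_zero_iff_dvd.1 (h.symm.trans (Nat.modEq_zero_iff_dvd.2 hd)))
  have h1 := hC x.1 x.2.1 x.2.2 (by rw [← Subgroup.orderOf_coe] at hx; rw [← hx]; exact pow_orderOf_eq_one _)
  rw [← Subgroup.orderOf_coe, h1, orderOf_one] at hx
  exact hp.out.ne_one hx.symm

variable {H : Type*} [Group H] (Γ : G →* H)

/-- Fixed points lift through a kernel of order prime to `p`. -/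
theorem exists_comm {n : G} (hn : n ^ p = 1) (D : Subgroup G) (hD : ∀ x, x ∈ D ↔ n * x * n⁻¹ ∈ D)
    (hK : ¬ p ∣ Nat.card (D ⊓ Γ.ker : Subgroup G)) {x : G} (hx : x ∈ D) (hΓ : Γ n * Γ x = Γ x * Γ n) :
    ∃ y ∈ D, Γ y = Γ x ∧ n * y = y * n := by
  let S : Set G := {y | y ∈ D ∧ Γ y = Γ x}
  have hS : ∀ y, y ∈ S ↔ n * y * n⁻¹ ∈ S := fun y => by
    show y ∈ D ∧ Γ y = Γ x ↔ _ ∈ D ∧ Γ _ = Γ x
    rw [← hD, map_mul, map_mul, map_inv, mul_inv_eq_iff_eq_mul, ← hΓ, mul_right_inj]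
  have hcard : Nat.card S = Nat.card (D ⊓ Γ.ker : Subgroup G) := Nat.card_congr
    { toFun := fun y => ⟨x⁻¹ * y.1, D.mul_mem (D.inv_mem hx) y.2.1, by
        show Γ (x⁻¹ * y.1) = 1
        rw [map_mul, map_inv, y.2.2, inv_mul_cancel]⟩
      invFun := fun e => ⟨x * e.1, D.mul_mem hx e.2.1, by
        rw [map_mul, show Γ e.1 = 1 from e.2.2, mul_one]⟩
      left_inv := fun y => Subtype.ext (mul_inv_cancel_left _ _)
      right_inv := fun e => Subtype.ext (inv_mul_cancel_left _ _) }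
  have h : Nat.card S ≡ _ [MOD p] := card_fixed hn S hS
  by_contra hne
  push Not at hne
  rw [hcard, show {y : G | y ∈ S ∧ n * y = y * n} = ∅ from
    Set.eq_empty_of_forall_notMem fun y hy => hne y hy.1.1 hy.1.2 hy.2] at h
  exact hK (Nat.modEq_zero_iff_dvd.1 (h.trans (by rw [Nat.card_of_isEmpty (α := (∅ : Set G))])))

/-- The averaging argument. -/
theorem image_trivial {F A : Type*} [Field F] [Fintype F] [DecidableEq F] [Ring A] [Algebra F A] [CharP F p]
    (D : Subgroup G) (hD : D.Normal) (r : F → G) (hr : ∀ c, r c ^ p = 1) (Γ : G →* Aˣ)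
    (hsum : ∑ c ∈ Finset.univ.erase (0 : F), ((Γ (r c) : Aˣ) : A) = -1)
    (hC : ∀ c : F, c ≠ 0 → ∀ y ∈ D, r c * y = y * r c → Γ y = 1)
    (hp' : ¬ p ∣ Nat.card D) : ∀ x ∈ D, Γ x = 1 := by
  classical
  haveI := Fintype.ofFinite G
  set E := D.map Γ
  haveI : Finite E := Set.Finite.to_subtype ((Set.toFinite (D : Set G)).image Γ)
  haveI : Fintype E := Fintype.ofFinite E
  have hconj : ∀ (n : G), ∀ d ∈ E, d * Γ n * d⁻¹ * (Γ n)⁻¹ ∈ E := by
    rintro n _ ⟨x, hx, rfl⟩
    refine ⟨x * (n * x⁻¹ * n⁻¹), D.mul_mem hx (hD.conj_mem _ (D.inv_mem hx) n), ?_⟩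
    simp only [map_mul, map_inv, mul_assoc]
  have key : ∀ c : F, c ≠ 0 → ∑ d : E, ((d.1 * Γ (r c) * d.1⁻¹ : Aˣ) : A) =
      ∑ d : E, ((d.1 : Aˣ) : A) * ((Γ (r c) : Aˣ) : A) := by
    intro c hc
    let φ : E → E := fun d => ⟨_, hconj (r c) d.1 d.2⟩
    have hφ : Function.Injective φ := by
      intro a b hab
      have h1 : a.1 * Γ (r c) * a.1⁻¹ = b.1 * Γ (r c) * b.1⁻¹ := mul_right_cancel (congrArg Subtype.val hab)
      obtain ⟨x, hx, hxab⟩ := E.mul_mem (E.inv_mem b.2) a.2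
      obtain ⟨y, hy, hyx, hyn⟩ := exists_comm Γ (hr c) D (fun z => ⟨fun hz => hD.conj_mem z hz _, fun hz => by
          simpa [mul_assoc] using hD.conj_mem _ hz (r c)⁻¹⟩)
        (fun hd => hp' (hd.trans (Subgroup.card_dvd_of_le inf_le_left))) hx (by
          rw [hxab, show Γ (r c) * (b.1⁻¹ * a.1) = b.1⁻¹ * (b.1 * Γ (r c) * b.1⁻¹) * a.1 by group, ← h1]
          group)
      rw [hC c hc y hy hyn] at hyx
      rw [← hyx] at hxab
      exact Subtype.ext (inv_mul_eq_one.1 hxab.symm).symm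
    rw [← (Finite.injective_iff_bijective.1 hφ).sum_comp fun d : E => ((d.1 : Aˣ) : A) * ((Γ (r c) : Aˣ) : A)]
    refine Finset.sum_congr rfl fun d _ => ?_
    show _ = ((d.1 * Γ (r c) * d.1⁻¹ * (Γ (r c))⁻¹ : Aˣ) : A) * _
    rw [← Units.val_mul, inv_mul_cancel_right]
  have h0 : ∑ d : E, ((d.1 : Aˣ) : A) * (-1) * ((d.1⁻¹ : Aˣ) : A) = ∑ d : E, ((d.1 : Aˣ) : A) * (-1) := by
    simp only [← hsum, Finset.mul_sum, Finset.sum_mul]
    rw [Finset.sum_comm]
    refine Eq.trans ?_ Finset.sum_comm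
    exact Finset.sum_congr rfl fun c hc => by
      have h := key c (Finset.ne_of_mem_erase hc)
      simp only [Units.val_mul] at h
      exact h
  have h1 : ((Finset.univ : Finset E).card : A) = ∑ d : E, ((d.1 : Aˣ) : A) := by
    simpa [Finset.sum_neg_distrib] using h0
  intro x hx
  have h2 : (Γ x : A) * ∑ d : E, ((d.1 : Aˣ) : A) = ∑ d : E, ((d.1 : Aˣ) : A) := by
    rw [Finset.mul_sum]
    refine Fintype.sum_equiv (Equiv.mulLeft (⟨Γ x, x, hx, rfl⟩ : E)) _ _ fun d => ?_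
    rfl
  rw [← h1] at h2
  have hne : ((Finset.univ : Finset E).card : F) ≠ 0 := by
    rw [Ne, CharP.cast_eq_zero_iff F p, Finset.card_univ, ← Nat.card_eq_fintype_card]
    exact fun hd => hp' (hd.trans (D.card_map_dvd Γ))
  rw [← map_natCast (algebraMap F A), Algebra.algebraMap_eq_smul_one, mul_smul_comm, mul_one] at h2
  refine Units.ext ?_
  have h3 := congrArg (fun a : A => (((Finset.univ : Finset E).card : F))⁻¹ • a) h2
  simpa only [smul_smul, inv_mul_cancel₀ hne, one_smul, Units.val_one] using h3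

end Cfsg.Agent.Lib.TensorSympMax.Average
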