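import Cfsg.Agent.Lib.TensorPowerMax.Roots

/-!
Tensor powers of an alternating form: the product form, its roots, blocks and an overgroup setting.
-/

set_option autoImplicit false
set_option linter.unusedSectionVars false

namespace Cfsg.Agent.Lib.TensorSympMax.Basic

open Matrix Kronecker
open Cfsg.Agent.Lib.Subspaces.Transvection Cfsg.Agent.Lib.Subspaces.FormVec
  Cfsg.Agent.Lib.TensorPowerMax.Basic

variable {ι : Type} [Fintype ι] [DecidableEq ι] {k : ℕ} {F : Type*} [Field F]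

local notation "A1" => Matrix (Fin k) (Fin k) F
local notation "Big" => Matrix (ι → Fin k) (ι → Fin k) F
local notation "GG" => GL (ι → Fin k) F
local notation "W1" => Fin k → F
local notation "Vec" => (ι → Fin k) → F

/-- The tensor power of a form. -/
def Bt (f : (Fin k → F) → (Fin k → F) → F) (x y : (ι → Fin k) → F) : F :=
  x ⬝ᵥ (pt (fun _ : ι => Cfsg.Geo.gramMatrix f) *ᵥ y)

theorem Bt_eq_sum (f : W1 → W1 → F) (x y : Vec) :
    Bt f x y = ∑ a, ∑ b, x a * (∏ i, Cfsg.Geo.gramMatrix f (a i) (b i)) * y b := by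
  simp only [Bt, dotProduct, mulVec, pt_apply, Finset.mul_sum, mul_assoc]

variable {f : (Fin k → F) → (Fin k → F) → F}

theorem Bt_add_left (x y z : Vec) : Bt f (x + y) z = Bt f x z + Bt f y z := by simp [Bt, add_dotProduct]
theorem Bt_smul_left (c : F) (x z : Vec) : Bt f (c • x) z = c * Bt f x z := by simp [Bt, smul_dotProduct]
theorem Bt_add_right (x y z : Vec) : Bt f x (y + z) = Bt f x y + Bt f x z := by
  simp [Bt, mulVec_add, dotProduct_add]
theorem Bt_smul_right (c : F) (x z : Vec) : Bt f x (c • z) = c * Bt f x z := by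
  simp [Bt, mulVec_smul, dotProduct_smul]

section Form

variable (hf : Cfsg.Geo.IsSymplecticForm f)
include hf

theorem gram_mulVec (w : W1) : Cfsg.Geo.gramMatrix f *ᵥ w = formVec f w := by
  ext a
  show ∑ b, f (Pi.single a 1) (Pi.single b 1) * w b = f (Pi.single a 1) w
  let L : W1 →ₗ[F] F :=
    { toFun := f (Pi.single a 1)
      map_add' := fun x y => hf.bilinear.add_right _ x y
      map_smul' := fun c x => hf.bilinear.smul_right c _ x }
  conv_rhs => rw [show f (Pi.single a 1) w = L w from rfl, ← Finset.univ_sum_single w, map_sum]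
  refine Finset.sum_congr rfl fun b _ => ?_
  rw [show (Pi.single b (w b) : W1) = w b • Pi.single b 1 by rw [← Pi.single_smul', smul_eq_mul, mul_one],
    map_smul, smul_eq_mul, mul_comm]
  rfl

theorem dot (v x : W1) : formVec f v ⬝ᵥ x = f x v :=
  formVec_dot (isLinearLeft_of_bilinear hf.bilinear) v x

theorem zero_left (v : W1) : f 0 v = 0 := form_zero_left (isLinearLeft_of_bilinear hf.bilinear) v

theorem zero_right (v : W1) : f v 0 = 0 := by rw [hf.skew, zero_left hf, neg_zero]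

theorem gram_form (x y : W1) : x ⬝ᵥ (Cfsg.Geo.gramMatrix f *ᵥ y) = f x y := by
  rw [gram_mulVec hf, dotProduct_comm, dot hf]

theorem gram_transpose : (Cfsg.Geo.gramMatrix f)ᵀ = -Cfsg.Geo.gramMatrix f := by
  ext a b
  exact hf.skew _ _

theorem exists_ne {v : W1} (hv : v ≠ 0) : ∃ x, f x v ≠ 0 := by
  obtain ⟨⟨x, hx⟩, -⟩ := hf.nondegenerate v hv
  exact ⟨x, hx⟩

theorem exists_one {v : W1} (hv : v ≠ 0) : ∃ x, f x v = 1 := by
  obtain ⟨x, hx⟩ := exists_ne hf hv
  exact ⟨(f x v)⁻¹ • x, by rw [hf.bilinear.smul_left, inv_mul_cancel₀ hx]⟩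

theorem formVec_ne {v : W1} (hv : v ≠ 0) : formVec f v ≠ 0 := fun e => by
  obtain ⟨x, hx⟩ := exists_one hf hv
  rw [← dot hf, e, zero_dotProduct] at hx
  exact zero_ne_one hx

theorem formVec_self (v : W1) : formVec f v ⬝ᵥ v = 0 := by rw [dot hf, hf.alternating]

theorem formVec_onto [Finite F] (φ : W1) : ∃ u, formVec f u = φ :=
  formVec_surjective (isLinearLeft_of_bilinear hf.bilinear) hf.bilinear.add_right
    hf.nondegenerate φ

theorem Bt_pv (r s : ι → W1) : Bt f (pv r) (pv s) = ∏ i, f (r i) (s i) := by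
  rw [Bt, pt_mulVec, pv_dot]
  exact Finset.prod_congr rfl fun i _ => gram_form hf _ _

theorem Bt_swap (x y : Vec) : Bt f y x = (-1) ^ Fintype.card ι * Bt f x y := by
  have hT : (pt fun _ : ι => Cfsg.Geo.gramMatrix f)ᵀ =
      ((-1 : F) ^ Fintype.card ι) • pt (fun _ : ι => Cfsg.Geo.gramMatrix f) := by
    ext a b
    rw [Matrix.transpose_apply, pt_apply, Matrix.smul_apply, pt_apply, smul_eq_mul,
      ← Finset.card_univ, ← Finset.prod_const, ← Finset.prod_mul_distrib]
    exact Finset.prod_congr rfl fun i _ => by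
      rw [neg_one_mul]; exact hf.skew _ _
  show y ⬝ᵥ (_ *ᵥ x) = _
  rw [dotProduct_mulVec, ← mulVec_transpose, hT, smul_mulVec, smul_dotProduct, smul_eq_mul, dotProduct_comm]
  rfl

theorem Bt_nondeg {y : Vec} (h : ∀ x, Bt f x y = 0) : y = 0 := by
  have hdet : IsUnit (Cfsg.Geo.gramMatrix f) := by
    rw [← Matrix.mulVec_injective_iff_isUnit]
    intro a b hab
    by_contra hne
    refine formVec_ne hf (sub_ne_zero.2 hne) ?_
    rw [← gram_mulVec hf, mulVec_sub, sub_eq_zero]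
    exact hab
  obtain ⟨u, hu⟩ := hdet
  have h1 : pt (fun _ : ι => Cfsg.Geo.gramMatrix f) *ᵥ y = 0 := dotProduct_eq_zero _ fun x => by
    rw [dotProduct_comm]; exact h x
  have h2 : pt (fun _ : ι => ((u⁻¹ : GL (Fin k) F) : A1)) * pt (fun _ : ι => Cfsg.Geo.gramMatrix f) = 1 := by
    rw [pt_mul, ← pt_one]
    congr 1
    funext i
    show ((u⁻¹ : GL (Fin k) F) : A1) * Cfsg.Geo.gramMatrix f = 1
    rw [← hu, ← Units.val_mul, inv_mul_cancel, Units.val_one]
  rw [← one_mulVec y, ← h2, ← mulVec_mulVec, h1, mulVec_zero]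

/-- A pure tensor of isometries is an isometry. -/
theorem Bt_pt {a : ι → A1} (ha : ∀ i x y, f (a i *ᵥ x) (a i *ᵥ y) = f x y) (x y : Vec) :
    Bt f (pt a *ᵥ x) (pt a *ᵥ y) = Bt f x y := by
  have hG : ∀ i, (a i)ᵀ * Cfsg.Geo.gramMatrix f * a i = Cfsg.Geo.gramMatrix f := fun i => by
    ext p q
    have h := ha i (Pi.single p 1) (Pi.single q 1)
    rw [← gram_form hf, ← gram_form hf] at h
    rw [mulVec_single_one, mulVec_single_one, single_dotProduct, one_mul] at h
    rw [mul_assoc, Matrix.mul_apply]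
    rw [mulVec_single_one] at h
    simp only [Matrix.mul_apply, dotProduct, mulVec, Matrix.transpose_apply, Matrix.col_apply] at h ⊢
    exact h
  have hTr : (pt a)ᵀ = pt fun i => (a i)ᵀ := by
    ext p q
    simp [pt_apply]
  show (pt a *ᵥ x) ⬝ᵥ (_ *ᵥ (pt a *ᵥ y)) = _
  rw [← vecMul_transpose (pt a) x, ← dotProduct_mulVec, mulVec_mulVec, mulVec_mulVec, hTr, pt_mul, pt_mul]
  congr 2
  congr 1
  funext i
  exact hG i

theorem Bt_pm (σ : Equiv.Perm ι) (x y : Vec) : Bt f (pm σ *ᵥ x) (pm σ *ᵥ y) = Bt f x y := by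
  have hTr : (pm (F := F) (m := k) σ)ᵀ = pm σ⁻¹ := by
    ext p q
    simp only [Matrix.transpose_apply, pm_apply]
    congr 1
    exact propext ⟨fun h => by rw [h]; ext; simp, fun h => by rw [h]; ext; simp⟩
  show (pm σ *ᵥ x) ⬝ᵥ (_ *ᵥ (pm σ *ᵥ y)) = _
  rw [← vecMul_transpose (pm σ) x, ← dotProduct_mulVec, mulVec_mulVec, mulVec_mulVec, hTr,
    pm_mul_pt, mul_assoc, pm_mul, inv_mul_cancel, pm_one, mul_one]
  rfl

end Form

/-! ### blocks and vectors -/

theorem mulVec_ins_pt (j : ι) (a : ι → A1) (w : W1) (u : ({i // i ≠ j} → Fin k) → F) :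
    pt a *ᵥ ins j w u = ins j (a j *ᵥ w) (pt (fun i : {i // i ≠ j} => a i.1) *ᵥ u) := by
  have h := TensorPowerMax.Roots.sp_mulVec j (pt a) (ins j w u)
  rw [sp_pt, TensorPowerMax.Roots.ins_comp, TensorPowerMax.Side.kron_mulVec_tens,
    ← TensorPowerMax.Roots.ins_comp] at h
  ext x
  have h1 := congrFun h (split j x)
  simpa using h1.symm

theorem dot_ins (j : ι) (z : Vec) (v : W1) (u : ({i // i ≠ j} → Fin k) → F) :
    z ⬝ᵥ ins j v u = ctr j v z ⬝ᵥ u := by
  simp only [dotProduct, ins, ctr, LinearMap.coe_mk, AddHom.coe_mk]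
  rw [← (split j).symm.sum_comp, Fintype.sum_prod_type]
  refine Finset.sum_congr rfl fun r _ => ?_
  rw [Finset.sum_mul]
  refine Finset.sum_congr rfl fun a _ => ?_
  rw [Equiv.apply_symm_apply, split_symm_self]
  ring

theorem Bt_ins_right (hf : Cfsg.Geo.IsSymplecticForm f) (j : ι) (z : Vec) (w : W1)
    (u : ({i // i ≠ j} → Fin k) → F) : Bt f z (ins j w u) = Bt f (ctr j (formVec f w) z) u := by
  rw [Bt, mulVec_ins_pt, dot_ins, gram_mulVec hf]
  rfl

theorem Bt_ins_ins (hf : Cfsg.Geo.IsSymplecticForm f) (j : ι) (v w : W1)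
    (a b : ({i // i ≠ j} → Fin k) → F) : Bt f (ins j v a) (ins j w b) = f v w * Bt f a b := by
  rw [Bt_ins_right hf, ctr_ins, Bt_smul_left, dot hf]

theorem ins_add_vec (j : ι) (v w : W1) (u : ({i // i ≠ j} → Fin k) → F) :
    ins j (v + w) u = ins j v u + ins j w u := by
  ext x; simp [ins, mul_add]

theorem ins_zero_vec (j : ι) (u : ({i // i ≠ j} → Fin k) → F) : ins j (0 : W1) u = 0 := by
  ext x; simp [ins]

theorem ctr_add_vec (j : ι) (φ ψ : W1) (z : Vec) : ctr j (φ + ψ) z = ctr j φ z + ctr j ψ z := by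
  ext r; simp [ctr, add_mul, Finset.sum_add_distrib]

theorem ctr_smul_vec (j : ι) (c : F) (φ : W1) (z : Vec) : ctr j (c • φ) z = c • ctr j φ z := by
  ext r; simp [ctr, Finset.mul_sum, mul_assoc]

/-- The vectors of a block are spanned by its pure tensors. -/
theorem ins_single (j : ι) (w : W1) (r : {i // i ≠ j} → Fin k) :
    ins j w (Pi.single r 1) = pv fun i => if h : i = j then w else Pi.single (r ⟨i, h⟩) 1 := by
  conv_rhs => rw [← ins_pv j]
  simp only [dif_pos]
  congr 2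
  rw [← pv_single r]
  congr 1
  funext i
  simp [i.2]

/-! ### roots -/

/-- The root element of `w` at the factor `j`. -/
noncomputable def rs (f : (Fin k → F) → (Fin k → F) → F) (j : ι) (w : Fin k → F) (c : F) : GL (ι → Fin k) F :=
  oneGL j (tv w (c • formVec f w))

/-- The displacement of the root element. -/
def Xr (f : (Fin k → F) → (Fin k → F) → F) (j : ι) (w : Fin k → F) : Matrix (ι → Fin k) (ι → Fin k) F :=
  oneM j (vecMulVec w (formVec f w))

theorem Xr_mulVec (j : ι) (w : W1) (z : Vec) : Xr f j w *ᵥ z = ins j w (ctr j (formVec f w) z) :=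
  oneM_mulVec _ _ _ _

section Form

variable (hf : Cfsg.Geo.IsSymplecticForm f)
include hf

theorem coe_rs (j : ι) (w : W1) (c : F) : (rs f j w c : Big) = 1 + c • Xr f j w := by
  have h : (c • formVec f w) ⬝ᵥ w = 0 := by rw [smul_dotProduct, formVec_self hf, smul_zero]
  rw [rs, coe_oneGL, coe_tv h, oneM_add, oneM_one, vecMulVec_smul, oneM_smul, Xr]

theorem rs_mulVec (j : ι) (w : W1) (c : F) (z : Vec) :
    (rs f j w c : Big) *ᵥ z = z + c • ins j w (ctr j (formVec f w) z) := by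
  rw [coe_rs hf, add_mulVec, one_mulVec, smul_mulVec, Xr_mulVec]

theorem Xr_sq (j : ι) (w : W1) : Xr f j w * Xr f j w = 0 := by
  rw [Xr, oneM_mul, vecMulVec_mul_vecMulVec, formVec_self hf, zero_smul, vecMulVec_zero, oneM_zero]

theorem tv_isometry (w : W1) (c : F) (x y : W1) :
    f ((tv w (c • formVec f w) : GL (Fin k) F).val *ᵥ x) ((tv w (c • formVec f w) : GL (Fin k) F).val *ᵥ y) = f x y := by
  have h : (c • formVec f w) ⬝ᵥ w = 0 := by rw [smul_dotProduct, formVec_self hf, smul_zero]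
  rw [tv_mulVec h, tv_mulVec h, smul_dotProduct, smul_dotProduct, dot hf, dot hf, hf.bilinear.add_left,
    hf.bilinear.add_right, hf.bilinear.add_right, hf.bilinear.smul_left, hf.bilinear.smul_left,
    hf.bilinear.smul_right, hf.bilinear.smul_right, hf.alternating, hf.skew w y, smul_eq_mul, smul_eq_mul]
  ring

/-- The isometries are transitive on non-zero vectors. -/
theorem exists_move {v w : W1} (hv : v ≠ 0) (hw : w ≠ 0) :
    ∃ b : GL (Fin k) F, (∀ x y, f ((b : A1) *ᵥ x) ((b : A1) *ᵥ y) = f x y) ∧ (b : A1) *ᵥ v = w := by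
  have step : ∀ {v w : W1}, f v w ≠ 0 →
      ∃ b : GL (Fin k) F, (∀ x y, f ((b : A1) *ᵥ x) ((b : A1) *ᵥ y) = f x y) ∧ (b : A1) *ᵥ v = w := by
    intro v w h
    refine ⟨tv (w - v) ((f v w)⁻¹ • formVec f (w - v)), tv_isometry hf _ _, ?_⟩
    have h' : ((f v w)⁻¹ • formVec f (w - v)) ⬝ᵥ (w - v) = 0 := by
      rw [smul_dotProduct, formVec_self hf, smul_zero]
    have e : f v (w - v) = f v w := by
      conv_rhs => rw [show w = (w - v) + v by abel, hf.bilinear.add_right, hf.alternating, add_zero]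
    rw [tv_mulVec h', smul_dotProduct, dot hf, e, smul_eq_mul, inv_mul_cancel₀ h, one_smul, add_sub_cancel]
  obtain ⟨z, hz1, hz2⟩ : ∃ z, f v z ≠ 0 ∧ f z w ≠ 0 := by
    obtain ⟨a, ha⟩ := exists_ne hf hv
    have ha' : f v a ≠ 0 := fun e => ha (by rw [hf.skew, e, neg_zero])
    obtain ⟨b, hb⟩ := exists_ne hf hw
    by_cases h1 : f a w ≠ 0
    · exact ⟨a, ha', h1⟩
    by_cases h2 : f v b ≠ 0
    · exact ⟨b, h2, hb⟩
    push Not at h1 h2
    exact ⟨a + b, by rw [hf.bilinear.add_right, h2, add_zero]; exact ha',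
      by rw [hf.bilinear.add_left, h1, zero_add]; exact hb⟩
  obtain ⟨b1, hb1, e1⟩ := step hz1
  obtain ⟨b2, hb2, e2⟩ := step hz2
  exact ⟨b2 * b1, fun x y => by rw [gl_mul_mulVec, gl_mul_mulVec, hb2, hb1], by rw [gl_mul_mulVec, e1, e2]⟩

theorem exists_indep (hk : 2 ≤ k) (w : W1) : ∃ z : W1, z ∉ Submodule.span F {w} := by
  obtain ⟨z, hz, -⟩ := exists_common_zero_not_mem (Submodule.span F {w}) (![] : Fin 0 → W1) (by
    have : Module.finrank F (Submodule.span F {w}) ≤ 1 := (finrank_span_le_card _).trans (by simp)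
    rw [Fintype.card_fin]; omega)
  exact ⟨z, hz⟩

end Form

/-! ### the setting -/

/-- An overgroup of the one-factor isometries inside the isometry group. -/
structure Setting (f : (Fin k → F) → (Fin k → F) → F) (M : Subgroup (GL (ι → Fin k) F)) : Prop where
  hf : Cfsg.Geo.IsSymplecticForm f
  hk : 4 ≤ k ∨ (k = 2 ∧ 5 ≤ Nat.card F ∧ (2 : F) ≠ 0)
  hι : 2 ≤ Fintype.card ι
  iso : ∀ g ∈ M, ∀ x y, Bt f ((g : Matrix (ι → Fin k) (ι → Fin k) F) *ᵥ x)
    ((g : Matrix (ι → Fin k) (ι → Fin k) F) *ᵥ y) = Bt f x y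
  one : ∀ (j : ι) (b : GL (Fin k) F), (∀ x y, f ((b : Matrix (Fin k) (Fin k) F) *ᵥ x)
    ((b : Matrix (Fin k) (Fin k) F) *ᵥ y) = f x y) → oneGL j b ∈ M
  perm : Fintype.card ι = 2 ∨ ∀ σ : Equiv.Perm ι, pmGL σ ∈ M

/-- The setting in odd characteristic with all permutations of the factors. -/
structure OddSetting (f : (Fin k → F) → (Fin k → F) → F) (M : Subgroup (GL (ι → Fin k) F)) : Prop
    extends Setting f M where
  two : (2 : F) ≠ 0
  perm_all : ∀ σ : Equiv.Perm ι, pmGL σ ∈ M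

namespace Setting

variable {M : Subgroup (GL (ι → Fin k) F)} (S : Setting f M)
include S

theorem two_le : 2 ≤ k := by rcases S.hk with h | ⟨h, -⟩ <;> omega

theorem rs_mem (j : ι) (w : W1) (c : F) : rs f j w c ∈ M := S.one j _ (tv_isometry S.hf w c)

theorem rest_nonempty (j : ι) : Nonempty ({i // i ≠ j} → Fin k) := ⟨fun _ => ⟨0, by have := S.two_le; omega⟩⟩

end Setting

/-- The elements `C` with `C ⊗ 1` in the group, seen from the factor `j`. -/
def proj (M : Subgroup (GL (ι → Fin k) F)) (j : ι) : Subgroup (GL ({i // i ≠ j} → Fin k) F) where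
  carrier := {C | TensorPowerMax.Side.kronGL C (1 : GL (Fin k) F) ∈ TensorPowerMax.Split.Mj M j}
  one_mem' := by
    show TensorPowerMax.Side.kronGL (1 : GL _ F) (1 : GL (Fin k) F) ∈ TensorPowerMax.Split.Mj M j
    rw [show TensorPowerMax.Side.kronGL (1 : GL ({i // i ≠ j} → Fin k) F) (1 : GL (Fin k) F) = 1 from
      Units.ext Matrix.one_kronecker_one]
    exact one_mem _
  mul_mem' := by
    intro A B hA hB
    show TensorPowerMax.Side.kronGL (A * B) (1 : GL (Fin k) F) ∈ TensorPowerMax.Split.Mj M j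
    rw [show TensorPowerMax.Side.kronGL (A * B) (1 : GL (Fin k) F) =
      TensorPowerMax.Side.kronGL A 1 * TensorPowerMax.Side.kronGL B 1 from Units.ext (by
        show (A.val * B.val) ⊗ₖ (1 : A1) = A.val ⊗ₖ (1 : A1) * B.val ⊗ₖ (1 : A1)
        rw [← Matrix.mul_kronecker_mul, mul_one])]
    exact mul_mem hA hB
  inv_mem' := by
    intro A hA
    show TensorPowerMax.Side.kronGL A⁻¹ (1 : GL (Fin k) F) ∈ TensorPowerMax.Split.Mj M j
    rw [show TensorPowerMax.Side.kronGL A⁻¹ (1 : GL (Fin k) F) =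
      (TensorPowerMax.Side.kronGL A 1)⁻¹ from (inv_eq_of_mul_eq_one_right (Units.ext (by
        show A.val ⊗ₖ (1 : A1) * ((A⁻¹ : GL _ F)).val ⊗ₖ (1 : A1) = 1
        rw [← Matrix.mul_kronecker_mul, mul_one, ← Units.val_mul, mul_inv_cancel, Units.val_one,
          Matrix.one_kronecker_one]))).symm]
    exact inv_mem hA

end Cfsg.Agent.Lib.TensorSympMax.Basic
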