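import Cfsg.Agent.Lib.TensorSympMax.Quad
import Cfsg.Agent.Lib.UnitaryPowerMax.BlockTo

/-!
Without an outer radical element, an element of the overgroup carrying one block to a block lies in the
stabiliser, given the same for fewer factors.
-/

set_option autoImplicit false
set_option linter.unusedSectionVars false
set_option linter.style.haveILetI false

namespace Cfsg.Agent.Lib.TensorSympMax.BlockTo

open Matrix Kronecker
open Cfsg.Agent.Lib.Subspaces.Transvection Cfsg.Agent.Lib.Subspaces.FormVec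
  Cfsg.Agent.Lib.TensorPowerMax.Basic Cfsg.Agent.Lib.TensorSympMax.Basic Cfsg.Agent.Lib.TensorSympMax.Quad

variable {ι : Type} [Fintype ι] [DecidableEq ι] {k : ℕ} {F : Type*} [Field F]

local notation "A1" => Matrix (Fin k) (Fin k) F
local notation "Big" => Matrix (ι → Fin k) (ι → Fin k) F
local notation "GG" => GL (ι → Fin k) F
local notation "W1" => Fin k → F

/-- A radical element of some block outside the stabiliser. -/
def Good (f : (Fin k → F) → (Fin k → F) → F) (M : Subgroup (GL (ι → Fin k) F)) : Prop :=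
  ∃ (j : ι) (w : Fin k → F) (x : GL (ι → Fin k) F), w ≠ 0 ∧ x ∈ M ∧ x ∉ stab ι k F ∧
    (∀ u, (x : Matrix (ι → Fin k) (ι → Fin k) F) *ᵥ ins j w u = ins j w u) ∧
    ∀ z, ctr j (formVec f w) z = 0 →
      (x : Matrix (ι → Fin k) (ι → Fin k) F) *ᵥ z - z ∈ block j w

/-- An isometry conjugating the one-factor isometries into the group. -/
def Norm (f : (Fin k → F) → (Fin k → F) → F) (M : Subgroup (GL (ι → Fin k) F)) (g : GL (ι → Fin k) F) : Prop :=
  (∀ x y, Bt f ((g : Matrix (ι → Fin k) (ι → Fin k) F) *ᵥ x) ((g : Matrix (ι → Fin k) (ι → Fin k) F) *ᵥ y) =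
    Bt f x y) ∧ ∀ (j : ι) (b : GL (Fin k) F), (∀ x y, f ((b : Matrix (Fin k) (Fin k) F) *ᵥ x)
      ((b : Matrix (Fin k) (Fin k) F) *ᵥ y) = f x y) → g * oneGL j b * g⁻¹ ∈ M

/-- The rigidity in lower degree. -/
def Lower (f : (Fin k → F) → (Fin k → F) → F) (ι : Type) [Fintype ι] : Prop :=
  ∀ (κ : Type) [Fintype κ] [DecidableEq κ], Fintype.card κ < Fintype.card ι →
    ∀ M : Subgroup (GL (κ → Fin k) F), Setting f M → ¬ Good f M → M ≤ stab κ k F

theorem mulVec_ins_of_kron {j : ι} {g : GG} {C : GL ({l // l ≠ j} → Fin k) F} {N : GL (Fin k) F}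
    (h : spU j g = TensorPowerMax.Side.kronGL C N) (z : W1) (u : ({l // l ≠ j} → Fin k) → F) :
    (g : Big) *ᵥ ins j z u = ins j ((N : A1) *ᵥ z) (C.val *ᵥ u) := by
  have h1 := TensorPowerMax.Roots.sp_mulVec j (g : Big) (ins j z u)
  rw [show sp j (g : Big) = C.val ⊗ₖ N.val by rw [← coe_spU, h]; rfl, TensorPowerMax.Roots.ins_comp,
    TensorPowerMax.Side.kron_mulVec_tens, ← TensorPowerMax.Roots.ins_comp] at h1
  ext x
  have h2 := congrFun h1 (TensorPowerMax.Basic.split j x)
  simpa using h2.symm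

theorem eq_oneM {j : ι} {X : Big} {b : A1}
    (h : ∀ (z : W1) (u : ({l // l ≠ j} → Fin k) → F), X *ᵥ ins j z u = ins j (b *ᵥ z) u) : X = oneM j b :=
  ext_pv fun s => by rw [← ins_pv j s, h, TensorPowerMax.Roots.oneM_mulVec_ins]

/-- Linear maps agreeing on all block vectors at one factor agree. -/
theorem ins_ext {V : Type*} [AddCommGroup V] [Module F V] {j : ι} {P Q : ((ι → Fin k) → F) →ₗ[F] V}
    (h : ∀ (z : W1) (u : ({l // l ≠ j} → Fin k) → F), P (ins j z u) = Q (ins j z u))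
    (y : (ι → Fin k) → F) : P y = Q y := by
  have hy : y = ∑ a, ins j (Pi.single a 1) (ctr j (Pi.single a 1) y) := ctr_ext (j := j) fun φ => by
    rw [map_sum]
    simp only [ctr_ins, dotProduct_single, mul_one]
    funext r
    simp [ctr, Pi.single_apply]
  rw [hy, map_sum, map_sum]
  exact Finset.sum_congr rfl fun a _ => h _ _

theorem ctr_kron {j : ι} {X : Big} {A : Matrix ({l // l ≠ j} → Fin k) ({l // l ≠ j} → Fin k) F}
    (h : sp j X = A ⊗ₖ (1 : A1)) (φ : W1) (z : (ι → Fin k) → F) : ctr j φ (X *ᵥ z) = A *ᵥ ctr j φ z := by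
  refine ins_ext (j := j) (P := (ctr j φ).comp (Matrix.mulVecLin X)) (Q := (Matrix.mulVecLin A).comp (ctr j φ))
    (fun w u => ?_) z
  have h1 := TensorPowerMax.Roots.sp_mulVec j X (ins j w u)
  rw [h, TensorPowerMax.Roots.ins_comp, TensorPowerMax.Side.kron_mulVec_tens, one_mulVec,
    ← TensorPowerMax.Roots.ins_comp] at h1
  have h2 : X *ᵥ ins j w u = ins j w (A *ᵥ u) := by
    ext x
    have h3 := congrFun h1 (TensorPowerMax.Basic.split j x)
    simpa using h3.symm
  show ctr j φ (X *ᵥ ins j w u) = A *ᵥ ctr j φ (ins j w u)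
  rw [h2, ctr_ins, ctr_ins, mulVec_smul]

theorem ctr_oneM {j : ι} (c : A1) (φ : W1) (z : (ι → Fin k) → F) :
    ctr j φ (oneM j c *ᵥ z) = ctr j (φ ᵥ* c) z := by
  refine ins_ext (j := j) (P := (ctr j φ).comp (Matrix.mulVecLin (oneM j c))) (Q := ctr j (φ ᵥ* c))
    (fun w u => ?_) z
  show ctr j φ (oneM j c *ᵥ ins j w u) = _
  rw [TensorPowerMax.Roots.oneM_mulVec_ins, ctr_ins, ctr_ins, dotProduct_mulVec]

theorem block_not_le (hk : 2 ≤ k) {i j : ι} (hij : i ≠ j) {v w : W1} (hv : v ≠ 0) (hw : w ≠ 0)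
    (h : ∀ u, ins j w u ∈ block i v) : False := by
  obtain ⟨z, hz⟩ := (avoid_two hk v v).imp fun z h => h.1
  set r : ι → W1 := fun n => if n = j then w else z
  have hz0 : z ≠ 0 := fun e => hz (e ▸ Submodule.zero_mem _)
  have hr : ∀ n, r n ≠ 0 := fun n => by simp only [r]; split_ifs <;> assumption
  have hrj : r j = w := if_pos rfl
  have h1 : pv r ∈ block i v := by rw [← ins_pv j r, hrj]; exact h _
  have h2 : r i ∈ Submodule.span F {v} := mem_span_of_orth fun ψ hψ => by
    have h3 := (mem_block_iff hv).1 h1 ψ hψ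
    rw [ctr_pv, smul_eq_zero] at h3
    exact h3.resolve_right (pv_ne_zero fun n => hr n.1)
  exact hz (by simpa [r, hij] using h2)

variable {f : (Fin k → F) → (Fin k → F) → F} {M : Subgroup (GL (ι → Fin k) F)}

section

variable (S : Setting f M) (hG : ¬ Good f M)
include S hG

/-- Radical elements act on one factor. -/
theorem radical {j : ι} {w : W1} (hw : w ≠ 0) {x : GG} (hx : x ∈ M)
    (h1 : ∀ u, (x : Big) *ᵥ ins j w u = ins j w u)
    (h2 : ∀ z, ctr j (formVec f w) z = 0 → (x : Big) *ᵥ z - z ∈ block j w) :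
    ∃ b : A1, (x : Big) = oneM j b := by
  have hs : x ∈ stab ι k F := by
    by_contra hs
    exact hG ⟨j, w, x, hw, hx, hs, h1, h2⟩
  obtain ⟨a, σ, rfl⟩ := hs
  have hfix : σ j = j := by
    by_contra hne
    exact block_not_le S.two_le hne (gl_ne_zero (a (σ j)) hw) hw fun u => by
      have := TensorPowerMax.Roots.tw_mulVec_block a σ (z := ins j w u) hw (LinearMap.mem_range_self _ _)
      rwa [h1] at this
  have hk := TensorPowerMax.Split.spU_tw a σ hfix
  set C := ptGL (fun i : {i // i ≠ j} => a i.1) * pmGL (TensorPowerMax.Split.restrict σ hfix)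
  have hins := mulVec_ins_of_kron hk
  obtain ⟨η, hη⟩ := exists_dot_eq_one hw
  have hC : ∀ u, (η ⬝ᵥ ((a j : A1) *ᵥ w)) • (C.val *ᵥ u) = u := fun u => by
    have := congrArg (ctr j η) (h1 u)
    rwa [hins, ctr_ins, ctr_ins, hη, one_smul] at this
  refine ⟨(η ⬝ᵥ ((a j : A1) *ᵥ w))⁻¹ • (a j : A1), eq_oneM fun z u => ?_⟩
  haveI := S.rest_nonempty j
  have hne : η ⬝ᵥ ((a j : A1) *ᵥ w) ≠ 0 := fun e => by
    have := hC fun _ => 1
    rw [e, zero_smul] at this
    exact one_ne_zero (congrFun this (Classical.arbitrary _)).symm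
  rw [hins, smul_mulVec, ins_smul]
  conv_rhs => rw [← hC u, map_smul, smul_smul, inv_mul_cancel₀ hne, one_smul]

/-- A block coefficient in the group is scalar. -/
theorem el_scalar {j : ι} {w : W1} (hw : w ≠ 0) {x : GG} (hx : x ∈ M)
    {A : (({l // l ≠ j} → Fin k) → F) → ({l // l ≠ j} → Fin k) → F} (hA0 : A 0 = 0)
    (h : ∀ z, (x : Big) *ᵥ z = z + ins j w (A (ctr j (formVec f w) z))) :
    ∃ c : F, (∀ u, A u = c • u) ∧ x = rs f j w c := by
  obtain ⟨b, hb⟩ := radical S hG hw hx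
    (fun u => by rw [h, ctr_ins, formVec_self S.hf, zero_smul, hA0, map_zero, add_zero])
    (fun z hz => by rw [h, hz, hA0, map_zero, add_zero, sub_self]; exact Submodule.zero_mem _)
  obtain ⟨y, hy⟩ := exists_one S.hf hw
  obtain ⟨η, hη⟩ := exists_dot_eq_one hw
  refine ⟨η ⬝ᵥ (b *ᵥ y) - η ⬝ᵥ y, ?_⟩
  have key : ∀ u, A u = (η ⬝ᵥ (b *ᵥ y) - η ⬝ᵥ y) • u := fun u => by
    have h1 := h (ins j y u)
    rw [hb, TensorPowerMax.Roots.oneM_mulVec_ins, ctr_ins, dot S.hf, hy, one_smul] at h1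
    have h2 := congrArg (ctr j η) h1
    rw [map_add, ctr_ins, ctr_ins, ctr_ins, hη, one_smul] at h2
    rw [sub_smul, h2, add_sub_cancel_left]
  refine ⟨key, gl_ext fun z => ?_⟩
  rw [h, key, map_smul, rs_mulVec S.hf]

omit hG in
theorem norm_of_mem {g : GG} (hg : g ∈ M) : Norm f M g :=
  ⟨S.iso g hg, fun j b hb => M.mul_mem (M.mul_mem hg (S.one j b hb)) (M.inv_mem hg)⟩

omit hG in
theorem Norm.root {g : GG} (hg : Norm f M g) (j : ι) (w : W1) (c : F) : g * rs f j w c * g⁻¹ ∈ M :=
  hg.2 j _ (tv_isometry S.hf w c)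

omit S hG in
theorem iso_inv {g : GG} (hg : ∀ x y, Bt f ((g : Big) *ᵥ x) ((g : Big) *ᵥ y) = Bt f x y) (x y : (ι → Fin k) → F) :
    Bt f (((g⁻¹ : GG) : Big) *ᵥ x) (((g⁻¹ : GG) : Big) *ᵥ y) = Bt f x y := by
  rw [← hg, gl_mulVec_inv, gl_mulVec_inv]

omit hG in
theorem Norm.left {g : GG} (hg : Norm f M g) {i : ι} {b : GL (Fin k) F}
    (hb : ∀ x y, f ((b : A1) *ᵥ x) ((b : A1) *ᵥ y) = f x y) : Norm f M (oneGL i b * g) :=
  ⟨fun x y => by rw [gl_mul_mulVec, gl_mul_mulVec, (norm_of_mem S (S.one i b hb)).1, hg.1], fun j c hc => by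
    rw [show oneGL i b * g * oneGL j c * (oneGL i b * g)⁻¹ =
      oneGL i b * (g * oneGL j c * g⁻¹) * (oneGL i b)⁻¹ by group]
    exact M.mul_mem (M.mul_mem (S.one i b hb) (hg.2 j c hc)) (M.inv_mem (S.one i b hb))⟩

omit hG in
theorem ctr_zero_maps {g : GG} (hg : ∀ x y, Bt f ((g : Big) *ᵥ x) ((g : Big) *ᵥ y) = Bt f x y) {j : ι} {w : W1} (hm : Maps g j w j w) {z : (ι → Fin k) → F} :
    ctr j (formVec f w) ((g : Big) *ᵥ z) = 0 ↔ ctr j (formVec f w) z = 0 := by
  have horth : ∀ z, ctr j (formVec f w) z = 0 ↔ ∀ u, Bt f z (ins j w u) = 0 := fun z =>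
    ⟨fun h u => by rw [Bt_ins_right S.hf, h, Bt, zero_dotProduct],
      fun h => by
        refine Bt_nondeg S.hf fun u => ?_
        rw [Bt_swap S.hf, ← Bt_ins_right S.hf, h, mul_zero]⟩
  rw [horth, horth]
  constructor
  · intro h u
    obtain ⟨y, hy⟩ := hm.mem u
    rw [← hg, ← hy]
    exact h y
  · intro h u
    obtain ⟨y, hy⟩ := hm.exists_pre u
    rw [← hy, hg]
    exact h y

omit hG in
theorem maps_inv {g : GG} {i j : ι} {v w : W1} (hv : v ≠ 0) (hw : w ≠ 0) (hm : Maps g i v j w) :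
    Maps g⁻¹ j w i v :=
  maps_of_le hw hv fun u => by
    obtain ⟨y, hy⟩ := hm.exists_pre u
    rw [← hy, gl_inv_mulVec]
    exact LinearMap.mem_range_self _ _

/-- An element fixing a block conjugates its root group into itself. -/
theorem conj_root {g : GG} (hg : Norm f M g) {j : ι} {w : W1} (hw : w ≠ 0) (hm : Maps g j w j w) (c₀ : F) :
    ∃ c : F, g * rs f j w c₀ * g⁻¹ = rs f j w c := by
  obtain ⟨y, hy⟩ := exists_one S.hf hw
  obtain ⟨η, hη⟩ := exists_dot_eq_one hw
  let A : (({l // l ≠ j} → Fin k) → F) → ({l // l ≠ j} → Fin k) → F := fun u =>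
    c₀ • ctr j η ((g : Big) *ᵥ ins j w (ctr j (formVec f w) (((g⁻¹ : GG) : Big) *ᵥ ins j y u)))
  obtain ⟨c, -, hc⟩ := el_scalar S hG hw (Norm.root S hg j w c₀) (A := A)
    (by simp [A]) fun z => by
    have hmi := maps_inv S hw hw hm
    have h0 : ctr j (formVec f w) (z - ins j y (ctr j (formVec f w) z)) = 0 := by
      rw [map_sub, ctr_ins, dot S.hf, hy, one_smul, sub_self]
    have h1 := (ctr_zero_maps S (iso_inv hg.1) hmi).2 h0
    rw [mulVec_sub, map_sub, sub_eq_zero] at h1
    obtain ⟨v, hv⟩ := hm.mem (ctr j (formVec f w) (((g⁻¹ : GG) : Big) *ᵥ ins j y (ctr j (formVec f w) z)))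
    rw [gl_mul_mulVec, gl_mul_mulVec, rs_mulVec S.hf, mulVec_add, gl_mulVec_inv, mulVec_smul, h1]
    simp only [A, map_smul]
    rw [← hv, ctr_ins, hη, one_smul]
  exact ⟨c, hc⟩

end

/-- The Eichler element of two orthogonal vectors. -/
def eich (f : (Fin k → F) → (Fin k → F) → F) (v a : Fin k → F) : Matrix (Fin k) (Fin k) F :=
  1 + vecMulVec a (formVec f v) + vecMulVec v (formVec f a)

section Eich

variable (hf : Cfsg.Geo.IsSymplecticForm f)
include hf

theorem eich_mulVec (x : W1) {v a : W1} : eich f v a *ᵥ x = x + f x v • a + f x a • v := by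
  rw [eich, add_mulVec, add_mulVec, one_mulVec, vecMulVec_mulVec, vecMulVec_mulVec, op_smul_eq_smul, op_smul_eq_smul,
    dot hf, dot hf]

theorem eich_mul {v a : W1} (h : f a v = 0) : eich f v a * eich f v ((-1 : F) • a) = 1 := by
  refine Matrix.mulVec_injective (funext fun x => ?_)
  rw [← mulVec_mulVec, eich_mulVec hf, eich_mulVec hf]
  simp only [hf.bilinear.add_left, hf.bilinear.smul_left, hf.bilinear.smul_right, hf.alternating, h,
    show f v a = 0 by rw [hf.skew, h, neg_zero], mul_zero, zero_smul, add_zero, one_mulVec]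
  module

theorem eich_isometry {v a : W1} (h : f a v = 0) (x y : W1) : f (eich f v a *ᵥ x) (eich f v a *ᵥ y) = f x y := by
  rw [eich_mulVec hf, eich_mulVec hf]
  simp only [hf.bilinear.add_left, hf.bilinear.add_right, hf.bilinear.smul_left, hf.bilinear.smul_right,
    hf.alternating, h, show f v a = 0 by rw [hf.skew, h, neg_zero], hf.skew v y, hf.skew a y]
  ring

/-- The Eichler element as an invertible matrix. -/
def eichGL {v a : W1} (h : f a v = 0) : GL (Fin k) F where
  val := eich f v a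
  inv := eich f v ((-1 : F) • a)
  val_inv := eich_mul hf h
  inv_val := by
    have := eich_mul hf (v := v) (a := (-1 : F) • a) (by rw [hf.bilinear.smul_left, h, mul_zero])
    rw [smul_smul, neg_one_mul, neg_neg, one_smul] at this
    exact this

/-- Linear functionals are given by the form. -/
theorem Bt_rep {κ : Type} [Fintype κ] [DecidableEq κ] (L : ((κ → Fin k) → F) →ₗ[F] F) :
    ∃ p, ∀ w, Bt f w p = L w := by
  set G := Matrix.mulVecLin (pt fun _ : κ => Cfsg.Geo.gramMatrix f)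
  have hinj : Function.Injective G := (injective_iff_map_eq_zero _).2 fun y hy => Bt_nondeg hf fun x => by
    show x ⬝ᵥ G y = 0
    rw [hy, dotProduct_zero]
  obtain ⟨p, hp⟩ := (LinearMap.injective_iff_surjective.1 hinj) fun r => L (Pi.single r 1)
  refine ⟨p, fun w => ?_⟩
  show w ⬝ᵥ G p = _
  rw [hp]
  conv_rhs => rw [pi_eq_sum_univ' w, map_sum]
  exact Finset.sum_congr rfl fun r _ => by rw [map_smul, smul_eq_mul]

end Eich

/-- The form against a fixed second argument. -/
def Bt_lin {κ : Type} [Fintype κ] [DecidableEq κ] (u : (κ → Fin k) → F) : ((κ → Fin k) → F) →ₗ[F] F where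
  toFun w := Bt f w u
  map_add' x y := Bt_add_left x y u
  map_smul' c x := Bt_smul_left c x u

/-- The torus element of a hyperbolic pair. -/
def tor (f : (Fin k → F) → (Fin k → F) → F) (v v' : Fin k → F) (a : F) : Matrix (Fin k) (Fin k) F :=
  1 + (a - 1) • vecMulVec v (formVec f v') - (a⁻¹ - 1) • vecMulVec v' (formVec f v)

section Tor

variable (hf : Cfsg.Geo.IsSymplecticForm f)
include hf

theorem tor_mulVec (v v' x : W1) (a : F) :
    tor f v v' a *ᵥ x = x + ((a - 1) * f x v') • v - ((a⁻¹ - 1) * f x v) • v' := by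
  rw [tor, sub_mulVec, add_mulVec, one_mulVec, smul_mulVec, smul_mulVec, vecMulVec_mulVec, vecMulVec_mulVec,
    op_smul_eq_smul, op_smul_eq_smul, dot hf, dot hf, smul_smul, smul_smul]

theorem tor_mul {v v' : W1} (h : f v v' = 1) {a b : F} (ha : a ≠ 0) (hb : b ≠ 0) :
    tor f v v' a * tor f v v' b = tor f v v' (a * b) := by
  have h' : f v' v = -1 := by rw [hf.skew, h]
  refine Matrix.mulVec_injective (funext fun x => ?_)
  rw [← mulVec_mulVec, tor_mulVec hf, tor_mulVec hf, tor_mulVec hf]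
  simp only [sub_eq_add_neg, ← neg_smul, hf.bilinear.add_left, hf.bilinear.smul_left, h, h', hf.alternating]
  match_scalars <;> field_simp <;> ring

theorem tor_isometry {v v' : W1} (h : f v v' = 1) {a : F} (ha : a ≠ 0) (x y : W1) :
    f (tor f v v' a *ᵥ x) (tor f v v' a *ᵥ y) = f x y := by
  have h' : f v' v = -1 := by rw [hf.skew, h]
  rw [tor_mulVec hf, tor_mulVec hf, sub_eq_add_neg _ ((_ : F) • v'), sub_eq_add_neg _ ((_ : F) • v'),
    ← neg_smul, ← neg_smul]
  simp only [hf.bilinear.add_left, hf.bilinear.add_right, hf.bilinear.smul_left, hf.bilinear.smul_right, h, h',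
    hf.alternating, hf.skew v y, hf.skew v' y]
  field_simp
  ring

/-- The torus element as an invertible matrix. -/
def torGL {v v' : W1} (h : f v v' = 1) {a : F} (ha : a ≠ 0) : GL (Fin k) F where
  val := tor f v v' a
  inv := tor f v v' a⁻¹
  val_inv := by rw [tor_mul hf h ha (inv_ne_zero ha), mul_inv_cancel₀ ha, tor]; simp
  inv_val := by rw [tor_mul hf h (inv_ne_zero ha) ha, inv_mul_cancel₀ ha, tor]; simp

end Tor

section

variable (S : Setting f M) (hG : ¬ Good f M)
include S hG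

/-- The conjugate of a torus element acts on one factor. -/
theorem conj_tor {h : GG} (hh : Norm f M h) {j : ι} {v v' : W1} (hv : v ≠ 0) (hm : Maps h j v j v)
    (hvv : f v v' = 1) {a : F} (ha : a ≠ 0) :
    ∃ c : A1, ∀ z, (h : Big) *ᵥ (oneM j (tor f v v' a) *ᵥ z) = oneM j c *ᵥ ((h : Big) *ᵥ z) := by
  set s : GG := oneGL j (torGL S.hf hvv ha)
  have hs : s ∈ M := S.one j _ (tor_isometry S.hf hvv ha)
  have hsval : (s : Big) = oneM j (tor f v v' a) := coe_oneGL _ _
  have hsi : ((s⁻¹ : GG) : Big) = oneM j (tor f v v' a⁻¹) := by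
    refine Units.inv_eq_of_mul_eq_one_right ?_
    rw [hsval, oneM_mul, tor_mul S.hf hvv ha (inv_ne_zero ha), mul_inv_cancel₀ ha, tor]
    simp [oneM_one]
  have hv'v : f v' v = -1 := by rw [S.hf.skew, hvv]
  have hblock : ∀ (b : F) (u), oneM j (tor f v v' b) *ᵥ ins j v u = ins j v (b • u) := fun b u => by
    rw [TensorPowerMax.Roots.oneM_mulVec_ins, tor_mulVec S.hf, hvv, S.hf.alternating, mul_one, mul_zero, zero_smul,
      sub_zero, map_smul, ← ins_smul]
    congr 2
    rw [sub_smul, one_smul, add_sub_cancel]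
  have hker : ∀ (b : F) (z : (ι → Fin k) → F), ctr j (formVec f v) z = 0 →
      oneM j (tor f v v' b) *ᵥ z - z ∈ block j v := fun b z hz => by
    rw [show oneM j (tor f v v' b) = 1 + (b - 1) • oneM j (vecMulVec v (formVec f v')) +
        (-(b⁻¹ - 1)) • oneM j (vecMulVec v' (formVec f v)) by
      rw [tor, sub_eq_add_neg, ← neg_smul, oneM_add, oneM_add, oneM_one, oneM_smul, oneM_smul],
      add_mulVec, add_mulVec, one_mulVec, smul_mulVec, smul_mulVec, oneM_mulVec, oneM_mulVec, hz, map_zero,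
      smul_zero, add_zero, add_sub_cancel_left]
    exact Submodule.smul_mem _ _ (LinearMap.mem_range_self _ _)
  set y : GG := h * s * h⁻¹
  set q : GG := y * s⁻¹
  have hy : ∀ u, (y : Big) *ᵥ ins j v u = ins j v (a • u) := fun u => by
    obtain ⟨u', hu'⟩ := hm.exists_pre u
    rw [gl_mul_mulVec, gl_mul_mulVec]
    conv_lhs => rw [← hu', gl_inv_mulVec, hsval, hblock, map_smul, mulVec_smul, hu', ← map_smul]
  have hyker : ∀ z, ctr j (formVec f v) z = 0 → (y : Big) *ᵥ z - z ∈ block j v := fun z hz => by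
    have h1 := (ctr_zero_maps S (iso_inv hh.1) (maps_inv S hv hv hm)).2 hz
    obtain ⟨u, hu⟩ := hker a _ h1
    rw [gl_mul_mulVec, gl_mul_mulVec, hsval, eq_add_of_sub_eq hu.symm, mulVec_add, gl_mulVec_inv,
      add_sub_cancel_right]
    exact hm.mem u
  obtain ⟨b, hb⟩ := radical S hG hv (x := q) (M.mul_mem (hh.2 j _ (tor_isometry S.hf hvv ha)) (M.inv_mem hs))
    (fun u => by rw [gl_mul_mulVec, hsi, hblock, hy, smul_smul, mul_inv_cancel₀ ha, one_smul])
    (fun z hz => by
      obtain ⟨u, hu⟩ := hker a⁻¹ z hz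
      rw [gl_mul_mulVec, hsi, eq_add_of_sub_eq hu.symm, mulVec_add, hy, add_sub_assoc]
      exact Submodule.add_mem _ (LinearMap.mem_range_self _ _) (hyker z hz))
  refine ⟨b * tor f v v' a, fun z => ?_⟩
  have hyq : y = q * s := by simp [q]
  rw [← oneM_mul, ← hb, ← hsval, ← Units.val_mul, ← hyq, gl_mul_mulVec, gl_mul_mulVec, gl_inv_mulVec]

/-- Common eigenvectors of transported elements carry a block to a block. -/
theorem maps_eigen {g : GG} {j : ι} {z : W1} (hz : z ≠ 0) {L : Type*} (b c : L → A1) (μ : L → F)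
    (hconj : ∀ l y, (g : Big) *ᵥ (oneM j (b l) *ᵥ y) = oneM j (c l) *ᵥ ((g : Big) *ᵥ y))
    (hfix : ∀ l, b l *ᵥ z = μ l • z)
    (honly : ∀ y, (∀ l, oneM j (b l) *ᵥ y = μ l • y) → y ∈ block j z) :
    ∃ p, p ≠ 0 ∧ Maps g j z j p := by
  have hctr : ∀ (l : L) (φ : W1) (y : (ι → Fin k) → F),
      ctr j φ (oneM j (c l) *ᵥ y) = ctr j (φ ᵥ* c l) y := fun l φ y => ctr_oneM _ _ _
  let K : Submodule F W1 :=
    { carrier := {φ | ∀ u, ctr j φ ((g : Big) *ᵥ ins j z u) = 0}
      add_mem' := fun h h' u => by rw [ctr_add_vec, h, h', add_zero]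
      zero_mem' := fun u => by
        rw [← zero_smul F (0 : W1), ctr_smul_vec, zero_smul]
      smul_mem' := fun d φ h u => by rw [ctr_smul_vec, h, smul_zero] }
  obtain ⟨φ, hφ⟩ : ∃ φ, φ ∉ K := by
    by_contra hK
    push Not at hK
    haveI := S.rest_nonempty j
    have h1 : (g : Big) *ᵥ ins j z (fun _ => 1) = 0 :=
      ctr_ext (j := j) fun φ => by rw [map_zero]; exact hK φ _
    exact one_ne_zero (congrFun (ins_injective hz
      ((gl_mulVec_injective g (h1.trans (mulVec_zero _).symm)).trans (map_zero _).symm)) (Classical.arbitrary _))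
  obtain ⟨p, hp, hφp⟩ := exists_functional hφ
  have hp0 : p ≠ 0 := fun e => by rw [e, zero_dotProduct] at hφp; exact zero_ne_one hφp
  have hfixp : ∀ l, c l *ᵥ p = μ l • p := fun l => by
    refine dotProduct_eq _ _ fun ψ => ?_
    have hrow : ψ ᵥ* c l - μ l • ψ ∈ K := fun u => by
      rw [sub_eq_add_neg, ← neg_smul, ctr_add_vec, ctr_smul_vec, ← hctr, ← hconj,
        TensorPowerMax.Roots.oneM_mulVec_ins, hfix, ins_smul, mulVec_smul, map_smul, neg_smul, add_neg_cancel]
    have := hp _ hrow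
    rw [dotProduct_comm, sub_dotProduct, smul_dotProduct, ← dotProduct_mulVec, sub_eq_zero] at this
    rw [dotProduct_comm, this, smul_dotProduct, dotProduct_comm p]
  have hm : Maps g⁻¹ j p j z := maps_of_le hp0 hz fun u => honly _ fun l => by
    apply gl_mulVec_injective g
    show (g : Big) *ᵥ _ = (g : Big) *ᵥ _
    rw [hconj, gl_mulVec_inv, mulVec_smul, gl_mulVec_inv, TensorPowerMax.Roots.oneM_mulVec_ins, hfixp, ins_smul]
  refine ⟨p, hp0, ?_⟩
  have := maps_inv S hp0 hz hm
  rwa [inv_inv] at this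

theorem maps_four [Finite F] {h : GG} (hh : Norm f M h) {j : ι} {v z : W1} (hv : v ≠ 0)
    (hm : Maps h j v j v) (hzv : f z v = 0) (hz : z ∉ Submodule.span F {v}) :
    ∃ p, p ≠ 0 ∧ Maps h j z j p := by
  have hf := S.hf
  have hz0 : z ≠ 0 := fun e => hz (e ▸ Submodule.zero_mem _)
  haveI := S.rest_nonempty j
  obtain ⟨η, hη⟩ := exists_dot_eq_one hv
  have hmi := maps_inv S hv hv hm
  let A : (({l // l ≠ j} → Fin k) → F) →ₗ[F] ({l // l ≠ j} → Fin k) → F :=
    (ctr j η).comp ((Matrix.mulVecLin (h : Big)).comp (ins j v))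
  let A' : (({l // l ≠ j} → Fin k) → F) →ₗ[F] ({l // l ≠ j} → Fin k) → F :=
    (ctr j η).comp ((Matrix.mulVecLin ((h⁻¹ : GG) : Big)).comp (ins j v))
  have hA : ∀ u, (h : Big) *ᵥ ins j v u = ins j v (A u) := fun u => by
    obtain ⟨y, hy⟩ := hm.mem u
    show _ = ins j v (ctr j η ((h : Big) *ᵥ ins j v u))
    rw [← hy, ctr_ins, hη, one_smul]
  have hA' : ∀ u, ((h⁻¹ : GG) : Big) *ᵥ ins j v u = ins j v (A' u) := fun u => by
    obtain ⟨y, hy⟩ := hmi.mem u
    show _ = ins j v (ctr j η (((h⁻¹ : GG) : Big) *ᵥ ins j v u))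
    rw [← hy, ctr_ins, hη, one_smul]
  have hA'A : ∀ u, A' (A u) = u := fun u => ins_injective hv (by rw [← hA', ← hA, gl_inv_mulVec])
  have hAA' : ∀ u, A (A' u) = u := fun u => ins_injective hv (by rw [← hA, ← hA', gl_mulVec_inv])
  have hperp : ∀ y, ctr j (formVec f v) y = 0 → ctr j (formVec f v) ((h : Big) *ᵥ y) = 0 :=
    fun y => (ctr_zero_maps S hh.1 hm).2
  have hperp' : ∀ y, ctr j (formVec f v) y = 0 → ctr j (formVec f v) (((h⁻¹ : GG) : Big) *ᵥ y) = 0 :=
    fun y => (ctr_zero_maps S (iso_inv hh.1) hmi).2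
  -- the dual vector of a vector orthogonal to the centre
  have hdual : ∀ a : W1, f a v = 0 → ∃ a'' : W1, f a'' v = 0 ∧ ∀ y, ctr j (formVec f v) y = 0 →
      ctr j (formVec f a'') ((h : Big) *ᵥ y) = A (ctr j (formVec f a) y) := by
    intro a ha
    have hE := eich_mulVec hf (v := v) (a := a)
    set g := eichGL hf ha
    set s : GG := oneGL j g
    have hblock : ∀ (b : W1), f v b = 0 → ∀ u, oneM j (eich f v b) *ᵥ ins j v u = ins j v u := fun b hb u => by
      rw [TensorPowerMax.Roots.oneM_mulVec_ins, eich_mulVec hf, hf.alternating, hb, zero_smul, zero_smul, add_zero, add_zero]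
    have hker : ∀ y, ctr j (formVec f v) y = 0 →
        oneM j (eich f v a) *ᵥ y = y + ins j v (ctr j (formVec f a) y) := fun y hy => by
      rw [eich, oneM_add, oneM_add, oneM_one, add_mulVec, add_mulVec, one_mulVec, oneM_mulVec, oneM_mulVec, hy,
        map_zero, add_zero]
    have hva : f v a = 0 := by rw [hf.skew, ha, neg_zero]
    have hsv : ∀ u, (s : Big) *ᵥ ins j v u = ins j v u := fun u => by rw [coe_oneGL]; exact hblock a hva u
    obtain ⟨C, hC⟩ := radical S hG hv (x := h * s * h⁻¹) (hh.2 j g (eich_isometry hf ha))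
      (fun u => by rw [gl_mul_mulVec, gl_mul_mulVec, hA', hsv, hA, hAA'])
      (fun y hy => by
        rw [gl_mul_mulVec, gl_mul_mulVec, coe_oneGL]
        show (h : Big) *ᵥ (oneM j (eich f v a) *ᵥ _) - y ∈ _
        rw [hker _ (hperp' y hy), mulVec_add, gl_mulVec_inv, hA, add_sub_cancel_left]
        exact LinearMap.mem_range_self _ _)
    obtain ⟨a'', ha''⟩ := formVec_onto hf (η ᵥ* C - η)
    have key : ∀ y, ctr j (formVec f v) y = 0 →
        ctr j (formVec f a'') ((h : Big) *ᵥ y) = A (ctr j (formVec f a) y) := fun y hy => by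
      have e1 : ((h * s * h⁻¹ : GG) : Big) *ᵥ ((h : Big) *ᵥ y) = (h : Big) *ᵥ y + ins j v (A (ctr j (formVec f a) y)) := by
        rw [gl_mul_mulVec, gl_mul_mulVec, gl_inv_mulVec, coe_oneGL]
        show (h : Big) *ᵥ (oneM j (eich f v a) *ᵥ _) = _
        rw [hker y hy, mulVec_add, hA]
      have e2 := congrArg (ctr j η) e1
      rw [hC, ctr_oneM, map_add, ctr_ins, hη, one_smul] at e2
      rw [ha'', sub_eq_add_neg, ← neg_one_smul F η, ctr_add_vec, ctr_smul_vec, e2, neg_one_smul,
        ← sub_eq_add_neg, add_sub_cancel_left]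
    refine ⟨a'', ?_, key⟩
    have := key (ins j v fun _ => 1) (by rw [ctr_ins, formVec_self hf, zero_smul])
    rw [ctr_ins, hA, ctr_ins, dot hf, dot hf, hva, zero_smul, map_zero, smul_eq_zero] at this
    rw [hf.skew, this.resolve_right fun e => one_ne_zero (congrFun ((hA'A _).symm.trans (by rw [e, map_zero]))
      (Classical.arbitrary _)), neg_zero]
  -- the block of a vector orthogonal to the centre goes to a block modulo the centre
  have hrep : ∀ u, ∃ p, ∀ w, Bt f (A' w) u = Bt f w p := fun u => by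
    obtain ⟨p, hp⟩ := Bt_rep hf ((Bt_lin u).comp A')
    exact ⟨p, fun w => (hp w).symm⟩
  choose P hP using hrep
  have hmod : ∀ a a'' : W1, f a v = 0 → f a'' v = 0 →
      (∀ y, ctr j (formVec f v) y = 0 → ctr j (formVec f a'') ((h : Big) *ᵥ y) = A (ctr j (formVec f a) y)) →
      ∀ u, (h : Big) *ᵥ ins j a u - ins j a'' (P u) ∈ block j v := by
    intro a a'' ha ha'' key u
    rw [mem_block_iff hv]
    intro φ hφ
    obtain ⟨e, rfl⟩ := formVec_onto hf φ
    rw [dot hf] at hφ
    refine Bt_nondeg hf fun w => ?_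
    have hX : ctr j (formVec f v) (ins j e w) = 0 := by rw [ctr_ins, dot hf, hf.skew, hφ, neg_zero, zero_smul]
    have h1 : Bt f (ins j e w) ((h : Big) *ᵥ ins j a u) = Bt f (ins j e w) (ins j a'' (P u)) := by
      conv_lhs => rw [← gl_mulVec_inv h (ins j e w), hh.1, Bt_ins_right hf]
      rw [Bt_ins_right hf, ← hP]
      congr 1
      have h2 := key _ (hperp' _ hX)
      rw [gl_mulVec_inv] at h2
      rw [h2, hA'A]
    have h3 : Bt f ((h : Big) *ᵥ ins j a u - ins j a'' (P u)) (ins j e w) = 0 := by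
      rw [Bt_swap hf, sub_eq_add_neg, ← neg_one_smul F (ins j a'' (P u)), Bt_add_right, Bt_smul_right, h1]
      ring
    rw [Bt_ins_right hf] at h3
    rw [Bt_swap hf, h3, mul_zero]
  obtain ⟨ζ, hζ, hζz⟩ := exists_functional hz
  obtain ⟨z', hz'⟩ := formVec_onto hf ζ
  have hz'v : f z' v = 0 := by
    rw [hf.skew, ← dot hf, hz', hζ v (Submodule.mem_span_singleton_self v), neg_zero]
  have hzz' : f z z' = 1 := by rw [← dot hf, hz', hζz]
  obtain ⟨z2, hz2v, hkey⟩ := hdual z hzv
  obtain ⟨z3, hz3v, hkey'⟩ := hdual z' hz'v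
  set t := f z2 z3 with ht
  have hPA : ∀ u, t • P u = A u := fun u => by
    have e1 := hkey' (ins j z u) (by rw [ctr_ins, dot hf, hzv, zero_smul])
    obtain ⟨r, hr⟩ := hmod z z2 hzv hz2v hkey u
    rw [eq_add_of_sub_eq hr.symm, map_add, ctr_ins, ctr_ins, ctr_ins, dot hf, dot hf, dot hf,
      show f v z3 = 0 by rw [hf.skew, hz3v, neg_zero], zero_smul, zero_add, hzz', one_smul] at e1
    exact e1
  have ht0 : t ≠ 0 := fun e => by
    have := hPA fun _ => 1
    rw [e, zero_smul] at this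
    exact one_ne_zero (congrFun ((hA'A _).symm.trans (by rw [← this, map_zero])) (Classical.arbitrary _))
  -- the conjugate of the root element is a root element modulo the radical
  set y : GG := h * rs f j z 1 * h⁻¹
  have hvz : f v z = 0 := by rw [hf.skew, hzv, neg_zero]
  have hv2 : f v z2 = 0 := by rw [hf.skew, hz2v, neg_zero]
  have hrv : ∀ (x : W1) (c : F), f v x = 0 → ∀ u, (rs f j x c : Big) *ᵥ ins j v u = ins j v u := fun x c hx u => by
    rw [rs_mulVec hf, ctr_ins, dot hf, hx, zero_smul, map_zero, smul_zero, add_zero]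
  obtain ⟨b, hb⟩ := radical S hG hv (x := y * rs f j z2 (-t⁻¹)) (M.mul_mem (Norm.root S hh j z 1) (S.rs_mem _ _ _))
    (fun u => by rw [gl_mul_mulVec, hrv _ _ hv2, gl_mul_mulVec, gl_mul_mulVec, hA', hrv _ _ hvz, hA, hAA'])
    (fun X hX => by
      set X1 := (rs f j z2 (-t⁻¹) : Big) *ᵥ X with hX1
      have hX10 : ctr j (formVec f v) X1 = 0 := by
        rw [hX1, rs_mulVec hf, map_add, map_smul, ctr_ins, dot hf, hz2v, zero_smul, smul_zero, add_zero, hX]
      have hc2 : ctr j (formVec f z2) X1 = ctr j (formVec f z2) X := by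
        rw [hX1, rs_mulVec hf, map_add, map_smul, ctr_ins, formVec_self hf, zero_smul, smul_zero, add_zero]
      have h2 := hkey _ (hperp' _ hX10)
      rw [gl_mulVec_inv, hc2] at h2
      set q := ctr j (formVec f z) (((h⁻¹ : GG) : Big) *ᵥ X1)
      obtain ⟨r, hr⟩ := hmod z z2 hzv hz2v hkey q
      have e : ((y * rs f j z2 (-t⁻¹) : GG) : Big) *ᵥ X - X = ins j v r := by
        have hX2 : X1 = X - ins j z2 (P q) := by
          rw [hX1, rs_mulVec hf, h2, ← hPA, map_smul, smul_smul, neg_mul, inv_mul_cancel₀ ht0, neg_smul, one_smul,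
            ← sub_eq_add_neg]
        rw [gl_mul_mulVec, ← hX1, gl_mul_mulVec, gl_mul_mulVec, rs_mulVec hf, mulVec_add, gl_mulVec_inv, one_smul,
          show ctr j (formVec f z) (((h⁻¹ : GG) : Big) *ᵥ X1) = q from rfl, hr, hX2]
        abel
      rw [e]
      exact LinearMap.mem_range_self _ _)
  have hy : (y : Big) = oneM j (b * (tv z2 (t⁻¹ • formVec f z2) : GL (Fin k) F).val) := by
    have e : y = y * rs f j z2 (-t⁻¹) * rs f j z2 t⁻¹ := by
      rw [mul_assoc, show rs f j z2 (-t⁻¹) * rs f j z2 t⁻¹ = (1 : GG) from gl_ext fun x => by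
        rw [gl_mul_mulVec, Units.val_one, one_mulVec, rs_mulVec hf, rs_mulVec hf, map_add, map_smul, ctr_ins,
          formVec_self hf, zero_smul, smul_zero, add_zero, neg_smul, add_neg_cancel_right], mul_one]
    rw [e, Units.val_mul, hb, rs, coe_oneGL, oneM_mul]
  exact maps_of_one_factor hf S.two_le hz0 hy

theorem maps_two (hk2 : k = 2) (hq : 5 ≤ Nat.card F) {h : GG} (hh : Norm f M h) {j : ι} {v v' : W1} (hv : v ≠ 0)
    (hm : Maps h j v j v) (hvv : f v v' = 1) : ∃ p, p ≠ 0 ∧ Maps h j v' j p := by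
  classical
  have hf := S.hf
  have hv' : f v' v = -1 := by rw [hf.skew, hvv]
  have hv'0 : v' ≠ 0 := fun e => by rw [e, zero_right hf] at hvv; exact zero_ne_one hvv
  haveI : Finite F := Nat.finite_of_card_ne_zero (by omega)
  haveI : Fintype F := Fintype.ofFinite F
  obtain ⟨a, ha0, ha⟩ : ∃ a : F, a ≠ 0 ∧ a ≠ a⁻¹ := by
    obtain ⟨a, -, ha⟩ := Finset.exists_mem_notMem_of_card_lt_card
      (show ({0, 1, -1} : Finset F).card < (Finset.univ : Finset F).card by
        rw [Finset.card_univ, ← Nat.card_eq_fintype_card]; exact lt_of_le_of_lt Finset.card_le_three (by omega))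
    simp only [Finset.mem_insert, Finset.mem_singleton, not_or] at ha
    refine ⟨a, ha.1, fun e => ?_⟩
    have h1 : a * a = 1 := by
      nth_rewrite 2 [e]
      exact mul_inv_cancel₀ ha.1
    rcases mul_self_eq_one_iff.1 h1 with h2 | h2
    · exact ha.2.1 h2
    · exact ha.2.2 h2
  obtain ⟨c, hc⟩ := conj_tor S hG hh hv hm hvv ha0
  refine maps_eigen S hG hv'0 (fun _ : Unit => tor f v v' a) (fun _ => c) (fun _ => a⁻¹) (fun _ => hc)
    (fun _ => by rw [tor_mulVec hf, hf.alternating, hv', mul_zero, zero_smul, add_zero, mul_neg_one, neg_smul,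
      sub_neg_eq_add, sub_smul, one_smul, add_sub_cancel]) fun y hy => ?_
  have e := hy ()
  have h1 : ctr j (formVec f v') (oneM j (tor f v v' a) *ᵥ y) = ctr j (formVec f v') (a⁻¹ • y) := by rw [e]
  rw [ctr_oneM, map_smul, show formVec f v' ᵥ* tor f v v' a = a • formVec f v' by
    rw [tor, vecMul_sub, vecMul_add, vecMul_one, vecMul_smul, vecMul_smul, vecMul_vecMulVec, vecMul_vecMulVec,
      dot hf, dot hf, hvv, hf.alternating, zero_smul, smul_zero, sub_zero, one_smul, sub_smul, one_smul,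
      add_sub_cancel], ctr_smul_vec] at h1
  have h2 : ctr j (formVec f v') y = 0 := by
    rw [← sub_eq_zero, ← sub_smul, smul_eq_zero, sub_eq_zero] at h1
    exact h1.resolve_left ha
  rw [mem_block_iff hv'0]
  intro φ hφ
  obtain ⟨u, rfl⟩ := formVec_onto hf φ
  rw [dot hf] at hφ
  have hu : u ∈ Submodule.span F {v'} := by
    by_contra hu
    obtain ⟨η, hη, hηu⟩ := exists_functional hu
    have hli : ∀ x : W1, x ∈ Submodule.span F {v'} ⊔ Submodule.span F {v} := by
      intro x
      have hvn : v ∉ Submodule.span F {v'} := fun e => by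
        obtain ⟨d, hd⟩ := Submodule.mem_span_singleton.1 e
        rw [← hd, hf.bilinear.smul_left, hf.alternating, mul_zero] at hvv
        exact zero_ne_one hvv
      have htop : Submodule.span F {v'} ⊔ Submodule.span F {v} = ⊤ := Submodule.eq_top_of_finrank_eq (by
        rw [Submodule.finrank_sup_span_singleton hvn, finrank_span_singleton hv'0,
          Module.finrank_fintype_fun_eq_card, Fintype.card_fin, hk2])
      rw [htop]; exact Submodule.mem_top
    obtain ⟨x, hx, x', hx', hxx⟩ := Submodule.mem_sup.1 (hli u)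
    obtain ⟨d, rfl⟩ := Submodule.mem_span_singleton.1 hx'
    obtain ⟨d', rfl⟩ := Submodule.mem_span_singleton.1 hx
    rw [← hxx, hf.bilinear.add_right, hf.bilinear.smul_right, hf.bilinear.smul_right, hf.alternating, hv',
      mul_zero, zero_add, mul_neg_one, neg_eq_zero] at hφ
    exact hu (by rw [← hxx, hφ, zero_smul, add_zero]; exact hx)
  obtain ⟨d, rfl⟩ := Submodule.mem_span_singleton.1 hu
  rw [show formVec f (d • v') = d • formVec f v' from funext fun i => hf.bilinear.smul_right _ _ _, ctr_smul_vec,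
    h2, smul_zero]

/-- An element fixing a block splits at its factor. -/
theorem split_of_fix [Finite F] {h : GG} (hh : Norm f M h) {j : ι} {v : W1} (hv : v ≠ 0) (hm : Maps h j v j v) :
    ∃ (C : GL ({l // l ≠ j} → Fin k) F) (N : GL (Fin k) F), spU j h = TensorPowerMax.Side.kronGL C N := by
  have hf := S.hf
  refine split_of_maps S.two_le fun z hz => ?_
  by_cases hzs : z ∈ Submodule.span F {v}
  · obtain ⟨c, rfl⟩ := Submodule.mem_span_singleton.1 hzs
    refine ⟨v, hv, maps_of_le hz hv fun u => ?_⟩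
    rw [ins_smul, ← map_smul]
    exact hm.mem _
  rcases S.hk with hk4 | ⟨hk2, hq, -⟩
  swap
  · -- two dimensions
    have hzv : f v z ≠ 0 := by
      intro e
      obtain ⟨x, hx⟩ := exists_ne hf hv
      have hvn : x ∉ Submodule.span F {v} ⊔ Submodule.span F {z} := fun e' => by
        obtain ⟨p, hp, p', hp', rfl⟩ := Submodule.mem_sup.1 e'
        obtain ⟨c, rfl⟩ := Submodule.mem_span_singleton.1 hp
        obtain ⟨c', rfl⟩ := Submodule.mem_span_singleton.1 hp'
        rw [hf.bilinear.add_left, hf.bilinear.smul_left, hf.bilinear.smul_left, hf.alternating, hf.skew z v, e,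
          mul_zero, neg_zero, mul_zero, add_zero] at hx
        exact hx rfl
      have h3 := Submodule.finrank_le (Submodule.span F {v} ⊔ Submodule.span F {z} ⊔ Submodule.span F {x})
      rw [Submodule.finrank_sup_span_singleton hvn, Submodule.finrank_sup_span_singleton hzs,
        finrank_span_singleton hv, Module.finrank_fintype_fun_eq_card, Fintype.card_fin, hk2] at h3
      omega
    obtain ⟨p, hp, hmp⟩ := maps_two S hG hk2 hq hh hv hm (v' := (f v z)⁻¹ • z)
      (by rw [hf.bilinear.smul_right, inv_mul_cancel₀ hzv])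
    refine ⟨p, hp, maps_of_le hz hp fun u => ?_⟩
    have := hmp.mem (f v z • u)
    rwa [ins_smul, map_smul, smul_smul, inv_mul_cancel₀ hzv, one_smul] at this
  by_cases hzv : f z v = 0
  · exact maps_four S hG hh hv hm hzv hzs
  obtain ⟨s, hsn, hs⟩ := exists_common_zero_not_mem (Submodule.span F {v}) ![formVec f v, formVec f z] (by
    rw [finrank_span_singleton hv, Fintype.card_fin]; omega)
  have hsv : f s v = 0 := by rw [← dot hf]; exact hs 0
  have hsz : f s z = 0 := by rw [← dot hf]; exact hs 1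
  have hs0 : s ≠ 0 := fun e => hsn (e ▸ Submodule.zero_mem _)
  obtain ⟨s', hs', hms⟩ := maps_four S hG hh hv hm hsv hsn
  obtain ⟨b, hb, hbs⟩ := exists_move hf hs' hs0
  set h' : GG := oneGL j b * h
  have hm' : Maps h' j s j s := maps_of_le hs0 hs0 fun u => by
    obtain ⟨y, hy⟩ := hms.mem u
    rw [gl_mul_mulVec, ← hy, coe_oneGL, TensorPowerMax.Roots.oneM_mulVec_ins, hbs]
    exact LinearMap.mem_range_self _ _
  have hzn : z ∉ Submodule.span F {s} := fun e => by
    obtain ⟨c, rfl⟩ := Submodule.mem_span_singleton.1 e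
    rw [hf.bilinear.smul_left, hsv, mul_zero] at hzv
    exact hzv rfl
  obtain ⟨p, hp, hmp⟩ := maps_four S hG (Norm.left S hh hb) hs0 hm'
    (show f z s = 0 by rw [hf.skew, hsz, neg_zero]) hzn
  refine ⟨((b⁻¹ : GL (Fin k) F) : A1) *ᵥ p, gl_ne_zero _ hp, maps_of_le hz (gl_ne_zero _ hp) fun u => ?_⟩
  obtain ⟨y, hy⟩ := hmp.mem u
  refine ⟨y, gl_mulVec_injective (oneGL j b) (show (oneGL j b : Big) *ᵥ _ = (oneGL j b : Big) *ᵥ _ from ?_)⟩
  rw [← gl_mul_mulVec, coe_oneGL, TensorPowerMax.Roots.oneM_mulVec_ins, gl_mulVec_inv]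
  exact hy

theorem not_good_proj (j : ι) : ¬ Good f (proj M j) := by
  rintro ⟨i, w, C, hw, hC, hns, h1, h2⟩
  obtain ⟨x, hx, hxC⟩ := (hC : TensorPowerMax.Side.kronGL C 1 ∈ TensorPowerMax.Split.Mj M j)
  have hxC' : spU j x = TensorPowerMax.Side.kronGL C (1 : GL (Fin k) F) := hxC
  have hsp : sp j (x : Big) = C.val ⊗ₖ (1 : A1) := by rw [← coe_spU, hxC']; rfl
  obtain ⟨ψ, hψ⟩ := exists_dot_eq_one hw
  have hP : ∀ D : A1, sp j (oneM i.1 D) = oneM i D ⊗ₖ (1 : A1) := fun D => sp_oneM_of_ne i.2 D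
  refine hG ⟨i.1, w, x, hw, hx, fun hs => hns ?_, fun u => ?_, fun z hz => ?_⟩
  · obtain ⟨a, σ, rfl⟩ := hs
    have hfix : σ j = j := by
      by_contra hne
      set o : W1 := Pi.single ⟨0, by have := S.two_le; omega⟩ 1
      have ho : o ≠ 0 := by simp [o]
      refine block_not_le S.two_le hne (gl_ne_zero (a (σ j)) ho) ho fun u => ?_
      have h3 : ins j o u ∈ block (σ j) ((a (σ j) : A1) *ᵥ o) := by
        have := TensorPowerMax.Roots.tw_mulVec_block a σ (z := ins j o (((C⁻¹ : GL _ F)).val *ᵥ u)) ho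
          (LinearMap.mem_range_self _ _)
        rwa [mulVec_ins_of_kron hxC', Units.val_one, one_mulVec, gl_mulVec_inv] at this
      exact h3
    have e := TensorPowerMax.Split.spU_tw a σ hfix
    rw [hxC'] at e
    set D := ptGL (fun l : {l // l ≠ j} => a l.1) * pmGL (TensorPowerMax.Split.restrict σ hfix)
    have hins : ∀ z y, ins j z (C.val *ᵥ y) = ins j ((a j : A1) *ᵥ z) (D.val *ᵥ y) := fun z y => by
      have h4 : spU j (ptGL a * pmGL σ) = TensorPowerMax.Side.kronGL D (a j) :=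
        TensorPowerMax.Split.spU_tw a σ hfix
      have h5 := mulVec_ins_of_kron h4 z y
      rwa [mulVec_ins_of_kron hxC', Units.val_one, one_mulVec] at h5
    obtain ⟨η, hη⟩ := exists_dot_eq_one hw
    set d := η ⬝ᵥ ((a j : A1) *ᵥ w)
    have hCD : ∀ y, C.val *ᵥ y = d • (D.val *ᵥ y) := fun y => by
      have := congrArg (ctr j η) (hins w y)
      rwa [ctr_ins, ctr_ins, hη, one_smul] at this
    haveI := S.rest_nonempty j
    have hd : d ≠ 0 := fun e => by
      have := congrFun (hCD (((C⁻¹ : GL _ F)).val *ᵥ fun _ => 1)) (Classical.arbitrary _)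
      rw [gl_mulVec_inv, e, zero_smul] at this
      exact one_ne_zero this
    let dI : GL (Fin k) F := GeneralLinearGroup.mkOfDetNeZero (d • (1 : A1)) (by
      rw [det_smul, det_one, mul_one]; exact pow_ne_zero _ hd)
    refine ⟨Function.update (fun l : {l // l ≠ j} => a l.1) i (dI * a i.1), TensorPowerMax.Split.restrict σ hfix,
      gl_ext fun y => ?_⟩
    rw [hCD, Units.val_mul, coe_ptGL, ← smul_mulVec, Units.val_mul, coe_ptGL, coe_pmGL, ← Matrix.smul_mul]
    conv_lhs => rw [← Function.update_eq_self i (fun l : {l // l ≠ j} => ((a l.1 : GL (Fin k) F) : A1)),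
      ← pt_update_smul]
    congr 3
    funext l
    by_cases hl : l = i
    · subst hl
      simp [dI, GeneralLinearGroup.mkOfDetNeZero]
    · simp [Function.update_of_ne hl]
  · refine ctr_ext (j := j) fun φ => ?_
    rw [ctr_kron hsp]
    have hPu : oneM i.1 (vecMulVec w ψ) *ᵥ ins i.1 w u = ins i.1 w u := by
      rw [oneM_mulVec, ctr_ins, hψ, one_smul]
    rw [← hPu, ctr_kron (hP _), oneM_mulVec]
    exact h1 _
  · have hX : ∀ φ, ctr i (formVec f w) (ctr j φ z) = 0 := fun φ => by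
      refine ins_injective hw (Eq.trans ?_ (map_zero _).symm)
      rw [← oneM_mulVec, ← ctr_kron (hP _), oneM_mulVec, hz, map_zero, map_zero]
    refine ⟨ctr i.1 ψ ((x : Big) *ᵥ z - z), ?_⟩
    rw [← oneM_mulVec]
    refine ctr_ext (j := j) fun φ => ?_
    rw [ctr_kron (hP _), map_sub, ctr_kron hsp]
    obtain ⟨y, hy⟩ := h2 _ (hX φ)
    rw [← hy, oneM_mulVec, ctr_ins, hψ, one_smul]

omit hG in
/-- The projection keeps the permutations. -/
theorem proj_perm (hperm : ∀ σ : Equiv.Perm ι, pmGL σ ∈ M) (j : ι) (σ : Equiv.Perm {l // l ≠ j}) :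
    pmGL σ ∈ proj M j := by
  show TensorPowerMax.Side.kronGL (pmGL σ) (1 : GL (Fin k) F) ∈ TensorPowerMax.Split.Mj M j
  have hfix : Equiv.Perm.ofSubtype σ j = j := Equiv.Perm.ofSubtype_apply_of_not_mem σ (by simp)
  have h1 := TensorPowerMax.Split.spU_tw (1 : ι → GL (Fin k) F) _ hfix
  rw [map_one, one_mul, show (fun l : {l // l ≠ j} => (1 : ι → GL (Fin k) F) l.1) = 1 from rfl, map_one,
    one_mul, Pi.one_apply] at h1
  have e2 : TensorPowerMax.Split.restrict (Equiv.Perm.ofSubtype σ) hfix = σ := by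
    refine Equiv.ext fun i => Subtype.ext ?_
    show Equiv.Perm.ofSubtype σ i.1 = _
    rw [Equiv.Perm.ofSubtype_apply_coe]
  rw [e2] at h1
  rw [← h1]
  exact (TensorPowerMax.Split.spU_mem_iff j _).2 (hperm _)

omit hG in
theorem proj_setting (j : ι) (hι : 3 ≤ Fintype.card ι) : Setting f (proj M j) where
  hf := S.hf
  hk := S.hk
  hι := by rw [Fintype.card_subtype_compl, Fintype.card_subtype_eq]; omega
  iso C hC x y := by
    obtain ⟨g, hg, hgC⟩ := (hC : TensorPowerMax.Side.kronGL C 1 ∈ TensorPowerMax.Split.Mj M j)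
    have h : spU j g = TensorPowerMax.Side.kronGL C (1 : GL (Fin k) F) := hgC
    set o : W1 := Pi.single ⟨0, by have := S.two_le; omega⟩ 1
    obtain ⟨o', ho'⟩ := exists_one S.hf (show o ≠ 0 by simp [o])
    have := S.iso g hg (ins j o' x) (ins j o y)
    rwa [mulVec_ins_of_kron h, mulVec_ins_of_kron h, Units.val_one, one_mulVec, one_mulVec, Bt_ins_ins S.hf,
      Bt_ins_ins S.hf, ho', one_mul, one_mul] at this
  one i b hb := by
    show TensorPowerMax.Side.kronGL (oneGL i b) (1 : GL (Fin k) F) ∈ TensorPowerMax.Split.Mj M j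
    rw [← TensorPowerMax.Split.spU_oneGL_ne i.2]
    exact (TensorPowerMax.Split.spU_mem_iff j _).2 (S.one _ b hb)
  perm := Or.inr fun σ => proj_perm S (S.perm.resolve_left (by omega)) j σ

/-- An element carrying one block to a block lies in the stabiliser. -/
theorem mem_of_maps [Finite F] (hIH : Lower f ι) {g : GG} (hg : g ∈ M) {i j : ι} {v w : W1} (hv : v ≠ 0) (hw : w ≠ 0)
    (hm : Maps g i v j w) : g ∈ stab ι k F := by
  obtain ⟨b, hb, hbw⟩ := exists_move S.hf hw hv
  set τ := Equiv.swap i j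
  set h : GG := oneGL j b * g * pmGL τ with hh
  have hiτ : ∀ x y, Bt f (((pmGL τ : GG) : Big) *ᵥ x) (((pmGL τ : GG) : Big) *ᵥ y) = Bt f x y := fun x y => by
    rw [coe_pmGL]; exact Bt_pm S.hf τ x y
  have hgb : oneGL j b * g ∈ M := M.mul_mem (S.one j b hb) hg
  have hhN : Norm f M h := ⟨fun x y => by
      rw [hh, gl_mul_mulVec, gl_mul_mulVec (oneGL j b * g) (pmGL τ) y, S.iso _ hgb, hiτ],
    fun l c hc => by
      rw [hh, show oneGL j b * g * pmGL τ * oneGL l c * (oneGL j b * g * pmGL τ)⁻¹ =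
        oneGL j b * g * (pmGL τ * oneGL l c * (pmGL τ)⁻¹) * (oneGL j b * g)⁻¹ by group,
        UnitaryPowerMax.BlockTo.pm_conj_one]
      exact M.mul_mem (M.mul_mem hgb (S.one _ c hc)) (M.inv_mem hgb)⟩
  have hmh : Maps h j v j v := maps_of_le hv hv fun u => by
    have h1 := TensorPowerMax.Roots.tw_mulVec_block (1 : ι → GL (Fin k) F) τ (z := ins j v u) hv
      (LinearMap.mem_range_self _ _)
    rw [map_one, one_mul, show τ j = i from Equiv.swap_apply_right i j, Pi.one_apply, Units.val_one,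
      one_mulVec] at h1
    obtain ⟨y, hy⟩ := h1
    obtain ⟨y', hy'⟩ := hm.mem y
    rw [hh, gl_mul_mulVec, gl_mul_mulVec, ← hy, ← hy', coe_oneGL, TensorPowerMax.Roots.oneM_mulVec_ins, hbw]
    exact LinearMap.mem_range_self _ _
  suffices hs : h ∈ stab ι k F by
    have := mul_mem (mul_mem (inv_mem (oneGL_mem_stab j b)) hs) (inv_mem (pmGL_mem_stab τ))
    rwa [hh, mul_assoc (oneGL j b), inv_mul_cancel_left, mul_inv_cancel_right] at this
  obtain ⟨C, N, hCN⟩ := split_of_fix S hG hhN hv hmh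
  rcases Nat.lt_or_ge (Fintype.card ι) 3 with h3 | h3
  · refine TensorPowerMax.BlockTo.mem_stab_of_kron (TensorPowerMax.BlockTo.mem_stab_of_unique ?_ C) hCN
    rw [Fintype.card_subtype_compl, Fintype.card_subtype_eq]
    have := S.hι
    omega
  have hcard : Fintype.card {l // l ≠ j} < Fintype.card ι := by
    rw [Fintype.card_subtype_compl, Fintype.card_subtype_eq]; omega
  have hle := hIH _ hcard _ (proj_setting S j h3) (not_good_proj S hG j)
  have hk := S.two_le
  haveI : Nonempty {l // l ≠ j} := Fintype.card_pos_iff.1 (by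
    rw [Fintype.card_subtype_compl, Fintype.card_subtype_eq]; omega)
  refine TensorPowerMax.BlockTo.mem_stab_of_kron (mem_stab_of_maps hk _ _ rfl Fintype.card_pos C
    fun i' v' hv' => maps_of_conj S.hf (S.hk.imp id fun h => ⟨h.1, h.2.2⟩) hv' (hle ?_)) hCN
  have hhM : h ∈ M := M.mul_mem hgb ((S.perm.resolve_left (by omega)) τ)
  show TensorPowerMax.Side.kronGL (C * rs f i' v' 1 * C⁻¹) (1 : GL (Fin k) F) ∈ TensorPowerMax.Split.Mj M j
  have h4 := (TensorPowerMax.Split.spU_mem_iff j _).2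
    (M.mul_mem (M.mul_mem hhM (S.rs_mem i'.1 v' 1)) (M.inv_mem hhM))
  rw [map_mul, map_mul, map_inv, hCN, rs, TensorPowerMax.Split.spU_oneGL_ne i'.2,
    TensorPowerMax.BlockTo.kronGL_inv, TensorPowerMax.BlockTo.kronGL_mul, TensorPowerMax.BlockTo.kronGL_mul,
    mul_one, mul_inv_cancel] at h4
  exact h4

end

end Cfsg.Agent.Lib.TensorSympMax.BlockTo
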