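import Cfsg.Agent.Lib.TensorSympMax.Quad
import Mathlib.RingTheory.AdjoinRoot
import Mathlib.LinearAlgebra.FiniteDimensional.Lemmas
import Mathlib.GroupTheory.Nilpotent

/-!
The group generated by a root group `1 + cX` at a block and a square zero group `1 + cN`: its representation
over the residue fields of `π N ι`, and the invariant subspace it acts on unipotently.
-/

set_option autoImplicit false
set_option linter.unusedSectionVars false
set_option linter.style.haveILetI false

namespace Cfsg.Agent.Lib.TensorSympMax.TwoRoot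

open Matrix Polynomial
open Cfsg.Agent.Lib.Subspaces.Transvection Cfsg.Agent.Lib.Subspaces.FormVec
  Cfsg.Agent.Lib.TensorPowerMax.Basic Cfsg.Agent.Lib.TensorSympMax.Basic

/-! ### matrices of polynomials acting on pairs -/

section Act

variable {F U : Type*} [Field F] [AddCommGroup U] [Module F U] (B : Module.End F U)

/-- The action of a matrix of polynomials in `B` on pairs. -/
noncomputable def act (P : Matrix (Fin 2) (Fin 2) F[X]) (u : Fin 2 → U) : Fin 2 → U :=
  fun a => aeval B (P a 0) (u 0) + aeval B (P a 1) (u 1)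

theorem act_one (u : Fin 2 → U) : act B 1 u = u := by
  funext a; fin_cases a <;> simp [act, Matrix.one_apply]

theorem act_mul (P Q : Matrix (Fin 2) (Fin 2) F[X]) (u : Fin 2 → U) :
    act B (P * Q) u = act B P (act B Q u) := by
  funext a
  simp only [act, Matrix.mul_apply, Fin.sum_univ_two, map_add, map_mul, Module.End.mul_apply,
    LinearMap.add_apply]
  abel

/-- The stable range. -/
theorem range_pow_le [FiniteDimensional F U] {r m : ℕ} (hr : Module.finrank F U ≤ r) :
    LinearMap.range (B ^ r) ≤ LinearMap.range (B ^ (r + m)) := by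
  refine (Submodule.eq_of_le_of_finrank_eq ?_ ?_).ge
  · rw [pow_add]; exact LinearMap.range_comp_le_range _ _
  · have h1 := (B ^ r).finrank_range_add_finrank_ker
    have h2 := (B ^ (r + m)).finrank_range_add_finrank_ker
    have h3 : LinearMap.ker (B ^ (r + m)) = LinearMap.ker (B ^ r) :=
      (Module.End.ker_pow_eq_ker_pow_finrank_of_le (by omega)).trans
        (Module.End.ker_pow_eq_ker_pow_finrank_of_le hr).symm
    rw [h3] at h2
    omega

end Act

variable {ι : Type} [Fintype ι] [DecidableEq ι] {k : ℕ} {F : Type*} [Field F]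

local notation "Big" => Matrix (ι → Fin k) (ι → Fin k) F
local notation "GG" => GL (ι → Fin k) F
local notation "W1" => Fin k → F
local notation "SL2P" => Matrix.SpecialLinearGroup (Fin 2) F[X]

variable (f : (Fin k → F) → (Fin k → F) → F) (j : ι) (w : Fin k → F)
  (N : Matrix (ι → Fin k) (ι → Fin k) F)

/-- The operator `π N ι`. -/
def Bop : Module.End F (({l // l ≠ j} → Fin k) → F) :=
  (ctr j (formVec f w)).comp ((Matrix.mulVecLin N).comp (ins j w))

theorem Bop_apply (u : ({l // l ≠ j} → Fin k) → F) : Bop f j w N u = ctr j (formVec f w) (N *ᵥ ins j w u) := rfl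

/-- The vector of a pair. -/
def vec (u : Fin 2 → ({l // l ≠ j} → Fin k) → F) : (ι → Fin k) → F := ins j w (u 0) + N *ᵥ ins j w (u 1)

/-- An element and a matrix of polynomials describing it on the vectors of pairs. -/
noncomputable def Rel : Subgroup (GL (ι → Fin k) F × Matrix.SpecialLinearGroup (Fin 2) F[X]) where
  carrier := {x | ∀ u, (x.1 : Big) *ᵥ vec j w N u = vec j w N (act (Bop f j w N) (x.2 : Matrix (Fin 2) (Fin 2) F[X]) u)}
  one_mem' u := by simp [act_one]
  mul_mem' {x y} hx hy u := by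
    rw [Prod.fst_mul, Prod.snd_mul, Matrix.SpecialLinearGroup.coe_mul, act_mul, gl_mul_mulVec, hy, hx]
  inv_mem' {x} hx u := by
    rw [Prod.fst_inv, Prod.snd_inv]
    have h := hx (act (Bop f j w N) ((x.2⁻¹ : SL2P) : Matrix (Fin 2) (Fin 2) F[X]) u)
    rw [← act_mul, ← Matrix.SpecialLinearGroup.coe_mul, mul_inv_cancel, Matrix.SpecialLinearGroup.coe_one,
      act_one] at h
    rw [← h, gl_inv_mulVec]

/-- The subspace annihilated by the two stable coordinates. -/
def K0 (r : ℕ) : Submodule F ((ι → Fin k) → F) :=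
  LinearMap.ker (((Bop f j w N) ^ r).comp (ctr j (formVec f w))) ⊓
    LinearMap.ker (((Bop f j w N) ^ r).comp ((ctr j (formVec f w)).comp (Matrix.mulVecLin N)))

variable {f j w N}

theorem mem_K0 {r : ℕ} {z : (ι → Fin k) → F} : z ∈ K0 f j w N r ↔
    ((Bop f j w N) ^ r) (ctr j (formVec f w) z) = 0 ∧
      ((Bop f j w N) ^ r) (ctr j (formVec f w) (N *ᵥ z)) = 0 := Iff.rfl

variable (hf : Cfsg.Geo.IsSymplecticForm f) (hNN : N * N = 0)
include hf

theorem ctr_Xr (z : (ι → Fin k) → F) : ctr j (formVec f w) (Xr f j w *ᵥ z) = 0 := by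
  rw [Xr_mulVec, ctr_ins, formVec_self hf, zero_smul]

theorem N_Xr (z : (ι → Fin k) → F) :
    ctr j (formVec f w) (N *ᵥ (Xr f j w *ᵥ z)) = Bop f j w N (ctr j (formVec f w) z) := by
  rw [Xr_mulVec, Bop_apply]

theorem Xr_mem_K0 {r : ℕ} {z : (ι → Fin k) → F} (h : z ∈ K0 f j w N r) : Xr f j w *ᵥ z ∈ K0 f j w N r := by
  refine mem_K0.2 ⟨by rw [ctr_Xr hf, map_zero], ?_⟩
  rw [N_Xr hf, ← Module.End.mul_apply, ← pow_succ, pow_succ', Module.End.mul_apply, (mem_K0.1 h).1, map_zero]

include hNN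

theorem N_mem_K0 {r : ℕ} {z : (ι → Fin k) → F} (h : z ∈ K0 f j w N r) : N *ᵥ z ∈ K0 f j w N r := by
  refine mem_K0.2 ⟨(mem_K0.1 h).2, ?_⟩
  rw [mulVec_mulVec, hNN, zero_mulVec, map_zero, map_zero]

omit hNN hf in
/-- The group generated by the root elements. -/
noncomputable abbrev Gp (f : (Fin k → F) → (Fin k → F) → F) (j : ι) (w : Fin k → F)
    (T : F → GL (ι → Fin k) F) : Subgroup (GL (ι → Fin k) F) :=
  Subgroup.closure (Set.range (rs f j w) ∪ Set.range T)

variable {T : F → GL (ι → Fin k) F} (hT : ∀ c, (T c : Matrix (ι → Fin k) (ι → Fin k) F) = 1 + c • N)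
include hT

omit hf hNN in
theorem T_mulVec (c : F) (z : (ι → Fin k) → F) : (T c : Big) *ᵥ z = z + c • (N *ᵥ z) := by
  rw [hT, add_mulVec, one_mulVec, smul_mulVec]

theorem rel_rs (c : F) : (rs f j w c, (⟨!![1, C c * X; 0, 1], by simp [Matrix.det_fin_two_of]⟩ : SL2P)) ∈
    Rel f j w N := fun u => by
  have h : ctr j (formVec f w) (vec j w N u) = Bop f j w N (u 1) := by
    rw [vec, map_add, ctr_ins, formVec_self hf, zero_smul, zero_add, Bop_apply]
  show _ *ᵥ _ = _
  rw [rs_mulVec hf, h]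
  simp [vec, act, map_add, map_smul, Algebra.algebraMap_eq_smul_one]
  abel

theorem rel_T (c : F) : (T c, (⟨!![1, 0; C c, 1], by simp [Matrix.det_fin_two_of]⟩ : SL2P)) ∈ Rel f j w N :=
  fun u => by
  show _ *ᵥ _ = _
  rw [T_mulVec hT]
  simp [vec, act, mulVec_add, mulVec_smul, mulVec_mulVec, hNN, map_add, Algebra.algebraMap_eq_smul_one]
  abel

theorem gp_le_rel : Gp f j w T ≤ (Rel f j w N).map (MonoidHom.fst _ _) := by
  refine (Subgroup.closure_le _).2 ?_
  rintro _ (⟨c, rfl⟩ | ⟨c, rfl⟩)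
  · exact ⟨_, rel_rs hf hNN hT c, rfl⟩
  · exact ⟨_, rel_T hf hNN hT c, rfl⟩

theorem K0_invariant [Finite F] {r : ℕ} {x : GG} (hx : x ∈ Gp f j w T) {z : (ι → Fin k) → F}
    (hz : z ∈ K0 f j w N r) : (x : Big) *ᵥ z ∈ K0 f j w N r := by
  induction hx using Subgroup.closure_induction generalizing z with
  | mem y hy =>
    rcases hy with ⟨c, rfl⟩ | ⟨c, rfl⟩
    · rw [rs_mulVec hf, ← Xr_mulVec]
      exact Submodule.add_mem _ hz (Submodule.smul_mem _ _ (Xr_mem_K0 hf hz))
    · rw [T_mulVec hT]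
      exact Submodule.add_mem _ hz (Submodule.smul_mem _ _ (N_mem_K0 hf hNN hz))
  | one => simpa using hz
  | mul a b _ _ ha hb => rw [gl_mul_mulVec]; exact ha (hb hz)
  | inv a _ ha =>
    have h : Set.MapsTo (fun y => (a : Big) *ᵥ y) (K0 f j w N r : Set ((ι → Fin k) → F)) (K0 f j w N r) :=
      fun y hy => ha hy
    obtain ⟨y, hy, hay⟩ := (Set.Finite.injOn_iff_bijOn_of_mapsTo (Set.toFinite _) h).1
      (fun p _ q _ e => gl_mulVec_injective a e) |>.surjOn hz
    simp only at hay
    rwa [← hay, gl_inv_mulVec]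

/-- The descending chain of images. -/
def chain (r : ℕ) : ℕ → Submodule F ((ι → Fin k) → F)
  | 0 => K0 f j w N r
  | n + 1 => (chain r n).map (Matrix.mulVecLin (Xr f j w)) ⊔ (chain r n).map (Matrix.mulVecLin N)

omit hT in
theorem chain_succ_le (r : ℕ) : ∀ n, chain (f := f) (j := j) (w := w) (N := N) r (n + 1) ≤ chain (f := f) (j := j) (w := w) (N := N) r n
  | 0 => sup_le (by rintro _ ⟨z, hz, rfl⟩; exact Xr_mem_K0 hf hz)
      (by rintro _ ⟨z, hz, rfl⟩; exact N_mem_K0 hf hNN hz)
  | n + 1 => sup_le_sup (Submodule.map_mono (chain_succ_le r n)) (Submodule.map_mono (chain_succ_le r n))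

omit hT hf hNN in
/-- Alternating products. -/
def alt : Bool → ℕ → Module.End F ((ι → Fin k) → F)
  | _, 0 => 1
  | b, n + 1 => (if b then Matrix.mulVecLin (Xr f j w) else Matrix.mulVecLin N) * alt (!b) n

omit hT in
theorem chain_le_alt (r : ℕ) : ∀ n, chain (f := f) (j := j) (w := w) (N := N) r n ≤
    (K0 f j w N r).map (alt (f := f) (j := j) (w := w) (N := N) true n) ⊔
      (K0 f j w N r).map (alt (f := f) (j := j) (w := w) (N := N) false n)
  | 0 => by simp [chain, alt, Module.End.one_eq_id, Submodule.map_id]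
  | n + 1 => by
    refine (sup_le_sup (Submodule.map_mono (chain_le_alt r n)) (Submodule.map_mono (chain_le_alt r n))).trans ?_
    rw [Submodule.map_sup, Submodule.map_sup]
    refine sup_le (sup_le ?_ ?_) (sup_le ?_ ?_)
    · rw [← Submodule.map_comp]
      rcases n with _ | m
      · refine le_sup_of_le_left (le_of_eq ?_); rfl
      · rintro _ ⟨z, hz, rfl⟩
        have : Xr f j w *ᵥ (Xr f j w *ᵥ (alt (f := f) (j := j) (w := w) (N := N) false m z)) = 0 := by
          rw [mulVec_mulVec, Xr_sq hf, zero_mulVec]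
        show Xr f j w *ᵥ (Xr f j w *ᵥ _) ∈ _
        rw [show (!true) = false from rfl, this]
        exact Submodule.zero_mem _
    · rw [← Submodule.map_comp]; exact le_sup_left
    · rw [← Submodule.map_comp]; exact le_sup_right
    · rw [← Submodule.map_comp]
      rcases n with _ | m
      · refine le_sup_of_le_right (le_of_eq ?_); rfl
      · rintro _ ⟨z, hz, rfl⟩
        have : N *ᵥ (N *ᵥ (alt (f := f) (j := j) (w := w) (N := N) true m z)) = 0 := by
          rw [mulVec_mulVec, hNN, zero_mulVec]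
        show N *ᵥ (N *ᵥ _) ∈ _
        rw [show (!false) = true from rfl, this]
        exact Submodule.zero_mem _

omit hT hNN in
theorem alt_odd : ∀ (m : ℕ) (z : (ι → Fin k) → F),
    alt (f := f) (j := j) (w := w) (N := N) true (2 * m + 1) z =
        ins j w (((Bop f j w N) ^ m) (ctr j (formVec f w) z)) ∧
      alt (f := f) (j := j) (w := w) (N := N) true (2 * m + 2) z =
        ins j w (((Bop f j w N) ^ m) (ctr j (formVec f w) (N *ᵥ z)))
  | 0, z => by
    constructor
    · show Xr f j w *ᵥ z = _; rw [Xr_mulVec]; rfl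
    · show Xr f j w *ᵥ (N *ᵥ z) = _; rw [Xr_mulVec]; rfl
  | m + 1, z => by
    obtain ⟨h1, h2⟩ := alt_odd m z
    constructor
    · show Xr f j w *ᵥ (N *ᵥ alt (f := f) (j := j) (w := w) (N := N) true (2 * m + 1) z) = _
      rw [h1, Xr_mulVec, pow_succ', Module.End.mul_apply, Bop_apply]
    · show Xr f j w *ᵥ (N *ᵥ alt (f := f) (j := j) (w := w) (N := N) true (2 * m + 2) z) = _
      rw [h2, Xr_mulVec, pow_succ', Module.End.mul_apply, Bop_apply]

omit hT in
theorem chain_eq_bot (r : ℕ) : chain (f := f) (j := j) (w := w) (N := N) r (2 * r + 3) = ⊥ := by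
  refine eq_bot_iff.2 ((chain_le_alt hf hNN r _).trans (sup_le ?_ ?_))
  · rintro _ ⟨z, hz, rfl⟩
    rw [Submodule.mem_bot, show 2 * r + 3 = 2 * (r + 1) + 1 by omega, (alt_odd hf (r + 1) z).1, pow_succ',
      Module.End.mul_apply, (mem_K0.1 hz).1, map_zero, map_zero]
  · rintro _ ⟨z, hz, rfl⟩
    show N *ᵥ (alt (f := f) (j := j) (w := w) (N := N) true (2 * r + 2) z) ∈ (⊥ : Submodule F ((ι → Fin k) → F))
    rw [(alt_odd hf r z).2, (mem_K0.1 hz).2, map_zero, mulVec_zero]
    exact Submodule.zero_mem _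

/-- Every element moves each term of the chain into the next. -/
theorem moves [Finite F] (r : ℕ) {x : GG} (hx : x ∈ Gp f j w T) : ∀ (n : ℕ) (z : (ι → Fin k) → F),
    z ∈ chain (f := f) (j := j) (w := w) (N := N) r n →
      (x : Big) *ᵥ z - z ∈ chain (f := f) (j := j) (w := w) (N := N) r (n + 1) := by
  induction hx using Subgroup.closure_induction with
  | mem y hy =>
    intro n z hz
    rcases hy with ⟨c, rfl⟩ | ⟨c, rfl⟩
    · rw [rs_mulVec hf, add_sub_cancel_left, ← Xr_mulVec]
      exact Submodule.smul_mem _ _ (Submodule.mem_sup_left ⟨z, hz, rfl⟩)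
    · rw [T_mulVec hT, add_sub_cancel_left]
      exact Submodule.smul_mem _ _ (Submodule.mem_sup_right ⟨z, hz, rfl⟩)
  | one => intro n z _; simp
  | mul a b _ _ ha hb =>
    intro n z hz
    have h2 := hb n z hz
    have h3 := chain_succ_le hf hNN r (n + 1) (ha (n + 1) _ h2)
    have h4 := ha n z hz
    have e : (a : Big) *ᵥ ((b : Big) *ᵥ z) - z =
        (((a : Big) *ᵥ ((b : Big) *ᵥ z - z)) - ((b : Big) *ᵥ z - z)) + ((b : Big) *ᵥ z - z) +
          ((a : Big) *ᵥ z - z) := by
      rw [mulVec_sub]; abel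
    rw [gl_mul_mulVec, e]
    exact Submodule.add_mem _ (Submodule.add_mem _ h3 h2) h4
  | inv a _ ha =>
    intro n z hz
    have h : Set.MapsTo (fun y => (a : Big) *ᵥ y) (chain (f := f) (j := j) (w := w) (N := N) r n : Set ((ι → Fin k) → F))
        (chain (f := f) (j := j) (w := w) (N := N) r n) := fun y hy => by
      have := Submodule.add_mem _ (chain_succ_le hf hNN r n (ha n y hy)) hy
      simpa using this
    obtain ⟨y, hy, hay⟩ := (Set.Finite.injOn_iff_bijOn_of_mapsTo (Set.toFinite _) h).1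
      (fun p _ q _ e => gl_mulVec_injective a e) |>.surjOn hz
    simp only at hay
    rw [← hay, gl_inv_mulVec, ← neg_sub]
    exact Submodule.neg_mem _ (ha n y hy)

/-- A suitable `p`-power fixes the subspace pointwise. -/
theorem exists_pow_fix [Finite F] {p : ℕ} [Fact p.Prime] [CharP F p] (r : ℕ) : ∃ s : ℕ, ∀ x ∈ Gp f j w T,
    ∀ z ∈ K0 f j w N r, ((x ^ p ^ s : GG) : Big) *ᵥ z = z := by
  refine ⟨2 * r + 3, fun x hx z hz => ?_⟩
  have hm : ∀ n, ((x : Big) - 1) ^ n *ᵥ z ∈ chain (f := f) (j := j) (w := w) (N := N) r n := by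
    intro n
    induction n with
    | zero => simpa [chain] using hz
    | succ n ih =>
      rw [pow_succ', ← mulVec_mulVec, sub_mulVec, one_mulVec]
      exact moves hf hNN hT r hx n _ ih
  have h0 : ((x : Big) - 1) ^ (2 * r + 3) *ᵥ z = 0 := by
    rw [← Submodule.mem_bot F, ← chain_eq_bot hf hNN r]; exact hm _
  have hle : 2 * r + 3 ≤ p ^ (2 * r + 3) := (Nat.lt_pow_self (Fact.out : p.Prime).one_lt).le
  obtain ⟨d, hd⟩ := Nat.exists_eq_add_of_le hle
  have h1 : ((x : Big) - 1) ^ p ^ (2 * r + 3) *ᵥ z = 0 := by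
    rw [hd, add_comm, pow_add, ← mulVec_mulVec, h0, mulVec_zero]
  rcases isEmpty_or_nonempty (ι → Fin k) with he | he
  · exact funext fun y => isEmptyElim y
  haveI : CharP Big p := Matrix.charP p
  rw [sub_pow_char_pow_of_commute _ _ (Commute.one_right _), one_pow, sub_mulVec, one_mulVec, sub_eq_zero] at h1
  rw [Units.val_pow_eq_pow_val]; exact h1

omit hT hf hNN in
/-- The polynomial relations of the identity are trivial away from zero. -/
theorem dvd_of_rel_one [Finite F] (hf : Cfsg.Geo.IsSymplecticForm f) (hNN : N * N = 0) {P : SL2P}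
    (h : ((1 : GG), P) ∈ Rel f j w N) {μ : F[X]} (hμ : Irreducible μ) (hdvd : μ ∣ minpoly F (Bop f j w N))
    (hX : ¬ μ ∣ X) (a b : Fin 2) :
    μ ∣ (P : Matrix (Fin 2) (Fin 2) F[X]) a b - (1 : Matrix (Fin 2) (Fin 2) F[X]) a b := by
  have key : ∀ u, Bop f j w N (aeval (Bop f j w N)
      ((P : Matrix (Fin 2) (Fin 2) F[X]) a b - (1 : Matrix (Fin 2) (Fin 2) F[X]) a b) u) = 0 := by
    intro u
    have h1 := h (Pi.single b u)
    rw [Units.val_one, one_mulVec] at h1
    set v := act (Bop f j w N) (P : Matrix (Fin 2) (Fin 2) F[X]) (Pi.single b u)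
    have e1 := congrArg (ctr j (formVec f w)) h1
    have e2 := congrArg (fun z => ctr j (formVec f w) (N *ᵥ z)) h1
    simp only [vec, mulVec_add, map_add, ctr_ins, formVec_self hf, zero_smul, zero_add, mulVec_mulVec, hNN,
      zero_mulVec, map_zero, add_zero, ← Bop_apply] at e1 e2
    have hv : ∀ c, Bop f j w N (v c) = Bop f j w N ((Pi.single b u : Fin 2 → _) c) := fun c => by
      fin_cases c
      · exact e2.symm
      · exact e1.symm
    have hvab := hv a
    have hd : aeval (Bop f j w N) ((P : Matrix (Fin 2) (Fin 2) F[X]) a b - (1 : Matrix (Fin 2) (Fin 2) F[X]) a b) u =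
        v a - (Pi.single b u : Fin 2 → _) a := by
      fin_cases a <;> fin_cases b <;> simp [v, act]
    rw [hd, map_sub, hvab, sub_self]
  have h2 : minpoly F (Bop f j w N) ∣ X * ((P : Matrix (Fin 2) (Fin 2) F[X]) a b - (1 : Matrix (Fin 2) (Fin 2) F[X]) a b) :=
    minpoly.dvd F _ (LinearMap.ext fun u => by rw [map_mul, aeval_X, Module.End.mul_apply]; exact key u)
  exact ((hμ.prime.dvd_or_dvd (hdvd.trans h2)).resolve_left hX)

set_option maxHeartbeats 800000 in
/-- The representation over a residue field of `π N ι`. -/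
theorem exists_rho [Finite F] {μ : F[X]} (hμ : Irreducible μ) (hdvd : μ ∣ minpoly F (Bop f j w N))
    (hX : ¬ μ ∣ X) :
    ∃ ρ : Gp f j w T →* Matrix.SpecialLinearGroup (Fin 2) (AdjoinRoot μ),
      ∀ (x : Gp f j w T) (P : SL2P), ((x : GG), P) ∈ Rel f j w N →
        ρ x = Matrix.SpecialLinearGroup.map (AdjoinRoot.mk μ) P := by
  have huniq : ∀ (x : GG) (P Q : SL2P), (x, P) ∈ Rel f j w N → (x, Q) ∈ Rel f j w N →
      Matrix.SpecialLinearGroup.map (AdjoinRoot.mk μ) P = Matrix.SpecialLinearGroup.map (AdjoinRoot.mk μ) Q := by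
    intro x P Q hP hQ
    have h := mul_mem (inv_mem hP) hQ
    rw [Prod.inv_mk, Prod.mk_mul_mk, inv_mul_cancel] at h
    rw [← inv_mul_eq_one, ← map_inv, ← map_mul]
    ext a b
    have hd := AdjoinRoot.mk_eq_mk.2 (dvd_of_rel_one hf hNN h hμ hdvd hX a b)
    rw [Matrix.SpecialLinearGroup.map_apply_coe, RingHom.mapMatrix_apply, Matrix.map_apply, hd]
    simp [Matrix.one_apply, apply_ite (AdjoinRoot.mk μ)]
  have hex : ∀ x : Gp f j w T, ∃ P, ((x : GG), P) ∈ Rel f j w N := fun x => by
    obtain ⟨⟨y, P⟩, hy, e⟩ := gp_le_rel hf hNN hT x.2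
    exact ⟨P, by simpa [← e] using hy⟩
  choose P hP using hex
  refine ⟨MonoidHom.mk' (fun x => Matrix.SpecialLinearGroup.map (AdjoinRoot.mk μ) (P x)) fun x y => ?_,
    fun x Q hQ => huniq _ _ _ (hP x) hQ⟩
  rw [← map_mul]
  exact huniq _ _ _ (hP (x * y)) (mul_mem (hP x) (hP y))

end Cfsg.Agent.Lib.TensorSympMax.TwoRoot
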