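import Cfsg.Agent.Lib.TensorSympMax.BlockTo
import Cfsg.Agent.Lib.TensorSympMax.TwoRoot

/-!
Elements of the two root group fixing the invariant subspace and commuting with the root group at the block.
-/

set_option autoImplicit false
set_option linter.unusedSectionVars false
set_option linter.style.haveILetI false

namespace Cfsg.Agent.Lib.TensorSympMax.Centraliser

open Matrix Polynomial
open Cfsg.Agent.Lib.Subspaces.Transvection Cfsg.Agent.Lib.Subspaces.FormVec
  Cfsg.Agent.Lib.TensorPowerMax.Basic Cfsg.Agent.Lib.TensorSympMax.Basic Cfsg.Agent.Lib.TensorSympMax.Quad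
  Cfsg.Agent.Lib.TensorSympMax.BlockTo Cfsg.Agent.Lib.TensorSympMax.TwoRoot

variable {ι : Type} [Fintype ι] [DecidableEq ι] {k : ℕ} {F : Type*} [Field F]

local notation "Big" => Matrix (ι → Fin k) (ι → Fin k) F
local notation "GG" => GL (ι → Fin k) F
local notation "W1" => Fin k → F
local notation "SL2P" => Matrix.SpecialLinearGroup (Fin 2) F[X]

variable {f : (Fin k → F) → (Fin k → F) → F} {M : Subgroup (GL (ι → Fin k) F)} {j : ι} {w : Fin k → F}
  {N : Matrix (ι → Fin k) (ι → Fin k) F} {T : F → GL (ι → Fin k) F}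

/-- The data: a block, a square zero skew element of the endomorphisms, and its one parameter group in `M`. -/
structure Pair (f : (Fin k → F) → (Fin k → F) → F) (M : Subgroup (GL (ι → Fin k) F)) (j : ι) (w : Fin k → F)
    (N : Matrix (ι → Fin k) (ι → Fin k) F) (T : F → GL (ι → Fin k) F) : Prop where
  S : Setting f M
  two : (2 : F) ≠ 0
  hw : w ≠ 0
  hNN : N * N = 0
  skew : ∀ z z', Bt f (N *ᵥ z) z' = -Bt f z (N *ᵥ z')
  hT : ∀ c, (T c : Matrix (ι → Fin k) (ι → Fin k) F) = 1 + c • N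
  memT : ∀ c, T c ∈ M

namespace Pair

variable (D : Pair f M j w N T)
include D

theorem gp_le : Gp f j w T ≤ M := by
  refine (Subgroup.closure_le _).2 ?_
  rintro _ (⟨c, rfl⟩ | ⟨c, rfl⟩)
  · exact D.S.rs_mem j w c
  · exact D.memT c

local notation "B" => Bop f j w N

theorem Bop_adj (a b : ({l // l ≠ j} → Fin k) → F) : Bt f (B a) b = Bt f a (B b) := by
  have hf := D.S.hf
  have e : ((-1 : F) ^ Fintype.card ι) * (-1) ^ Fintype.card {l // l ≠ j} = -1 := by
    obtain ⟨m, hm⟩ : ∃ m, Fintype.card ι = m + 1 := ⟨Fintype.card ι - 1, by have := D.S.hι; omega⟩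
    rw [Fintype.card_subtype_compl, Fintype.card_subtype_eq, hm, Nat.add_sub_cancel, pow_succ, mul_right_comm,
      ← mul_pow, neg_one_mul, neg_neg, one_pow, one_mul]
  rw [Bop_apply, ← Bt_ins_right hf, D.skew, Bt_swap hf (N *ᵥ ins j w b), Bt_ins_right hf,
    ← Bop_apply, Bt_swap hf a (B b), ← mul_assoc, e, neg_one_mul, neg_neg]

theorem pow_adj : ∀ (n : ℕ) (a b : ({l // l ≠ j} → Fin k) → F), Bt f ((B ^ n) a) b = Bt f a ((B ^ n) b)
  | 0, a, b => rfl
  | n + 1, a, b => by
    rw [pow_succ', Module.End.mul_apply, D.Bop_adj, pow_adj n, ← Module.End.mul_apply, ← pow_succ, ← pow_succ']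

theorem aeval_adj (P : F[X]) (a b : ({l // l ≠ j} → Fin k) → F) :
    Bt f (aeval B P a) b = Bt f a (aeval B P b) := by
  induction P using Polynomial.induction_on' with
  | add p q hp hq => rw [map_add, LinearMap.add_apply, LinearMap.add_apply, Bt_add_left, Bt_add_right, hp, hq]
  | monomial n c =>
    rw [aeval_monomial, Algebra.algebraMap_eq_smul_one, smul_mul_assoc, one_mul, LinearMap.smul_apply,
      LinearMap.smul_apply, Bt_smul_left, Bt_smul_right, D.pow_adj]

variable {r : ℕ} (hr : Module.finrank F (({l // l ≠ j} → Fin k) → F) ≤ r)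
include hr

theorem exists_shift (m : ℕ) (u : ({l // l ≠ j} → Fin k) → F) : ∃ t, (B ^ (r + m)) t = (B ^ r) u :=
  LinearMap.mem_range.1 (range_pow_le B hr (LinearMap.mem_range.2 ⟨u, rfl⟩))

omit hr in
theorem ins_mem_K0 {u : ({l // l ≠ j} → Fin k) → F} (hu : (B ^ r) u = 0) : ins j w u ∈ K0 f j w N r := by
  refine mem_K0.2 ⟨?_, ?_⟩
  · rw [ctr_ins, formVec_self D.S.hf, zero_smul, map_zero]
  · rw [← Bop_apply, ← Module.End.mul_apply, ← pow_succ, pow_succ', Module.End.mul_apply, hu, map_zero]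

/-- A vector with the given first coordinate in the invariant subspace. -/
theorem exists_K0_pre {u : ({l // l ≠ j} → Fin k) → F} (hu : (B ^ r) u = 0) :
    ∃ z ∈ K0 f j w N r, ctr j (formVec f w) z = u := by
  obtain ⟨y, hy⟩ := exists_one D.S.hf D.hw
  have hy' : ctr j (formVec f w) (ins j y u) = u := by rw [ctr_ins, dot D.S.hf, hy, one_smul]
  obtain ⟨t, ht⟩ := D.exists_shift hr 1 (ctr j (formVec f w) (N *ᵥ ins j y u))
  refine ⟨ins j y u - ins j w t, mem_K0.2 ⟨?_, ?_⟩, ?_⟩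
  · rw [map_sub, hy', ctr_ins, formVec_self D.S.hf, zero_smul, sub_zero, hu]
  · rw [mulVec_sub, map_sub, map_sub, ← Bop_apply f j w N, ← Module.End.mul_apply, ← pow_succ, ht, sub_self]
  · rw [map_sub, hy', ctr_ins, formVec_self D.S.hf, zero_smul, sub_zero]

/-- Modulo the block, the kernel of the root lies in the invariant subspace. -/
theorem exists_K0_sub {z : (ι → Fin k) → F} (hz : ctr j (formVec f w) z = 0) :
    ∃ t, z - ins j w t ∈ K0 f j w N r := by
  obtain ⟨t, ht⟩ := D.exists_shift hr 1 (ctr j (formVec f w) (N *ᵥ z))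
  refine ⟨t, mem_K0.2 ⟨?_, ?_⟩⟩
  · rw [map_sub, hz, ctr_ins, formVec_self D.S.hf, zero_smul, sub_zero, map_zero]
  · rw [mulVec_sub, map_sub, map_sub, ← Bop_apply, ← Module.End.mul_apply, ← pow_succ, ht, sub_self]

omit hr in
/-- An element commuting with the root acts on the block through its coefficient. -/
theorem exists_coef {y : GG} (hy : ∀ z, (y : Big) *ᵥ (Xr f j w *ᵥ z) = Xr f j w *ᵥ ((y : Big) *ᵥ z)) :
    ∃ A : (({l // l ≠ j} → Fin k) → F) →ₗ[F] ({l // l ≠ j} → Fin k) → F,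
      (∀ u, (y : Big) *ᵥ ins j w u = ins j w (A u)) ∧
        ∀ z, ctr j (formVec f w) ((y : Big) *ᵥ z) = A (ctr j (formVec f w) z) := by
  obtain ⟨y0, hy0⟩ := exists_one D.S.hf D.hw
  have hsec : ∀ u, ctr j (formVec f w) (ins j y0 u) = u := fun u => by
    rw [ctr_ins, dot D.S.hf, hy0, one_smul]
  let A := (ctr j (formVec f w)).comp ((Matrix.mulVecLin (y : Big)).comp (ins j y0))
  have h1 : ∀ u, (y : Big) *ᵥ ins j w u = ins j w (A u) := fun u => by
    have := hy (ins j y0 u)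
    rwa [Xr_mulVec, Xr_mulVec, hsec] at this
  refine ⟨A, h1, fun z => ins_injective D.hw ?_⟩
  rw [← h1, ← Xr_mulVec, ← Xr_mulVec, hy]

omit hr in
theorem commute_Xr {y : GG} {c : F} (hc : c ≠ 0) (h : rs f j w c * y = y * rs f j w c) (z : (ι → Fin k) → F) :
    (y : Big) *ᵥ (Xr f j w *ᵥ z) = Xr f j w *ᵥ ((y : Big) *ᵥ z) := by
  have := congrArg (fun g : GG => (g : Big) *ᵥ z) h
  simp only [gl_mul_mulVec, rs_mulVec D.S.hf, ← Xr_mulVec, mulVec_add, mulVec_smul] at this
  exact (smul_right_injective _ hc (add_left_cancel this)).symm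

omit hr in
theorem mem_block_of_orth {d : (ι → Fin k) → F} [Finite F]
    (h : ∀ z, ctr j (formVec f w) z = 0 → Bt f d z = 0) : d ∈ block j w := by
  rw [mem_block_iff D.hw]
  intro φ hφ
  obtain ⟨z, rfl⟩ := formVec_onto D.S.hf φ
  refine Bt_nondeg D.S.hf fun u => ?_
  rw [Bt_swap D.S.hf, ← Bt_ins_right D.S.hf, h, mul_zero]
  rw [dot D.S.hf] at hφ
  rw [ctr_ins, dot D.S.hf, D.S.hf.skew, hφ, neg_zero, zero_smul]

/-- An element fixing the invariant subspace and trivial on the block is a root element. -/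
theorem fix_rs [Finite F] (hG : ¬ Good f M) {y : GG} (hyM : y ∈ M)
    (hfix : ∀ z ∈ K0 f j w N r, (y : Big) *ᵥ z = z)
    (h1 : ∀ u, (y : Big) *ᵥ ins j w u = ins j w u) :
    ∃ d : F, y = rs f j w d := by
  obtain ⟨y0, hy0⟩ := exists_one D.S.hf D.hw
  obtain ⟨η, hη⟩ := exists_dot_eq_one D.hw
  have hsec : ∀ u, ctr j (formVec f w) (ins j y0 u) = u := fun u => by
    rw [ctr_ins, dot D.S.hf, hy0, one_smul]
  have hker : ∀ z, ctr j (formVec f w) z = 0 → (y : Big) *ᵥ z = z := fun z hz => by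
    obtain ⟨t, ht⟩ := D.exists_K0_sub hr hz
    have := hfix _ ht
    rwa [mulVec_sub, h1, sub_left_inj] at this
  let A : (({l // l ≠ j} → Fin k) → F) → ({l // l ≠ j} → Fin k) → F := fun u =>
    ctr j η ((y : Big) *ᵥ ins j y0 u - ins j y0 u)
  obtain ⟨d, -, hd⟩ := el_scalar D.S hG D.hw hyM (A := A) (by simp [A]) fun z => by
    have h3 := hker (z - ins j y0 (ctr j (formVec f w) z)) (by rw [map_sub, hsec, sub_self])
    rw [mulVec_sub] at h3
    obtain ⟨t, ht⟩ : (y : Big) *ᵥ z - z ∈ block j w := D.mem_block_of_orth fun x hx => by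
      rw [sub_eq_add_neg, ← neg_one_smul F z, Bt_add_left, Bt_smul_left]
      conv_lhs => arg 1; rw [← hker x hx]
      rw [D.S.iso y hyM, neg_one_mul, add_neg_cancel]
    have h4 : (y : Big) *ᵥ ins j y0 (ctr j (formVec f w) z) - ins j y0 (ctr j (formVec f w) z) =
        (y : Big) *ᵥ z - z := by
      rw [sub_eq_sub_iff_sub_eq_sub] at h3 ⊢
      linear_combination (norm := abel_nf) -h3
    simp only [A, h4, ← ht, ctr_ins, hη, one_smul]
    rw [ht, add_sub_cancel]
  exact ⟨d, hd⟩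

/-- In dimension at least four the coefficient on the block is scalar. -/
theorem four [Finite F] (hG : ¬ Good f M) (hk : 4 ≤ k) {y : GG} (hyM : y ∈ M)
    (hfix : ∀ z ∈ K0 f j w N r, (y : Big) *ᵥ z = z)
    {A : (({l // l ≠ j} → Fin k) → F) → ({l // l ≠ j} → Fin k) → F}
    (h1 : ∀ u, (y : Big) *ᵥ ins j w u = ins j w (A u)) : ∃ c : F, ∀ u, A u = c • u := by
  have hm : Maps y j w j w := maps_of_le D.hw D.hw fun u => by
    rw [h1]; exact LinearMap.mem_range_self _ _
  obtain ⟨C, L, hCL⟩ := split_of_fix D.S hG (norm_of_mem D.S hyM) D.hw hm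
  have hins := mulVec_ins_of_kron hCL
  obtain ⟨z, hzn, hz⟩ := exists_common_zero_not_mem (Submodule.span F {w}) ![formVec f w] (by
    rw [finrank_span_singleton D.hw, Fintype.card_fin]; omega)
  obtain ⟨η, hη, hηz⟩ := exists_functional hzn
  obtain ⟨η1, hη1⟩ := exists_dot_eq_one D.hw
  set d := η ⬝ᵥ ((L : Matrix (Fin k) (Fin k) F) *ᵥ z)
  have hC : ∀ u, d • (C.val *ᵥ u) = u := fun u => by
    obtain ⟨t, ht⟩ := D.exists_K0_sub hr (z := ins j z u) (by rw [ctr_ins, show formVec f w ⬝ᵥ z = 0 from hz 0, zero_smul])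
    have e := congrArg (ctr j η) (hfix _ ht)
    rw [mulVec_sub, hins, h1] at e
    simpa [ctr_ins, hηz, hη w (Submodule.mem_span_singleton_self w)] using e
  haveI := D.S.rest_nonempty j
  have hd : d ≠ 0 := fun e => by
    have := congrFun (hC fun _ => 1) (Classical.arbitrary _)
    rw [e, zero_smul] at this
    exact one_ne_zero this.symm
  refine ⟨η1 ⬝ᵥ ((L : Matrix (Fin k) (Fin k) F) *ᵥ w) * d⁻¹, fun u => ?_⟩
  have e := congrArg (ctr j η1) (h1 u)
  rw [hins, ctr_ins, ctr_ins, hη1, one_smul] at e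
  rw [← e]
  conv_rhs => rw [← hC u, smul_smul, mul_assoc, inv_mul_cancel₀ hd, mul_one]

omit hr in
/-- The coefficient against the polynomial matrix. -/
theorem coef_rel {y : GG} {P : SL2P} (hP : (y, P) ∈ Rel f j w N)
    {A : (({l // l ≠ j} → Fin k) → F) → ({l // l ≠ j} → Fin k) → F}
    (h1 : ∀ u, (y : Big) *ᵥ ins j w u = ins j w (A u)) (u : ({l // l ≠ j} → Fin k) → F) :
    B (aeval B ((P : Matrix (Fin 2) (Fin 2) F[X]) 1 0) u) = 0 ∧
      B (A u) = B (aeval B ((P : Matrix (Fin 2) (Fin 2) F[X]) 0 0) u) := by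
  have h := hP ![u, 0]
  simp only [TwoRoot.vec, act, Matrix.cons_val_zero, Matrix.cons_val_one, map_zero, mulVec_zero, add_zero, h1] at h
  constructor
  · have := congrArg (ctr j (formVec f w)) h
    rw [map_add, ctr_ins, ctr_ins, formVec_self D.S.hf, zero_smul, zero_smul, zero_add] at this
    exact this.symm
  · have := congrArg (fun z => ctr j (formVec f w) (N *ᵥ z)) h
    simp only [mulVec_add, mulVec_mulVec, D.hNN, zero_mulVec, map_add, map_zero, add_zero] at this
    exact this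

/-- The coefficient of an element fixing the invariant subspace and commuting with the root squares to one. -/
theorem coef_sq [Finite F] {y : GG} (hy : y ∈ Gp f j w T) (hfix : ∀ z ∈ K0 f j w N r, (y : Big) *ᵥ z = z)
    (A : (({l // l ≠ j} → Fin k) → F) →ₗ[F] ({l // l ≠ j} → Fin k) → F)
    (h1 : ∀ u, (y : Big) *ᵥ ins j w u = ins j w (A u))
    (h2 : ∀ z, ctr j (formVec f w) ((y : Big) *ᵥ z) = A (ctr j (formVec f w) z)) :
    ∀ u, A (A u) = u := by
  have hyM := D.gp_le hy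
  obtain ⟨⟨y', P⟩, hP, hyy⟩ := gp_le_rel D.S.hf D.hNN D.hT hy
  obtain rfl : y' = y := hyy
  set q := aeval B ((P : Matrix (Fin 2) (Fin 2) F[X]) 0 0)
  have hA0 : ∀ u, (B ^ r) u = 0 → A u = u := fun u hu => by
    have := hfix _ (D.ins_mem_K0 hu)
    rw [h1] at this
    exact ins_injective D.hw this
  have hiso : ∀ a b, Bt f (A a) (A b) = Bt f a b := fun a b => by
    obtain ⟨y0, hy0⟩ := exists_one D.S.hf D.hw
    have hsec : ctr j (formVec f w) (ins j y0 a) = a := by rw [ctr_ins, dot D.S.hf, hy0, one_smul]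
    have := D.S.iso y' hyM (ins j y0 a) (ins j w b)
    rwa [h1, Bt_ins_right D.S.hf, Bt_ins_right D.S.hf, h2, hsec] at this
  have hcomm : ∀ a, q ((B ^ r) a) = (B ^ r) (q a) := fun a => by
    rw [← aeval_X_pow (R := F) B, ← Module.End.mul_apply, ← map_mul, mul_comm, map_mul, Module.End.mul_apply]
  have hsplit : ∀ b, ∃ b0 c, b = b0 + (B ^ r) c ∧ (B ^ r) b0 = 0 := fun b => by
    obtain ⟨c, hc⟩ := D.exists_shift hr r b
    exact ⟨b - (B ^ r) c, c, (sub_add_cancel _ _).symm, by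
      rw [map_sub, ← Module.End.mul_apply, ← pow_add, hc, sub_self]⟩
  have h0 : ∀ a b, (B ^ r) b = 0 → Bt f ((B ^ r) a) b = 0 := fun a b hb => by
    rw [D.pow_adj, hb]; simp [Bt]
  have hzero : ∀ x z : ({l // l ≠ j} → Fin k) → F,
      (∀ b, (B ^ r) b = 0 → Bt f x b = Bt f z b) →
      (∀ c, Bt f x ((B ^ r) c) = Bt f z ((B ^ r) c)) → x = z := fun x z hU hV => by
    refine sub_eq_zero.1 (Bt_nondeg D.S.hf fun b => ?_)
    rw [Bt_swap D.S.hf]
    refine mul_eq_zero_of_right _ ?_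
    obtain ⟨b0, c, rfl, hb0⟩ := hsplit b
    rw [sub_eq_add_neg, ← neg_one_smul F z, Bt_add_left, Bt_smul_left, Bt_add_right, Bt_add_right,
      hU b0 hb0, hV c]
    ring
  have hQ : ∀ a, A ((B ^ r) a) = q ((B ^ r) a) := fun a => by
    refine hzero _ _ (fun b hb => ?_) fun c => ?_
    · conv_lhs => rw [← hA0 b hb, hiso, h0 _ _ hb]
      rw [hcomm, h0 _ _ hb]
    · obtain ⟨t, ht⟩ : ∃ t, r = t + 1 := ⟨r - 1, by
        haveI := D.S.rest_nonempty j
        have : 0 < Module.finrank F (({l // l ≠ j} → Fin k) → F) := by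
          rw [Module.finrank_fintype_fun_eq_card]; exact Fintype.card_pos
        omega⟩
      have e : (B ^ r) (A ((B ^ r) a)) = (B ^ r) (q ((B ^ r) a)) := by
        conv_lhs => arg 1; rw [ht, pow_succ]
        conv_rhs => arg 1; rw [ht, pow_succ]
        rw [Module.End.mul_apply, Module.End.mul_apply, (D.coef_rel hP h1 ((B ^ r) a)).2]
      rw [← D.pow_adj, e, D.pow_adj]
  have hq : ∀ a, q (q ((B ^ r) a)) = (B ^ r) a := fun a => by
    refine hzero _ _ (fun b hb => ?_) fun c => ?_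
    · rw [hcomm, hcomm, h0 _ _ hb, h0 _ _ hb]
    · rw [D.aeval_adj, ← hQ, ← hQ, hiso]
  intro u
  obtain ⟨u0, c, rfl, hu0⟩ := hsplit u
  rw [map_add, map_add, hA0 _ hu0, hA0 _ hu0, hQ, hcomm, hQ, ← hcomm, hq]

/-- An element fixing the invariant subspace and commuting with the root squares to a root element. -/
theorem sq_rs [Finite F] (hG : ¬ Good f M) {y : GG} (hy : y ∈ Gp f j w T)
    (hfix : ∀ z ∈ K0 f j w N r, (y : Big) *ᵥ z = z) {c : F} (hc : c ≠ 0)
    (hcomm : rs f j w c * y = y * rs f j w c) : ∃ d : F, y * y = rs f j w d := by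
  obtain ⟨A, h1, h2⟩ := D.exists_coef (D.commute_Xr hc hcomm)
  have hA := D.coef_sq hr hy hfix A h1 h2
  refine D.fix_rs hr hG (M.mul_mem (D.gp_le hy) (D.gp_le hy)) (fun z hz => ?_) fun u => ?_
  · rw [gl_mul_mulVec, hfix z hz, hfix z hz]
  · rw [gl_mul_mulVec, h1, h1, hA]

end Pair

end Cfsg.Agent.Lib.TensorSympMax.Centraliser
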