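import Cfsg.Agent.Lib.TensorSympMax.Atoms

/-!
Symmetrised products of conjugate pure tensors of atoms spread the roots over every factor.
-/

set_option autoImplicit false
set_option linter.unusedSectionVars false
set_option linter.style.haveILetI false

namespace Cfsg.Agent.Lib.TensorSympMax.Double

open Matrix
open Cfsg.Agent.Lib.Subspaces.Transvection Cfsg.Agent.Lib.Subspaces.FormVec
  Cfsg.Agent.Lib.TensorPowerMax.Basic Cfsg.Agent.Lib.TensorSympMax.Basic Cfsg.Agent.Lib.TensorSympMax.Atoms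

variable {ι : Type} [Fintype ι] [DecidableEq ι] {k : ℕ} {F : Type*} [Field F]

local notation "A1" => Matrix (Fin k) (Fin k) F
local notation "Big" => Matrix (ι → Fin k) (ι → Fin k) F
local notation "GG" => GL (ι → Fin k) F
local notation "W1" => Fin k → F

/-- A set of endomorphisms stable under conjugation by a group. -/
def ConjInv (G : Subgroup (GL (ι → Fin k) F)) (K : Set (Matrix (ι → Fin k) (ι → Fin k) F)) : Prop :=
  ∀ g ∈ G, ∀ A ∈ K, ((g : GL (ι → Fin k) F) : Matrix (ι → Fin k) (ι → Fin k) F) * A *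
    ((g⁻¹ : GL (ι → Fin k) F) : Matrix (ι → Fin k) (ι → Fin k) F) ∈ K

/-- A pure tensor of atoms on `S`. -/
def Pure (f : (Fin k → F) → (Fin k → F) → F) (S : Finset ι) (a : ι → Matrix (Fin k) (Fin k) F) : Prop :=
  (∀ i ∈ S, Atom f (a i)) ∧ ∀ i, i ∉ S → a i = 1

variable {f : (Fin k → F) → (Fin k → F) → F} {G : Subgroup (GL (ι → Fin k) F)} (S₀ : OddSetting f G)
include S₀

theorem rootInv {Q : AddSubgroup Big} (hQ : ConjInv G (Q : Set Big)) : RootInv f Q := by
  intro i v c A hA
  have h := hQ (rs f i v c) (S₀.rs_mem i v c) A hA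
  have hinv : ((rs f i v c)⁻¹ : GG).val = 1 - c • Xr f i v := by
    refine Units.inv_eq_of_mul_eq_one_right ?_
    rw [coe_rs S₀.hf, add_mul, one_mul, mul_sub, mul_one, smul_mul_smul_comm, Xr_sq S₀.hf, smul_zero, sub_zero,
      sub_add_cancel]
  rw [hinv, coe_rs S₀.hf] at h
  exact h

theorem ptGL_mem {g : ι → GL (Fin k) F} (hg : ∀ i x y, f ((g i : A1) *ᵥ x) ((g i : A1) *ᵥ y) = f x y) :
    ptGL g ∈ G := by
  classical
  suffices h : ∀ T : Finset ι, ptGL (fun i => if i ∈ T then g i else 1) ∈ G by simpa using h Finset.univ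
  intro T
  induction T using Finset.induction_on with
  | empty =>
    simp only [Finset.notMem_empty, if_false]
    rw [show (fun _ : ι => (1 : GL (Fin k) F)) = 1 from rfl, map_one]
    exact one_mem G
  | insert i T hi ih =>
    have e : (fun l => if l ∈ insert i T then g l else 1) =
        Function.update (1 : ι → GL (Fin k) F) i (g i) * (fun l => if l ∈ T then g l else 1) := by
      funext l
      by_cases hl : l = i
      · subst hl; simp [hi]
      · simp [Finset.mem_insert, hl, Function.update_of_ne hl]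
    rw [e, map_mul]
    exact mul_mem (S₀.one i (g i) (hg i)) ih

/-- Conjugating a pure tensor. -/
theorem move_eq (a : ι → A1) (σ : Equiv.Perm ι) (g : ι → GL (Fin k) F) :
    pt (fun i => (g i : A1) * a (σ.symm i) * (((g i)⁻¹ : GL (Fin k) F) : A1)) =
      ((ptGL g * pmGL σ : GG) : Big) * pt a * (((ptGL g * pmGL σ)⁻¹ : GG) : Big) := by
  rw [_root_.mul_inv_rev, ← map_inv, ← map_inv, Units.val_mul, Units.val_mul, coe_ptGL, coe_pmGL, coe_pmGL, coe_ptGL,
    mul_assoc (pt _) (pm σ), pm_mul_pt, ← mul_assoc (pt _), pt_mul, mul_assoc _ (pm σ), ← mul_assoc (pm σ), pm_mul,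
    mul_inv_cancel, pm_one, one_mul, pt_mul]
  rfl

/-- Moving a pure tensor. -/
theorem move_mem {K : Set Big} (hK : ConjInv G K) {a : ι → A1} {c : F} (h : c • pt a ∈ K) (σ : Equiv.Perm ι)
    {g : ι → GL (Fin k) F} (hg : ∀ i x y, f ((g i : A1) *ᵥ x) ((g i : A1) *ᵥ y) = f x y) :
    c • pt (fun i => (g i : A1) * a (σ.symm i) * (((g i)⁻¹ : GL (Fin k) F) : A1)) ∈ K := by
  have h1 := hK _ (S₀.perm_all σ) _ h
  have h2 := hK _ (ptGL_mem S₀ hg) _ h1
  convert h2 using 1
  rw [Matrix.mul_smul, Matrix.smul_mul, Matrix.mul_smul, Matrix.smul_mul]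
  congr 1
  rw [← map_inv, coe_pmGL, coe_pmGL, pm_mul_pt, mul_assoc (pt (a ∘ σ.symm)), pm_mul, mul_inv_cancel, pm_one,
    mul_one, ← map_inv, coe_ptGL, coe_ptGL, pt_mul, pt_mul]
  rfl

variable {P : Submodule F (Matrix (ι → Fin k) (ι → Fin k) F)} (hP : ConjInv G (P : Set (Matrix (ι → Fin k) (ι → Fin k) F)))
include hP

theorem sandwich_pt {A : Big} (hA : A ∈ P) (u : ι → W1) : ∀ T : Finset ι,
    pt (fun i => if i ∈ T then er f (u i) else 1) * A * pt (fun i => if i ∈ T then er f (u i) else 1) ∈ P := by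
  classical
  intro T
  induction T using Finset.induction_on with
  | empty =>
    simp only [Finset.notMem_empty, if_false]
    rw [show (fun _ : ι => (1 : A1)) = 1 from rfl, pt_one, one_mul, mul_one]
    exact hA
  | insert i T hi ih =>
    have e : (fun l => if l ∈ insert i T then er f (u l) else 1) =
        Function.update (fun l => if l ∈ T then er f (u l) else 1) i (er f (u i)) := by
      funext l
      by_cases hl : l = i
      · subst hl; simp
      · simp [Finset.mem_insert, hl, Function.update_of_ne hl]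
    have el : pt (fun l => if l ∈ insert i T then er f (u l) else 1) =
        oneM i (er f (u i)) * pt (fun l => if l ∈ T then er f (u l) else 1) := by
      rw [e, oneM_mul_pt, if_neg hi, mul_one]
    have er' : pt (fun l => if l ∈ insert i T then er f (u l) else 1) =
        pt (fun l => if l ∈ T then er f (u l) else 1) * oneM i (er f (u i)) := by
      rw [e, pt_mul_oneM, if_neg hi, one_mul]
    have h := sandwich_mem (rootInv S₀ (Q := P.toAddSubgroup) hP) ih i (u i)
    have key : pt (fun l => if l ∈ insert i T then er f (u l) else 1) * A *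
        pt (fun l => if l ∈ insert i T then er f (u l) else 1) =
      oneM i (er f (u i)) * (pt (fun l => if l ∈ T then er f (u l) else 1) * A *
        pt (fun l => if l ∈ T then er f (u l) else 1)) * oneM i (er f (u i)) := by
      conv_lhs => arg 1; arg 1; rw [el]
      rw [er']
      simp only [mul_assoc]
    rw [key]
    exact (P.smul_mem_iff (neg_ne_zero.2 S₀.two)).1 h

/-- Symmetrised products with an even overlap of partners give roots on the overlap. -/
theorem pair_mem {a b : ι → A1} {T : Finset ι} {u : ι → W1} (hT : Even T.card)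
    (hl : ∀ i ∈ T, f ((a i * b i) *ᵥ u i) (u i) ≠ 0 ∧ f ((b i * a i) *ᵥ u i) (u i) = -f ((a i * b i) *ᵥ u i) (u i))
    (hoff : ∀ i, i ∉ T → a i * b i = b i * a i)
    (hab : pt a * pt b + pt b * pt a ∈ P) :
    pt (fun i => if i ∈ T then er f (u i) else a i * b i) ∈ P := by
  classical
  set e := fun i => if i ∈ T then er f (u i) else (1 : A1)
  have h := sandwich_pt S₀ hP hab u T
  rw [mul_add, add_mul, pt_mul, pt_mul, pt_mul, pt_mul, pt_mul, pt_mul] at h
  have key : ∀ (x y : ι → A1) (s : ι → F), (∀ i ∈ T, f ((x i * y i) *ᵥ u i) (u i) = s i) →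
      (∀ i, i ∉ T → x i * y i = a i * b i) →
      pt (e * (x * y) * e) = (∏ i ∈ T, s i) • pt (fun i => if i ∈ T then er f (u i) else a i * b i) := by
    intro x y s hs hxy
    rw [show (∏ i ∈ T, s i) = ∏ i, (if i ∈ T then s i else 1) by rw [Fintype.prod_ite_mem], ← pt_smul_family]
    congr 1
    funext i
    by_cases hi : i ∈ T
    · simp only [e, Pi.mul_apply, if_pos hi]
      rw [er_mul_er S₀.hf, hs i hi]
    · simp only [e, Pi.mul_apply, if_neg hi, one_mul, mul_one, one_smul, hxy i hi]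
  rw [key a b _ (fun i _ => rfl) (fun i _ => rfl),
    key b a (fun i => -f ((a i * b i) *ᵥ u i) (u i)) (fun i hi => (hl i hi).2) (fun i hi => (hoff i hi).symm),
    Finset.prod_neg, hT.neg_one_pow, one_mul, ← add_smul, ← two_mul] at h
  exact (P.smul_mem_iff (mul_ne_zero S₀.two (Finset.prod_ne_zero_iff.2 fun i hi => (hl i hi).1))).1 h

variable [Finite F]

/-- Doubling a pure tensor over a permutation. -/
theorem step {K : Set Big} (hK : ConjInv G K) (hprod : ∀ (S S' : Finset ι) (a b : ι → A1) (c : F),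
      c ≠ 0 → S.Nonempty → Pure f S a → Pure f S' b →
      (∃ U ∈ G, pt b = (U : Big) * pt a * ((U⁻¹ : GG) : Big)) → c • pt a ∈ K → c • pt b ∈ K → pt a * pt b + pt b * pt a ∈ P)
    {S : Finset ι} (hne : S.Nonempty) {a : ι → A1} (ha : Pure f S a) {c : F} (hc : c ≠ 0) (hca : c • pt a ∈ K)
    (σ : Equiv.Perm ι) (hfix : ∀ i ∈ S, σ.symm i ∈ S → σ.symm i = i)
    (heven : Even (S ∩ Finset.univ.filter fun i => σ.symm i ∈ S).card) :
    ∃ d : ι → A1, Pure f (S ∪ Finset.univ.filter fun i => σ.symm i ∈ S) d ∧ pt d ∈ P ∧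
      (∀ i ∈ S, σ.symm i ∈ S → ∃ v, v ≠ 0 ∧ d i = er f v) ∧
      (∀ i ∈ S, σ.symm i ∉ S → d i = a i) ∧ ∀ i, i ∉ S → σ.symm i ∈ S → d i = a (σ.symm i) := by
  classical
  set J := Finset.univ.filter fun i => σ.symm i ∈ S with hJ
  set T := S ∩ J
  have hmem : ∀ i, i ∈ T ↔ i ∈ S ∧ σ.symm i ∈ S := fun i => by simp [T, J]
  have hex : ∀ i, ∃ g : GL (Fin k) F, (∀ x y, f ((g : A1) *ᵥ x) ((g : A1) *ᵥ y) = f x y) ∧ (i ∉ T → g = 1) ∧
      ∃ u, i ∈ T → u ≠ 0 ∧ f ((a i * ((g : A1) * a i * ((g⁻¹ : GL (Fin k) F) : A1))) *ᵥ u) u ≠ 0 ∧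
        f (((g : A1) * a i * ((g⁻¹ : GL (Fin k) F) : A1) * a i) *ᵥ u) u =
          -f ((a i * ((g : A1) * a i * ((g⁻¹ : GL (Fin k) F) : A1))) *ᵥ u) u := by
    intro i
    by_cases hi : i ∈ T
    · obtain ⟨g, hg, u, hu⟩ := (ha.1 i ((hmem i).1 hi).1).partner S₀.hf
      exact ⟨g, hg, fun h => absurd hi h, u, fun _ => hu⟩
    · exact ⟨1, fun x y => by simp, fun _ => rfl, 0, fun h => absurd h hi⟩
  choose g hg hg1 u hu using hex
  set b : ι → A1 := fun i => (g i : A1) * a (σ.symm i) * (((g i)⁻¹ : GL (Fin k) F) : A1)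
  have hb1 : ∀ i, i ∉ T → b i = a (σ.symm i) := fun i hi => by simp [b, hg1 i hi]
  have hb : Pure f J b := by
    refine ⟨fun i hi => (ha.1 _ (Finset.mem_filter.1 hi).2).conj S₀.hf (hg i), fun i hi => ?_⟩
    have : σ.symm i ∉ S := fun h => hi (Finset.mem_filter.2 ⟨Finset.mem_univ _, h⟩)
    rw [hb1 i (fun h => this ((hmem i).1 h).2), ha.2 _ this]
  have hab := hprod S J a b c hc hne ha hb
    ⟨_, mul_mem (ptGL_mem S₀ hg) (S₀.perm_all σ), move_eq S₀ a σ g⟩ hca (move_mem S₀ hK hca σ hg)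
  have hoff : ∀ i, i ∉ T → a i * b i = b i * a i := fun i hi => by
    by_cases h1 : i ∈ S
    · rw [hb1 i hi, ha.2 _ fun h => hi ((hmem i).2 ⟨h1, h⟩), mul_one, one_mul]
    · rw [ha.2 i h1, mul_one, one_mul]
  have hT : ∀ i ∈ T, b i = (g i : A1) * a i * (((g i)⁻¹ : GL (Fin k) F) : A1) := fun i hi => by
    simp only [b, hfix i ((hmem i).1 hi).1 ((hmem i).1 hi).2]
  have h := pair_mem S₀ hP (a := a) (b := b) (T := T) (u := u) heven (fun i hi => by
    rw [hT i hi]; exact ⟨(hu i hi).2.1, (hu i hi).2.2⟩) hoff hab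
  refine ⟨_, ⟨fun i hi => ?_, fun i hi => ?_⟩, h, fun i h1 h2 => ?_, fun i h1 h2 => ?_, fun i h1 h2 => ?_⟩
  · by_cases hiT : i ∈ T
    · simp only [if_pos hiT]
      exact Or.inl ⟨u i, (hu i hiT).1, rfl⟩
    simp only [if_neg hiT]
    by_cases h1 : i ∈ S
    · rw [hb1 i hiT, ha.2 _ fun h => hiT ((hmem i).2 ⟨h1, h⟩), mul_one]
      exact ha.1 i h1
    · rw [ha.2 i h1, one_mul]
      exact hb.1 i ((Finset.mem_union.1 hi).resolve_left h1)
  · simp only [Finset.mem_union, not_or] at hi
    rw [if_neg fun h => hi.1 ((hmem i).1 h).1, ha.2 i hi.1, hb.2 i hi.2, one_mul]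
  · simp only [if_pos ((hmem i).2 ⟨h1, h2⟩)]
    exact ⟨u i, (hu i ((hmem i).2 ⟨h1, h2⟩)).1, rfl⟩
  · have hiT : i ∉ T := fun h => h2 ((hmem i).1 h).2
    simp only [if_neg hiT, hb1 i hiT, ha.2 _ h2, mul_one]
  · have hiT : i ∉ T := fun h => h1 ((hmem i).1 h).1
    simp only [if_neg hiT, hb1 i hiT, ha.2 i h1, one_mul]

omit hP in
theorem filter_id (S : Finset ι) : (Finset.univ.filter fun i => (1 : Equiv.Perm ι).symm i ∈ S) = S := by
  ext i; rw [Finset.mem_filter]; exact ⟨fun h => h.2, fun h => ⟨Finset.mem_univ _, h⟩⟩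

/-- A pure tensor in an invariant set with symmetrised products in `P` gives one in `P`. -/
theorem exists_pure_mem {K : Set Big} (hK : ConjInv G K) (hprod : ∀ (S S' : Finset ι) (a b : ι → A1) (c : F),
      c ≠ 0 → S.Nonempty → Pure f S a → Pure f S' b →
      (∃ U ∈ G, pt b = (U : Big) * pt a * ((U⁻¹ : GG) : Big)) → c • pt a ∈ K → c • pt b ∈ K → pt a * pt b + pt b * pt a ∈ P)
    (heven : Even (Fintype.card ι)) {S : Finset ι} (hne : S.Nonempty) {a : ι → A1} (ha : Pure f S a) {c : F}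
    (hc : c ≠ 0) (hca : c • pt a ∈ K) :
    ∃ (S' : Finset ι) (d : ι → A1), S'.Nonempty ∧ Even S'.card ∧ Pure f S' d ∧ pt d ∈ P := by
  classical
  rcases Nat.even_or_odd S.card with he | ho
  · obtain ⟨d, hd, hdP, -⟩ := step S₀ hP hK hprod hne ha hc hca 1 (fun i _ _ => rfl)
      (by rwa [filter_id S₀, Finset.inter_self])
    rw [filter_id S₀, Finset.union_self] at hd
    exact ⟨S, d, hne, he, hd, hdP⟩
  · obtain ⟨y, hy⟩ : ∃ y, y ∉ S := by
      by_contra h
      push Not at h
      rw [Finset.eq_univ_iff_forall.2 h, Finset.card_univ] at ho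
      exact Nat.not_odd_iff_even.2 heven ho
    obtain ⟨x, hx⟩ := hne
    have hJ : (Finset.univ.filter fun i => (Equiv.swap x y).symm i ∈ S) = insert y (S.erase x) := by
      ext i
      rw [Finset.mem_filter, Finset.mem_insert, Finset.mem_erase, Equiv.symm_swap, and_iff_right (Finset.mem_univ _)]
      rcases eq_or_ne i x with rfl | hix
      · rw [Equiv.swap_apply_left]
        have : i ≠ y := fun e => hy (e ▸ hx)
        simp [hy, this]
      rcases eq_or_ne i y with rfl | hiy
      · rw [Equiv.swap_apply_right]; simp [hx]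
      · rw [Equiv.swap_apply_of_ne_of_ne hix hiy]; simp [hix, hiy]
    obtain ⟨d, hd, hdP, -⟩ := step S₀ hP hK hprod ⟨x, hx⟩ ha hc hca (Equiv.swap x y) (fun i hi h => by
        rw [Equiv.symm_swap] at h ⊢
        refine Equiv.swap_apply_of_ne_of_ne (fun e => ?_) fun e => hy (e ▸ hi)
        rw [e, Equiv.swap_apply_left] at h
        exact hy h)
      (by
        rw [hJ, show S ∩ insert y (S.erase x) = S.erase x by
          ext i; simp only [Finset.mem_inter, Finset.mem_insert, Finset.mem_erase]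
          exact ⟨fun h => h.2.resolve_left fun e => hy (e ▸ h.1), fun h => ⟨h.2, Or.inr h⟩⟩,
          Finset.card_erase_of_mem hx]
        obtain ⟨m, hm⟩ := ho
        exact ⟨m, by omega⟩)
    refine ⟨_, d, ⟨x, Finset.mem_union_left _ hx⟩, ?_, hd, hdP⟩
    rw [hJ, show S ∪ insert y (S.erase x) = insert y S by
      ext i; simp only [Finset.mem_union, Finset.mem_insert, Finset.mem_erase]; tauto,
      Finset.card_insert_of_notMem hy]
    exact ho.add_one

/-- Roots on every factor. -/
theorem exists_all (hJ : ∀ X ∈ P, ∀ A ∈ P, X * X = 0 → X * A + A * X ∈ P) (heven : Even (Fintype.card ι))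
    {S : Finset ι} (hne : S.Nonempty) {a : ι → A1} (ha : Pure f S a) {c : F} (hc : c ≠ 0) (hca : c • pt a ∈ P) :
    ∃ v : ι → W1, (∀ i, v i ≠ 0) ∧ pt (fun i => er f (v i)) ∈ P := by
  classical
  have hprod : ∀ (S S' : Finset ι) (a b : ι → A1) (c : F), c ≠ 0 → S.Nonempty → Pure f S a → Pure f S' b →
      (∃ U ∈ G, pt b = (U : Big) * pt a * ((U⁻¹ : GG) : Big)) →
      c • pt a ∈ (P : Set Big) → c • pt b ∈ (P : Set Big) → pt a * pt b + pt b * pt a ∈ P := by
    intro S S' a b c hc hS ha hb _ hca hcb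
    refine hJ _ ((P.smul_mem_iff hc).1 hca) _ ((P.smul_mem_iff hc).1 hcb) ?_
    obtain ⟨i, hi⟩ := hS
    rw [pt_mul]
    exact pt_eq_zero (i := i) ((ha.1 i hi).sq S₀.hf)
  obtain ⟨S, a, hne, he, ha, haP⟩ := exists_pure_mem S₀ hP hP hprod heven hne ha hc hca
  obtain ⟨d, hd, hdP, hroot, -⟩ := step S₀ hP hP hprod hne ha (c := 1) one_ne_zero (by rwa [one_smul]) 1 (fun i _ _ => rfl)
    (by rwa [filter_id S₀, Finset.inter_self])
  rw [filter_id S₀, Finset.union_self] at hd
  have base : ∃ (S : Finset ι) (d : ι → A1), S.Nonempty ∧ Even S.card ∧ Pure f S d ∧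
      (∀ i ∈ S, ∃ v, v ≠ 0 ∧ d i = er f v) ∧ pt d ∈ P :=
    ⟨S, d, hne, he, hd, fun i hi => hroot i hi hi, hdP⟩
  suffices main : ∀ n (S : Finset ι) (d : ι → A1), Fintype.card ι - S.card = n → S.Nonempty → Even S.card →
      Pure f S d → (∀ i ∈ S, ∃ v, v ≠ 0 ∧ d i = er f v) → pt d ∈ P →
      ∃ v : ι → W1, (∀ i, v i ≠ 0) ∧ pt (fun i => er f (v i)) ∈ P by
    obtain ⟨S, d, h1, h2, h3, h4, h5⟩ := base
    exact main _ S d rfl h1 h2 h3 h4 h5
  intro n
  induction n using Nat.strong_induction_on with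
  | _ n ih =>
    intro S d hn hne he hd hroot hdP
    by_cases hall : ∀ i, i ∈ S
    · choose v hv hdv using fun i => hroot i (hall i)
      exact ⟨v, hv, by rwa [← funext hdv]⟩
    push Not at hall
    obtain ⟨y, hy⟩ := hall
    obtain ⟨y', hy', hyy⟩ : ∃ y', y' ∉ S ∧ y' ≠ y := by
      by_contra h
      push Not at h
      have hu : insert y S = Finset.univ := Finset.eq_univ_iff_forall.2 fun i => by
        rcases eq_or_ne i y with rfl | hi
        · exact Finset.mem_insert_self _ _
        · exact Finset.mem_insert_of_mem (by_contra fun hS => hi (h i hS))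
      have := congrArg Finset.card hu
      rw [Finset.card_insert_of_notMem hy, Finset.card_univ] at this
      rw [← this] at heven
      exact Nat.not_even_iff_odd.2 he.add_one heven
    obtain ⟨x, hx⟩ := hne
    obtain ⟨x', hx', hxx⟩ : ∃ x' ∈ S, x' ≠ x := by
      obtain ⟨m, hm⟩ := he
      have : 0 < (S.erase x).card := by
        rw [Finset.card_erase_of_mem hx]
        have := Finset.card_pos.2 ⟨x, hx⟩
        omega
      obtain ⟨x', hx'⟩ := Finset.card_pos.1 this
      exact ⟨x', (Finset.mem_erase.1 hx').2, (Finset.mem_erase.1 hx').1⟩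
    have hxy : x ≠ y := fun e => hy (e ▸ hx)
    have hxy' : x ≠ y' := fun e => hy' (e ▸ hx)
    have hx'y : x' ≠ y := fun e => hy (e ▸ hx')
    have hx'y' : x' ≠ y' := fun e => hy' (e ▸ hx')
    set σ := Equiv.swap x y * Equiv.swap x' y'
    have hσ : ∀ i, σ.symm i = Equiv.swap x' y' (Equiv.swap x y i) := fun i => by
      rw [show σ.symm = (Equiv.swap x' y').symm * (Equiv.swap x y).symm from rfl, Equiv.symm_swap, Equiv.symm_swap]
      rfl
    have hval : σ.symm x = y ∧ σ.symm y = x ∧ σ.symm x' = y' ∧ σ.symm y' = x' ∧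
        ∀ i, i ≠ x → i ≠ y → i ≠ x' → i ≠ y' → σ.symm i = i := by
      refine ⟨?_, ?_, ?_, ?_, fun i a b c e => ?_⟩ <;> rw [hσ]
      · rw [Equiv.swap_apply_left, Equiv.swap_apply_of_ne_of_ne hx'y.symm hyy.symm]
      · rw [Equiv.swap_apply_right, Equiv.swap_apply_of_ne_of_ne hxx.symm hxy']
      · rw [Equiv.swap_apply_of_ne_of_ne hxx hx'y, Equiv.swap_apply_left]
      · rw [Equiv.swap_apply_of_ne_of_ne hxy'.symm hyy, Equiv.swap_apply_right]
      · rw [Equiv.swap_apply_of_ne_of_ne a b, Equiv.swap_apply_of_ne_of_ne c e]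
    obtain ⟨v1, v2, v3, v4, v5⟩ := hval
    have hJset : (Finset.univ.filter fun i => σ.symm i ∈ S) = insert y (insert y' ((S.erase x).erase x')) := by
      ext i
      simp only [Finset.mem_filter, Finset.mem_univ, true_and, Finset.mem_insert, Finset.mem_erase]
      by_cases a1 : i = x
      · subst a1; rw [v1]; simp [hy, hxy, hxy', hxx.symm]
      by_cases a2 : i = y
      · subst a2; rw [v2]; simp [hx]
      by_cases a3 : i = x'
      · subst a3; rw [v3]; simp [hy', hx'y, hx'y']
      by_cases a4 : i = y'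
      · subst a4; rw [v4]; simp [hx']
      rw [v5 i a1 a2 a3 a4]; simp [a1, a2, a3, a4]
    obtain ⟨d', hd', hdP', hr1, hr2, hr3⟩ := step S₀ hP hP hprod ⟨x, hx⟩ hd (c := 1) one_ne_zero (by rwa [one_smul]) σ
      (fun i hi h => by
        rcases eq_or_ne i x with rfl | a1
        · exact absurd (v1 ▸ h) hy
        rcases eq_or_ne i x' with rfl | a3
        · exact absurd (v3 ▸ h) hy'
        exact v5 i a1 (fun e => hy (e ▸ hi)) a3 fun e => hy' (e ▸ hi))
      (by
        rw [hJset, show S ∩ insert y (insert y' ((S.erase x).erase x')) = (S.erase x).erase x' by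
          ext i; simp only [Finset.mem_inter, Finset.mem_insert, Finset.mem_erase]
          refine ⟨fun h => ?_, fun h => ⟨h.2.2, Or.inr (Or.inr h)⟩⟩
          rcases h.2 with rfl | rfl | h'
          · exact absurd h.1 hy
          · exact absurd h.1 hy'
          · exact h', Finset.card_erase_of_mem (Finset.mem_erase.2 ⟨hxx, hx'⟩), Finset.card_erase_of_mem hx]
        obtain ⟨m, hm⟩ := he
        exact ⟨m - 1, by omega⟩)
    have hU : S ∪ (Finset.univ.filter fun i => σ.symm i ∈ S) = insert y (insert y' S) := by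
      rw [hJset]
      ext i; simp only [Finset.mem_union, Finset.mem_insert, Finset.mem_erase]; tauto
    have hcard : (insert y (insert y' S)).card = S.card + 2 := by
      rw [Finset.card_insert_of_notMem (by simp [hyy.symm, hy]), Finset.card_insert_of_notMem hy']
    rw [hU] at hd'
    have hle := Finset.card_le_univ (insert y (insert y' S))
    refine ih _ (by omega) _ d' rfl ⟨y, Finset.mem_insert_self _ _⟩ (by rw [hcard]; exact he.add even_two) hd'
      (fun i hi => ?_) hdP'
    by_cases h1 : i ∈ S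
    · by_cases h2 : σ.symm i ∈ S
      · exact hr1 i h1 h2
      · rw [hr2 i h1 h2]; exact hroot i h1
    · have h2 : σ.symm i ∈ S := by
        simp only [Finset.mem_insert] at hi
        rcases hi with rfl | rfl | h
        · rw [v2]; exact hx
        · rw [v4]; exact hx'
        · exact absurd h h1
      rw [hr3 i h1 h2]; exact hroot _ h2

end Cfsg.Agent.Lib.TensorSympMax.Double
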