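import Cfsg.Agent.Lib.TensorSympMax.BlockTo
import Cfsg.Agent.Lib.TensorSympMax.Double

/-!
The coefficients of the elements fixing a block and its orthogonal: a radical element outside the stabiliser
gives a transvection at a pure tensor.
-/

set_option autoImplicit false
set_option linter.unusedSectionVars false
set_option linter.style.haveILetI false

namespace Cfsg.Agent.Lib.TensorSympMax.Coef

open Matrix Kronecker
open Cfsg.Agent.Lib.Subspaces.Transvection Cfsg.Agent.Lib.Subspaces.FormVec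
  Cfsg.Agent.Lib.TensorPowerMax.Basic Cfsg.Agent.Lib.TensorSympMax.Basic Cfsg.Agent.Lib.TensorSympMax.Quad
  Cfsg.Agent.Lib.TensorSympMax.BlockTo Cfsg.Agent.Lib.TensorSympMax.Atoms Cfsg.Agent.Lib.TensorSympMax.Double

variable {ι : Type} [Fintype ι] [DecidableEq ι] {k : ℕ} {F : Type*} [Field F]

local notation "A1" => Matrix (Fin k) (Fin k) F
local notation "Big" => Matrix (ι → Fin k) (ι → Fin k) F
local notation "GG" => GL (ι → Fin k) F
local notation "W1" => Fin k → F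

/-- The element `1 + ι A π` of a block is in the group. -/
def InP (f : (Fin k → F) → (Fin k → F) → F) (M : Subgroup (GL (ι → Fin k) F)) (j : ι) (w : Fin k → F)
    (A : Matrix ({l // l ≠ j} → Fin k) ({l // l ≠ j} → Fin k) F) : Prop :=
  ∃ x ∈ M, ∀ z, (x : Matrix (ι → Fin k) (ι → Fin k) F) *ᵥ z = z + ins j w (A *ᵥ ctr j (formVec f w) z)

/-- Adjoints for the form of the other factors. -/
def Adj (f : (Fin k → F) → (Fin k → F) → F) {κ : Type} [Fintype κ] [DecidableEq κ]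
    (A A' : Matrix (κ → Fin k) (κ → Fin k) F) : Prop :=
  ∀ u u', Bt f (A *ᵥ u) u' = Bt f u (A' *ᵥ u')

/-- The radical element of the pair `w, s` with coefficient `A` is in the group. -/
def InR (f : (Fin k → F) → (Fin k → F) → F) (M : Subgroup (GL (ι → Fin k) F)) (j : ι) (w s : Fin k → F)
    (A : Matrix ({l // l ≠ j} → Fin k) ({l // l ≠ j} → Fin k) F) : Prop :=
  ∃ x ∈ M, ∃ A' D, Adj f A A' ∧ ∀ z, (x : Matrix (ι → Fin k) (ι → Fin k) F) *ᵥ z =
    z + ins j w (A *ᵥ ctr j (formVec f s) z) + ins j s (A' *ᵥ ctr j (formVec f w) z) +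
      ins j w (D *ᵥ ctr j (formVec f w) z)

section Adjoints

variable {f : (Fin k → F) → (Fin k → F) → F} (hf : Cfsg.Geo.IsSymplecticForm f)
include hf

theorem nondeg_left {x y : (ι → Fin k) → F} (h : ∀ u, Bt f x u = Bt f y u) : x = y := by
  refine sub_eq_zero.1 (Bt_nondeg hf fun u => ?_)
  rw [Bt_swap hf, sub_eq_add_neg, ← neg_one_smul F y, Bt_add_left, Bt_smul_left, h, neg_one_mul, add_neg_cancel,
    mul_zero]

theorem Adj.unique {A A' A'' : Big} (h : Adj f A A') (h' : Adj f A A'') : A' = A'' :=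
  Matrix.mulVec_injective (funext fun y => by
    refine sub_eq_zero.1 (Bt_nondeg hf fun x => ?_)
    rw [sub_eq_add_neg, ← neg_one_smul F (A'' *ᵥ y), Bt_add_right, Bt_smul_right, ← h, ← h', neg_one_mul,
      add_neg_cancel])

theorem Adj.conj {A A' : Big} (h : Adj f A A') {g : GG}
    (hg : ∀ x y, Bt f ((g : Big) *ᵥ x) ((g : Big) *ᵥ y) = Bt f x y) :
    Adj f ((g : Big) * A * ((g⁻¹ : GG) : Big)) ((g : Big) * A' * ((g⁻¹ : GG) : Big)) := fun u u' => by
  rw [← mulVec_mulVec, ← mulVec_mulVec, ← mulVec_mulVec, ← mulVec_mulVec]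
  conv_lhs => arg 3; rw [← gl_mulVec_inv g u']
  conv_rhs => arg 2; rw [← gl_mulVec_inv g u]
  rw [hg, hg, h]

omit hf in
theorem Adj.add {A A' B B' : Big} (h : Adj f A A') (h' : Adj f B B') : Adj f (A + B) (A' + B') := fun u u' => by
  rw [add_mulVec, add_mulVec, Bt_add_left, Bt_add_right, h, h']

omit hf in
theorem Adj.smul {A A' : Big} (h : Adj f A A') (c : F) : Adj f (c • A) (c • A') := fun u u' => by
  rw [smul_mulVec, smul_mulVec, Bt_smul_left, Bt_smul_right, h]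

theorem exists_adjoint [Finite F] (A : Big) : ∃ A', Adj f A A' := by
  have hdet : IsUnit (pt (fun _ : ι => Cfsg.Geo.gramMatrix f)) := by
    rw [← Matrix.mulVec_injective_iff_isUnit]
    intro a b hab
    refine sub_eq_zero.1 (Bt_nondeg hf fun x => ?_)
    rw [Bt, mulVec_sub, sub_eq_zero.2 hab, dotProduct_zero]
  obtain ⟨G, hG⟩ := hdet
  refine ⟨((G⁻¹ : GL (ι → Fin k) F) : Big) * Aᵀ * pt (fun _ : ι => Cfsg.Geo.gramMatrix f), fun u u' => ?_⟩
  show (A *ᵥ u) ⬝ᵥ (_ *ᵥ u') = u ⬝ᵥ (_ *ᵥ (_ *ᵥ u'))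
  rw [mulVec_mulVec, ← hG, ← mul_assoc, ← mul_assoc, ← Units.val_mul, mul_inv_cancel, Units.val_one, one_mul,
    ← mulVec_mulVec, ← vecMul_transpose A u, dotProduct_mulVec, dotProduct_mulVec, dotProduct_mulVec]

theorem adj_pt {a : ι → A1} {e : ι → F} (h : ∀ i x y, f (a i *ᵥ x) y = e i * f x (a i *ᵥ y)) :
    Adj f (pt a) ((∏ i, e i) • pt a) := by
  have hG : ∀ i, (a i)ᵀ * Cfsg.Geo.gramMatrix f = e i • (Cfsg.Geo.gramMatrix f * a i) := fun i => by
    ext p q
    have h1 := h i (Pi.single p 1) (Pi.single q 1)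
    rw [← gram_form hf, ← gram_form hf] at h1
    simp only [mulVec_single_one, single_dotProduct, one_mul] at h1
    simp only [Matrix.smul_apply, smul_eq_mul, Matrix.mul_apply, dotProduct, mulVec, Matrix.transpose_apply,
      Matrix.col_apply] at h1 ⊢
    exact h1
  have hTr : (pt a)ᵀ = pt fun i => (a i)ᵀ := by ext p q; simp [pt_apply]
  intro u u'
  rw [smul_mulVec, Bt_smul_right]
  show (pt a *ᵥ u) ⬝ᵥ (_ *ᵥ u') = _ * (u ⬝ᵥ (_ *ᵥ (pt a *ᵥ u')))
  rw [← vecMul_transpose (pt a) u, ← dotProduct_mulVec, mulVec_mulVec, hTr, pt_mul, mulVec_mulVec, pt_mul,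
    show (fun i => (a i)ᵀ) * (fun _ : ι => Cfsg.Geo.gramMatrix f) =
      fun i => e i • (Cfsg.Geo.gramMatrix f * a i) from funext hG, pt_smul_family, smul_mulVec, dotProduct_smul,
    smul_eq_mul]
  rfl

end Adjoints

variable {f : (Fin k → F) → (Fin k → F) → F} {M : Subgroup (GL (ι → Fin k) F)} (S : OddSetting f M) {j : ι}
include S

theorem pi_ins (a b : W1) (u : ({l // l ≠ j} → Fin k) → F) :
    ctr j (formVec f a) (ins j b u) = f b a • u := by rw [ctr_ins, dot S.hf]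

theorem pi_add (a b : W1) (z : (ι → Fin k) → F) :
    ctr j (formVec f (a + b)) z = ctr j (formVec f a) z + ctr j (formVec f b) z := by
  rw [show formVec f (a + b) = formVec f a + formVec f b from funext fun _ => S.hf.bilinear.add_right _ _ _,
    ctr_add_vec]

theorem pi_smul (c : F) (a : W1) (z : (ι → Fin k) → F) :
    ctr j (formVec f (c • a)) z = c • ctr j (formVec f a) z := by
  rw [show formVec f (c • a) = c • formVec f a from funext fun _ => S.hf.bilinear.smul_right _ _ _, ctr_smul_vec]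

/-- The transformation of the contractions by a product isometry. -/
theorem pi_move {g : GG} (hg : g ∈ M) {n : W1 → W1}
    {C : Matrix ({l // l ≠ j} → Fin k) ({l // l ≠ j} → Fin k) F}
    (hC : ∀ x y, Bt f (C *ᵥ x) (C *ᵥ y) = Bt f x y) (hgi : ∀ z u, (g : Big) *ᵥ ins j z u = ins j (n z) (C *ᵥ u))
    (a : W1) (z : (ι → Fin k) → F) :
    ctr j (formVec f (n a)) ((g : Big) *ᵥ z) = C *ᵥ ctr j (formVec f a) z := by
  have hunit : Function.Surjective fun u => C *ᵥ u :=
    (LinearMap.injective_iff_surjective (f := Matrix.mulVecLin C)).1 fun u u' h => by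
    refine nondeg_left S.hf fun y => ?_
    rw [← hC, show C *ᵥ u = C *ᵥ u' from h, hC]
  refine nondeg_left S.hf fun y => ?_
  obtain ⟨u, rfl⟩ := hunit y
  show Bt f _ (C *ᵥ u) = Bt f _ (C *ᵥ u)
  rw [← Bt_ins_right S.hf, ← hgi, S.iso g hg, Bt_ins_right S.hf, hC]

theorem InP.move_vec [Finite F] {w w' : W1} (hw : w ≠ 0) (hw' : w' ≠ 0)
    {A : Matrix ({l // l ≠ j} → Fin k) ({l // l ≠ j} → Fin k) F} (h : InP f M j w A) : InP f M j w' A := by
  obtain ⟨b, hb, hbw⟩ := exists_move S.hf hw hw'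
  obtain ⟨x, hx, hxA⟩ := h
  set g : GG := oneGL j b
  have hgi : ∀ z u, (g : Big) *ᵥ ins j z u = ins j ((b : A1) *ᵥ z) ((1 : Matrix _ _ F) *ᵥ u) := fun z u => by
    rw [coe_oneGL, TensorPowerMax.Roots.oneM_mulVec_ins, one_mulVec]
  refine ⟨g * x * g⁻¹, M.mul_mem (M.mul_mem (S.one j b hb) hx) (M.inv_mem (S.one j b hb)), fun z => ?_⟩
  have hm := pi_move S (S.one j b hb) (n := fun z => (b : A1) *ᵥ z) (C := 1) (fun x y => by simp) hgi w
    (((g⁻¹ : GG) : Big) *ᵥ z)
  rw [gl_mulVec_inv, one_mulVec, hbw] at hm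
  rw [gl_mul_mulVec, gl_mul_mulVec, hxA, mulVec_add, gl_mulVec_inv, hgi, hbw, one_mulVec, ← hm]

/-- The coefficients form a subspace. -/
def coefP [Finite F] {w : W1} (hw : w ≠ 0) :
    Submodule F (Matrix ({l // l ≠ j} → Fin k) ({l // l ≠ j} → Fin k) F) where
  carrier := {A | InP f M j w A}
  zero_mem' := ⟨1, M.one_mem, fun z => by simp⟩
  add_mem' := by
    rintro A B ⟨x, hx, hA⟩ ⟨y, hy, hB⟩
    refine ⟨x * y, M.mul_mem hx hy, fun z => ?_⟩
    rw [gl_mul_mulVec, hA, hB, map_add, pi_ins S, S.hf.alternating, zero_smul, add_zero, add_mulVec, map_add]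
    abel
  smul_mem' := by
    intro c A hA
    have hsq : ∀ a : F, InP f M j w ((a * a) • A) := fun a => by
      rcases eq_or_ne a 0 with rfl | ha
      · exact ⟨1, M.one_mem, fun z => by simp⟩
      obtain ⟨x, hx, hxA⟩ := InP.move_vec S hw (smul_ne_zero ha hw) hA
      refine ⟨x, hx, fun z => ?_⟩
      rw [hxA, pi_smul S, ins_smul, ← map_smul, mulVec_smul, smul_mulVec, smul_smul]
    obtain ⟨x, hx, hxA⟩ := hsq ((c + 1) / 2)
    obtain ⟨y, hy, hyA⟩ := hsq ((c - 1) / 2)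
    refine ⟨x * y⁻¹, M.mul_mem hx (M.inv_mem hy), fun z => ?_⟩
    obtain ⟨z', rfl⟩ : ∃ z', (y : Big) *ᵥ z' = z := ⟨_, gl_mulVec_inv y z⟩
    have h2 := S.two
    rw [gl_mul_mulVec, gl_inv_mulVec, hxA, hyA, map_add, pi_ins S, S.hf.alternating, zero_smul, add_zero]
    simp only [smul_mulVec, map_smul]
    rw [add_assoc, ← add_smul]
    congr 2
    field_simp
    ring

theorem mem_coefP [Finite F] {w : W1} (hw : w ≠ 0)
    {A : Matrix ({l // l ≠ j} → Fin k) ({l // l ≠ j} → Fin k) F} : A ∈ coefP S (j := j) hw ↔ InP f M j w A :=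
  Iff.rfl

theorem one_inP (w : W1) : InP f M j w 1 :=
  ⟨rs f j w 1, S.rs_mem j w 1, fun z => by rw [rs_mulVec S.hf, one_smul, one_mulVec]⟩

/-- The radical coefficients form a group. -/
def coefR {w s : W1} (hsw : f s w = 0) :
    AddSubgroup (Matrix ({l // l ≠ j} → Fin k) ({l // l ≠ j} → Fin k) F) where
  carrier := {A | InR f M j w s A}
  zero_mem' := ⟨1, M.one_mem, 0, 0, fun u u' => by simp [Bt], fun z => by simp⟩
  add_mem' := by
    rintro A B ⟨x, hx, A', D, hAA, hA⟩ ⟨y, hy, B', E, hBB, hB⟩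
    refine ⟨x * y, M.mul_mem hx hy, A' + B', D + E, hAA.add hBB, fun z => ?_⟩
    have hws : f w s = 0 := by rw [S.hf.skew, hsw, neg_zero]
    rw [gl_mul_mulVec, hA, hB]
    simp only [map_add, pi_ins S, S.hf.alternating, hsw, hws, zero_smul, add_zero, add_mulVec]
    abel
  neg_mem' := by
    rintro A ⟨x, hx, A', D, hAA, hA⟩
    refine ⟨x⁻¹, M.inv_mem hx, -A', -D, by simpa using hAA.smul (-1 : F), fun z => ?_⟩
    refine gl_mulVec_injective x (show (x : Big) *ᵥ _ = (x : Big) *ᵥ _ from ?_)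
    have hws : f w s = 0 := by rw [S.hf.skew, hsw, neg_zero]
    rw [gl_mulVec_inv, hA]
    simp only [map_add, pi_ins S, S.hf.alternating, hsw, hws, zero_smul, add_zero, neg_mulVec, map_neg]
    abel

theorem proj_elim {C : GL ({l // l ≠ j} → Fin k) F} (hC : C ∈ proj M j) :
    ∃ g ∈ M, ∀ z u, (g : Big) *ᵥ ins j z u = ins j z (C.val *ᵥ u) := by
  obtain ⟨g, hg, hgC⟩ := (hC : TensorPowerMax.Side.kronGL C 1 ∈ TensorPowerMax.Split.Mj M j)
  refine ⟨g, hg, fun z u => ?_⟩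
  rw [mulVec_ins_of_kron (show spU j g = TensorPowerMax.Side.kronGL C (1 : GL (Fin k) F) from hgC), Units.val_one,
    one_mulVec]

variable (h3 : 3 ≤ Fintype.card ι)
include h3

theorem conjInv_P [Finite F] {w : W1} (hw : w ≠ 0) :
    ConjInv (proj M j) (coefP S (j := j) hw : Set (Matrix ({l // l ≠ j} → Fin k) ({l // l ≠ j} → Fin k) F)) := by
  rintro C hC A ⟨x, hx, hxA⟩
  obtain ⟨g, hg, hgi⟩ := proj_elim S hC
  refine ⟨g * x * g⁻¹, M.mul_mem (M.mul_mem hg hx) (M.inv_mem hg), fun z => ?_⟩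
  have hm := pi_move S hg (n := fun z => z) ((proj_setting S.toSetting j h3).iso C hC) hgi w (((g⁻¹ : GG) : Big) *ᵥ z)
  rw [gl_mulVec_inv] at hm
  rw [gl_mul_mulVec, gl_mul_mulVec, hxA, mulVec_add, gl_mulVec_inv, hgi, hm, ← mulVec_mulVec, ← mulVec_mulVec,
    gl_inv_mulVec]

theorem conjInv_R {w s : W1} (hsw : f s w = 0) :
    ConjInv (proj M j) (coefR S (j := j) hsw : Set (Matrix ({l // l ≠ j} → Fin k) ({l // l ≠ j} → Fin k) F)) := by
  rintro C hC A ⟨x, hx, A', D, hAA, hxA⟩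
  obtain ⟨g, hg, hgi⟩ := proj_elim S hC
  have hiso := (proj_setting S.toSetting j h3).iso C hC
  refine ⟨g * x * g⁻¹, M.mul_mem (M.mul_mem hg hx) (M.inv_mem hg), C.val * A' * (C⁻¹).val,
    C.val * D * (C⁻¹).val, hAA.conj S.hf hiso, fun z => ?_⟩
  have hm : ∀ a, ctr j (formVec f a) z = C.val *ᵥ ctr j (formVec f a) (((g⁻¹ : GG) : Big) *ᵥ z) := fun a => by
    have := pi_move S hg (n := fun z => z) hiso hgi a (((g⁻¹ : GG) : Big) *ᵥ z)
    rwa [gl_mulVec_inv] at this
  rw [gl_mul_mulVec, gl_mul_mulVec, hxA]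
  simp only [mulVec_add, gl_mulVec_inv, hgi, hm w, hm s, ← mulVec_mulVec, gl_inv_mulVec]

omit h3 in
/-- The commutator of two radical elements. -/
theorem el_of_R [Finite F] {w s t : W1} (hw : w ≠ 0) (hsw : f s w = 0) (htw : f t w = 0)
    {A C A' C' : Matrix ({l // l ≠ j} → Fin k) ({l // l ≠ j} → Fin k) F} (hA : InR f M j w s A)
    (hC : InR f M j w t C) (hAA : Adj f A A') (hCC : Adj f C C') :
    f t s • (A * C' + C * A') ∈ coefP S (j := j) hw := by
  obtain ⟨x, hx, A'', D, hAA', hxA⟩ := hA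
  obtain ⟨y, hy, C'', E, hCC', hyC⟩ := hC
  obtain rfl := hAA.unique S.hf hAA'
  obtain rfl := hCC.unique S.hf hCC'
  refine ⟨x * y * (y * x)⁻¹, M.mul_mem (M.mul_mem hx hy) (M.inv_mem (M.mul_mem hy hx)), fun z => ?_⟩
  obtain ⟨z', rfl⟩ : ∃ z', ((y * x : GG) : Big) *ᵥ z' = z := ⟨_, gl_mulVec_inv _ z⟩
  have hws : f w s = 0 := by rw [S.hf.skew, hsw, neg_zero]
  have hwt : f w t = 0 := by rw [S.hf.skew, htw, neg_zero]
  rw [gl_mul_mulVec, gl_inv_mulVec, gl_mul_mulVec, gl_mul_mulVec, hxA, hyC, hyC, hxA]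
  simp only [map_add, pi_ins S, S.hf.alternating, hsw, htw, hws, hwt, zero_smul, add_zero, mulVec_add,
    mulVec_smul, smul_mulVec, add_mulVec, ← mulVec_mulVec, map_smul, S.hf.skew s t, mulVec_zero, map_zero,
    smul_zero, add_zero]
  module

omit h3 in
/-- Conjugation by an element with square zero displacement. -/
theorem jordan [Finite F] {w : W1} (hw : w ≠ 0) {X A : Matrix ({l // l ≠ j} → Fin k) ({l // l ≠ j} → Fin k) F}
    (hX : X ∈ coefP S (j := j) hw) (hA : A ∈ coefP S (j := j) hw) (hXX : X * X = 0) :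
    X * A + A * X ∈ coefP S (j := j) hw := by
  obtain ⟨w', hw'⟩ := exists_one S.hf hw
  have hw'0 : w' ≠ 0 := fun e => by rw [e, zero_left S.hf] at hw'; exact zero_ne_one hw'
  have hneg : f w w' = -1 := by rw [S.hf.skew, hw']
  have key : ∀ Y Z : Matrix ({l // l ≠ j} → Fin k) ({l // l ≠ j} → Fin k) F,
      Y ∈ coefP S (j := j) hw → Z ∈ coefP S (j := j) hw → Y * Z = 1 → Z * Y = 1 →
      ∀ B ∈ coefP S (j := j) hw, Z * B * Z ∈ coefP S (j := j) hw := by
    intro Y Z hY hZ hYZ hZY B hB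
    obtain ⟨e, he, heY⟩ := hY
    obtain ⟨q, hq, hqZ⟩ := InP.move_vec S hw hw'0 hZ
    obtain ⟨b, hb, hbB⟩ := hB
    set h : GG := e * q * e
    have hh : h ∈ M := M.mul_mem (M.mul_mem he hq) he
    have hhw : ∀ u, (h : Big) *ᵥ ins j w u = ins j w' (-(Z *ᵥ u)) := fun u => by
      rw [gl_mul_mulVec, gl_mul_mulVec, heY (ins j w u), pi_ins S, S.hf.alternating, zero_smul, mulVec_zero,
        map_zero, add_zero, hqZ, pi_ins S, hneg, mulVec_smul, heY]
      simp only [map_add, pi_ins S, S.hf.alternating, hw', zero_smul, zero_add, one_smul, map_smul, mulVec_smul]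
      rw [mulVec_mulVec, hYZ, one_mulVec]
      rw [map_neg]
      module
    refine InP.move_vec S hw'0 hw ⟨h * b * h⁻¹, M.mul_mem (M.mul_mem hh hb) (M.inv_mem hh), fun z => ?_⟩
    have hpi : ctr j (formVec f w) (((h⁻¹ : GG) : Big) *ᵥ z) = -(Z *ᵥ ctr j (formVec f w') z) := by
      obtain ⟨Z', hZ'⟩ := exists_adjoint S.hf Z
      have hsym : Z' = Z := by
        refine Matrix.mulVec_injective (funext fun u' => ?_)
        refine sub_eq_zero.1 (Bt_nondeg S.hf fun u => ?_)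
        rw [sub_eq_add_neg, ← neg_one_smul F (Z *ᵥ u'), Bt_add_right, Bt_smul_right, ← hZ']
        obtain ⟨y0, hy0⟩ := exists_one S.hf hw'0
        have := S.iso q hq (ins j y0 u) (ins j y0 u')
        rw [hqZ, hqZ, pi_ins S, pi_ins S, hy0, one_smul, one_smul, Bt_add_left, Bt_add_right, Bt_add_right,
          Bt_ins_ins S.hf, Bt_ins_ins S.hf, Bt_ins_ins S.hf, Bt_ins_ins S.hf, S.hf.alternating, S.hf.alternating,
          S.hf.skew w' y0, hy0] at this
        linear_combination -this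
      rw [hsym] at hZ'
      refine nondeg_left S.hf fun u => ?_
      rw [← neg_one_smul F (Z *ᵥ _), Bt_smul_left, hZ', ← Bt_smul_right, ← Bt_ins_right S.hf, ← Bt_ins_right S.hf,
        neg_one_smul, ← hhw, ← S.iso h hh, gl_mulVec_inv]
    rw [gl_mul_mulVec, gl_mul_mulVec, hbB, mulVec_add, gl_mulVec_inv, hhw, hpi, ← mulVec_mulVec, ← mulVec_mulVec,
      mulVec_neg, mulVec_neg, neg_neg]
  have h1 : (1 : Matrix ({l // l ≠ j} → Fin k) ({l // l ≠ j} → Fin k) F) ∈ coefP S (j := j) hw := one_inP S w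
  have hpm : ∀ (c : F), (1 + c • X) ∈ coefP S (j := j) hw := fun c =>
    Submodule.add_mem _ h1 (Submodule.smul_mem _ c hX)
  have hinv : ∀ c : F, (1 + c • X) * (1 + (-c) • X) = 1 := fun c => by
    rw [add_mul, one_mul, mul_add, mul_one, smul_mul_smul_comm, hXX, smul_zero, add_zero, add_assoc, ← add_smul,
      neg_add_cancel, zero_smul, add_zero]
  have e1 := key (1 + (-1 : F) • X) (1 + (1 : F) • X) (hpm _) (hpm _) (by simpa using hinv (-1))
    (hinv 1) A hA
  have e2 := key (1 + (1 : F) • X) (1 + (-1 : F) • X) (hpm _) (hpm _) (hinv 1) (by simpa using hinv (-1)) A hA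
  have := Submodule.sub_mem _ e1 e2
  rw [show (1 + (1 : F) • X) * A * (1 + (1 : F) • X) - (1 + (-1 : F) • X) * A * (1 + (-1 : F) • X) =
    (2 : F) • (X * A + A * X) by simp only [one_smul, neg_one_smul, two_smul]; noncomm_ring] at this
  exact ((coefP S hw).smul_mem_iff S.two).1 this

end Cfsg.Agent.Lib.TensorSympMax.Coef
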