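import Cfsg.Agent.Lib.TensorSympMax.Scalar

/-!
The operator `π N ι` is a non-zero scalar.
-/

set_option autoImplicit false
set_option linter.unusedSectionVars false
set_option linter.style.haveILetI false

namespace Cfsg.Agent.Lib.TensorSympMax.Eigen

open Matrix Polynomial
open Cfsg.Agent.Lib.Subspaces.Transvection Cfsg.Agent.Lib.Subspaces.FormVec
  Cfsg.Agent.Lib.TensorPowerMax.Basic Cfsg.Agent.Lib.TensorSympMax.Basic Cfsg.Agent.Lib.TensorSympMax.Quad
  Cfsg.Agent.Lib.TensorSympMax.BlockTo Cfsg.Agent.Lib.TensorSympMax.TwoRoot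
  Cfsg.Agent.Lib.TensorSympMax.Centraliser Cfsg.Agent.Lib.TensorSympMax.Root

variable {ι : Type} [Fintype ι] [DecidableEq ι] {k : ℕ} {F : Type*} [Field F]

local notation "Big" => Matrix (ι → Fin k) (ι → Fin k) F
local notation "GG" => GL (ι → Fin k) F
local notation "W1" => Fin k → F
local notation "SL2P" => Matrix.SpecialLinearGroup (Fin 2) F[X]

variable {f : (Fin k → F) → (Fin k → F) → F} {M : Subgroup (GL (ι → Fin k) F)} {j : ι} {w : Fin k → F}
  {N : Matrix (ι → Fin k) (ι → Fin k) F} {T : F → GL (ι → Fin k) F}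

theorem vec_add (u v : Fin 2 → ({l // l ≠ j} → Fin k) → F) :
    TwoRoot.vec j w N (u + v) = TwoRoot.vec j w N u + TwoRoot.vec j w N v := by
  simp [TwoRoot.vec, mulVec_add]; abel

theorem act_add {U : Type*} [AddCommGroup U] [Module F U] (B : Module.End F U)
    (P Q : Matrix (Fin 2) (Fin 2) F[X]) (u : Fin 2 → U) : act B (P + Q) u = act B P u + act B Q u := by
  funext a; simp [act]; abel

/-- An element whose matrix is congruent to one modulo `q` is unipotent of the order of `q`'s. -/
theorem sub_one_pow {y : GG} {P : SL2P} (hP : (y, P) ∈ Rel f j w N) {q : F[X]}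
    (hd : ∀ a b, q ∣ ((P : Matrix (Fin 2) (Fin 2) F[X]) - 1) a b) (n : ℕ)
    (hq : aeval (Bop f j w N) (q ^ n) = 0) (u : Fin 2 → ({l // l ≠ j} → Fin k) → F) :
    ((y : Big) - 1) ^ n *ᵥ TwoRoot.vec j w N u = 0 := by
  choose Q hQ using hd
  have hPQ : (P : Matrix (Fin 2) (Fin 2) F[X]) - 1 = q • Matrix.of Q := by
    ext a b : 1; simp [hQ]
  have hstep : ∀ v, ((y : Big) - 1) *ᵥ TwoRoot.vec j w N v =
      TwoRoot.vec j w N (act (Bop f j w N) ((P : Matrix (Fin 2) (Fin 2) F[X]) - 1) v) := fun v => by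
    rw [sub_mulVec, one_mulVec, hP v, sub_eq_iff_eq_add, ← vec_add]
    congr 1
    conv_rhs => arg 2; rw [← act_one (Bop f j w N) v]
    rw [← act_add, sub_add_cancel]
  have hn : ∀ m v, ((y : Big) - 1) ^ m *ᵥ TwoRoot.vec j w N v = TwoRoot.vec j w N
      (act (Bop f j w N) (((P : Matrix (Fin 2) (Fin 2) F[X]) - 1) ^ m) v) := by
    intro m
    induction m with
    | zero => intro v; simp [act_one]
    | succ m ih => intro v; rw [pow_succ, ← mulVec_mulVec, hstep, ih, pow_succ, act_mul]
  rw [hn, hPQ, _root_.smul_pow]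
  have h0 : act (Bop f j w N) (q ^ n • Matrix.of Q ^ n) u = 0 := by
    funext a
    simp [act, hq]
  rw [h0]
  simp [TwoRoot.vec]

variable [Finite F]

/-- The operator `π N ι` is a non-zero scalar. -/
theorem scalar (D : Centraliser.Pair f M j w N T) (hG : ¬ Good f M) (hIH : Lower f ι)
    (hback : T 1 ∉ stab ι k F)
    (hrange : Module.finrank F (LinearMap.range (Matrix.mulVecLin N)) ≤
      Module.finrank F (({l // l ≠ j} → Fin k) → F)) :
    ∃ b : F, b ≠ 0 ∧ ∀ u, Bop f j w N u = b • u := by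
  classical
  obtain ⟨p, hchar⟩ := CharP.exists F
  haveI := hchar
  haveI hp : Fact p.Prime := ⟨CharP.char_is_prime F p⟩
  set B := Bop f j w N
  have hf := D.S.hf
  obtain ⟨μ, hμ, hdvd, hX⟩ := Root.Pair.exists_factor D (Root.Pair.pow_ne_zero D hG hIH (p := p) hback)
  haveI : Fact (Irreducible μ) := ⟨hμ⟩
  obtain ⟨ρ, hρ⟩ := exists_rho hf D.hNN D.hT hμ hdvd hX
  have R : Rep f j w N T μ ρ := ⟨hdvd, hX, hρ⟩
  obtain ⟨b, hb⟩ := Scalar.root_mem R D hG (p := p) hrange
  have hb0 : b ≠ 0 := fun e => R.root_ne (by rw [hb, e, map_zero])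
  refine ⟨b, hb0, ?_⟩
  have hpow := Scalar.pow_injective R D hG (p := p)
  have hinj : ∀ u, B u = 0 → u = 0 := fun u hu => hpow u (by
    haveI := D.S.rest_nonempty j
    obtain ⟨t, ht⟩ : ∃ t, Module.finrank F (({l // l ≠ j} → Fin k) → F) = t + 1 :=
      ⟨Module.finrank F (({l // l ≠ j} → Fin k) → F) - 1, by
        have : 0 < Module.finrank F (({l // l ≠ j} → Fin k) → F) := by
          rw [Module.finrank_fintype_fun_eq_card]; exact Fintype.card_pos
        omega⟩
    rw [ht, pow_succ, Module.End.mul_apply, show (Bop f j w N) u = 0 from hu, map_zero])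
  set a := -b⁻¹
  set ω := gR f j w T a * gT f j w T 1 * gR f j w T a with hω
  set z := ω * gR f j w T 1 * (gT f j w T (-b) * ω)⁻¹ with hz
  have hz1 : z ∈ ρ.ker := by
    rw [MonoidHom.mem_ker, hz, map_mul, map_inv, mul_inv_eq_one]
    refine Subtype.ext ?_
    simp only [hω, map_mul, Matrix.SpecialLinearGroup.coe_mul, R.rho_R D, R.rho_T D, hb]
    have hab : algebraMap F (AdjoinRoot μ) a * algebraMap F (AdjoinRoot μ) b = -1 := by
      rw [← map_mul, neg_mul, inv_mul_cancel₀ hb0, map_neg, map_one]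
    ext p q
    fin_cases p <;> fin_cases q <;>
      simp [Matrix.mul_apply, Fin.sum_univ_two, hab, -AdjoinRoot.algebraMap_eq]
  have hker : ρ.ker = ⊥ := by
    rcases D.S.hk with hk | ⟨-, hq5, -⟩
    · exact Scalar.ker_four R D hG (p := p) hrange hk
    have hall : ∀ μ' : F[X], Irreducible μ' → μ' ∣ minpoly F B → μ' ∣ X - C b := by
      intro μ' hμ' hd'
      haveI : Fact (Irreducible μ') := ⟨hμ'⟩
      have hX' : ¬ μ' ∣ X := by
        intro hx
        have hX0 : X ∣ minpoly F B := (hμ'.associated_of_dvd irreducible_X hx).symm.dvd.trans hd'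
        obtain ⟨q, hq⟩ := hX0
        have hB0 : aeval B q = 0 := LinearMap.ext fun u => hinj _ (by
          have := minpoly.aeval F B
          rw [hq, map_mul, aeval_X] at this
          rw [← Module.End.mul_apply, this, LinearMap.zero_apply])
        have hd := minpoly.dvd F B hB0
        rw [hq] at hd
        have hq0 : q ≠ 0 := fun e => minpoly.ne_zero (Algebra.IsIntegral.isIntegral (R := F) B) (by
          rw [hq, e, mul_zero])
        have := Polynomial.natDegree_le_of_dvd hd hq0
        rw [natDegree_mul X_ne_zero hq0, natDegree_X] at this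
        omega
      obtain ⟨ρ', hρ'⟩ := exists_rho hf D.hNN D.hT hμ' hd' hX'
      have R' : Rep f j w N T μ' ρ' := ⟨hd', hX', hρ'⟩
      obtain ⟨e, he, hez⟩ := R'.all_trivial_two D hG (p := p) hq5 (H := ρ.ker) inferInstance
        (Scalar.ker_le R D hG (p := p) hrange) (Scalar.ker_no_root R D) hz1
      have hmul : ρ' (ω * gR f j w T 1) = ρ' z * ρ' (gT f j w T (-b) * ω) := by
        rw [← map_mul, hz, inv_mul_cancel_right]
      have hm := congrArg Subtype.val hmul
      rw [Matrix.SpecialLinearGroup.coe_mul, hez] at hm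
      simp only [hω, map_mul, Matrix.SpecialLinearGroup.coe_mul, R'.rho_R D, R'.rho_T D, smul_mul_assoc,
        one_mul] at hm
      have e00 := congrFun (congrFun hm 0) 0
      have e10 := congrFun (congrFun hm 1) 0
      simp [Matrix.mul_apply, Fin.sum_univ_two, -AdjoinRoot.algebraMap_eq] at e00 e10
      simp only [Algebra.smul_def] at e10
      have hbb : algebraMap F (AdjoinRoot μ') b ≠ 0 := by simpa using hb0
      have h0 : (1 : AdjoinRoot μ') + algebraMap F (AdjoinRoot μ') a * AdjoinRoot.root μ' = 0 := by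
        rcases mul_self_eq_one_iff.1 he with rfl | rfl
        · refine (mul_eq_zero.1 (?_ : algebraMap F (AdjoinRoot μ') b * _ = 0)).resolve_left hbb
          linear_combination e10
        · have h2 : (2 : AdjoinRoot μ') ≠ 0 := Scalar.two_ne D
          refine (mul_eq_zero.1 (?_ : (2 : AdjoinRoot μ') * _ = 0)).resolve_left h2
          linear_combination e00
      refine AdjoinRoot.mk_eq_zero.1 ?_
      rw [map_sub, AdjoinRoot.mk_X, AdjoinRoot.mk_C, ← AdjoinRoot.algebraMap_eq, sub_eq_zero]
      have hab : algebraMap F (AdjoinRoot μ') a * algebraMap F (AdjoinRoot μ') b = -1 := by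
        rw [← map_mul, neg_mul, inv_mul_cancel₀ hb0, map_neg, map_one]
      linear_combination (AdjoinRoot.root μ' * hab) - algebraMap F (AdjoinRoot μ') b * h0
    obtain ⟨n, hn⟩ := Root.eq_pow_linear (minpoly.monic (Algebra.IsIntegral.isIntegral (R := F) B)) hall
    have hq0 : aeval B ((X - C b) ^ n) = 0 := by rw [← hn]; exact minpoly.aeval F B
    have hsurj : Function.Surjective B :=
      LinearMap.injective_iff_surjective.1 ((injective_iff_map_eq_zero B).2 hinj)
    refine (Subgroup.eq_bot_iff_forall _).2 fun y hy => ?_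
    obtain ⟨⟨y', P⟩, hP, hyy⟩ := gp_le_rel hf D.hNN D.hT y.2
    obtain rfl : y' = (y : GG) := hyy
    have hd : ∀ c e, (X - C b) ∣ ((P : Matrix (Fin 2) (Fin 2) F[X]) - 1) c e := fun c e => by
      refine ((hμ.associated_of_dvd (irreducible_X_sub_C b) (hall μ hμ hdvd)).symm.dvd).trans ?_
      rw [← AdjoinRoot.mk_eq_zero, Matrix.sub_apply, map_sub, sub_eq_zero]
      have h1 := congrArg (fun x : Matrix.SpecialLinearGroup (Fin 2) (AdjoinRoot μ) =>
        (x : Matrix (Fin 2) (Fin 2) (AdjoinRoot μ)) c e) ((hρ y P hP).symm.trans (MonoidHom.mem_ker.1 hy))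
      simp only [Matrix.SpecialLinearGroup.map_apply_coe, RingHom.mapMatrix_apply, Matrix.map_apply,
        Matrix.SpecialLinearGroup.coe_one] at h1
      rw [h1]
      simp [Matrix.one_apply, apply_ite (AdjoinRoot.mk μ)]
    have hfix := Scalar.fix_all R D hG (p := p) hrange y
    have hnil : ∀ x, (((y : GG) : Big) - 1) ^ (n + 1) *ᵥ x = 0 := by
      intro x
      obtain ⟨u1, hu1⟩ := hsurj (ctr j (formVec f w) x)
      obtain ⟨u0, hu0⟩ := hsurj (ctr j (formVec f w) (N *ᵥ x))
      have hK : x - TwoRoot.vec j w N ![u0, u1] ∈ K0 f j w N (Module.finrank F (({l // l ≠ j} → Fin k) → F)) := by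
        refine mem_K0.2 ⟨?_, ?_⟩
        · rw [map_sub, TwoRoot.vec, map_add, ctr_ins, formVec_self hf, zero_smul, zero_add]
          rw [show ctr j (formVec f w) (N *ᵥ ins j w (![u0, u1] 1)) = B u1 from rfl, hu1, sub_self, map_zero]
        · rw [mulVec_sub, map_sub, TwoRoot.vec, mulVec_add, mulVec_mulVec, D.hNN, zero_mulVec, add_zero,
            show ctr j (formVec f w) (N *ᵥ ins j w (![u0, u1] 0)) = B u0 from rfl, hu0, sub_self, map_zero]
      rw [← sub_add_cancel x (TwoRoot.vec j w N ![u0, u1]), mulVec_add, pow_succ, ← mulVec_mulVec, sub_mulVec,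
        one_mulVec, hfix _ hK, sub_self, mulVec_zero, zero_add, ← pow_succ]
      exact sub_one_pow hP hd (n + 1) (by rw [pow_succ, map_mul, hq0, zero_mul]) _
    have hpy : y ^ p ^ (n + 1) = 1 := Subtype.ext (gl_ext fun x => by
      obtain ⟨d, hd⟩ := Nat.exists_eq_add_of_le (Nat.lt_pow_self hp.out.one_lt (n := n + 1)).le
      rcases isEmpty_or_nonempty (ι → Fin k) with he | he
      · exact funext fun i => isEmptyElim i
      haveI : CharP Big p := Matrix.charP p
      rw [Subgroup.coe_pow, Units.val_pow_eq_pow_val, ← sub_eq_zero]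
      have h1 : (((y : GG) : Big) - 1) ^ p ^ (n + 1) *ᵥ x = 0 := by
        rw [hd, pow_add, ← mulVec_mulVec, hnil]
      rw [sub_pow_char_pow_of_commute _ _ (Commute.one_right _), one_pow, sub_mulVec] at h1
      simpa using h1)
    have hco : (p ^ (n + 1)).Coprime (Nat.card ρ.ker) :=
      Nat.Coprime.pow_left _ (hp.out.coprime_iff_not_dvd.2
        (R.prime_to D hG inferInstance (Scalar.ker_le R D hG (p := p) hrange) (Scalar.ker_no_root R D)))
    refine orderOf_eq_one_iff.1 (Nat.eq_one_of_dvd_coprimes hco (orderOf_dvd_of_pow_eq_one hpy) ?_)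
    exact Subgroup.orderOf_dvd_natCard _ hy
  have hz0 : ω * gR f j w T 1 = gT f j w T (-b) * ω := by
    rw [hker, Subgroup.mem_bot, hz, mul_inv_eq_one] at hz1
    exact hz1
  intro u
  have h1 := congrArg (fun g : Gp f j w T => ((g : GG) : Big) *ᵥ ins j w u) hz0
  have hι : ∀ v, ctr j (formVec f w) (ins j w v) = 0 := fun v => by rw [ctr_ins, formVec_self hf, zero_smul]
  simp only [hω, Subgroup.coe_mul, gl_mul_mulVec, gR, gT, rs_mulVec hf, T_mulVec D.hT, hι, map_zero, smul_zero,
    add_zero, one_smul, mulVec_add, mulVec_smul, map_add, map_smul, zero_add] at h1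
  have h2 := congrArg (ctr j (formVec f w)) h1
  simp only [map_add, map_smul, hι, smul_zero, zero_add, add_zero, mulVec_add, mulVec_smul, mulVec_mulVec, D.hNN,
    zero_mulVec] at h2
  rw [← sub_eq_zero]
  refine hinj _ ?_
  rw [map_sub, map_smul]
  show ctr j (formVec f w) (N *ᵥ ins j w (ctr j (formVec f w) (N *ᵥ ins j w u))) -
    b • ctr j (formVec f w) (N *ᵥ ins j w u) = 0
  linear_combination (norm := skip) (-1 : F) • h2
  simp only [a, smul_add, smul_smul, neg_mul, mul_neg, neg_neg]
  match_scalars <;> field_simp <;> ring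

end Cfsg.Agent.Lib.TensorSympMax.Eigen
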