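import Cfsg.Agent.Lib.TensorSympMax.BlockTo
import Cfsg.Agent.Lib.TensorFormMax.SylowArg
import Cfsg.Agent.Lib.UnitaryPowerMax.Near

/-!
Rigidity in characteristic two: a moved block is transversal to the orthogonal of every block, which is
incompatible with a central involution of two non-conjugate involutions.
-/

set_option autoImplicit false
set_option linter.unusedSectionVars false
set_option linter.style.haveILetI false

namespace Cfsg.Agent.Lib.TensorSympMax.Even

open Matrix
open Cfsg.Agent.Lib.Subspaces.Transvection Cfsg.Agent.Lib.Subspaces.FormVec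
  Cfsg.Agent.Lib.TensorPowerMax.Basic Cfsg.Agent.Lib.TensorSympMax.Basic Cfsg.Agent.Lib.TensorSympMax.Quad
  Cfsg.Agent.Lib.TensorSympMax.BlockTo

variable {ι : Type} [Fintype ι] [DecidableEq ι] {k : ℕ} {F : Type*} [Field F]

local notation "A1" => Matrix (Fin k) (Fin k) F
local notation "Big" => Matrix (ι → Fin k) (ι → Fin k) F
local notation "GG" => GL (ι → Fin k) F
local notation "W1" => Fin k → F
local notation "VV" => (ι → Fin k) → F

variable {f : (Fin k → F) → (Fin k → F) → F}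

/-- The elements moving every vector inside a subspace. -/
def mov (U : Submodule F ((ι → Fin k) → F)) : Subgroup (GL (ι → Fin k) F) where
  carrier := {x | ∀ z, (x : Big) *ᵥ z - z ∈ U}
  one_mem' := fun z => by simp
  mul_mem' := fun {x y} hx hy z => by
    rw [gl_mul_mulVec, ← sub_add_sub_cancel _ ((y : Big) *ᵥ z) z]
    exact U.add_mem (hx _) (hy z)
  inv_mem' := fun {x} hx z => by
    have := U.neg_mem (hx (((x⁻¹ : GG) : Big) *ᵥ z))
    rwa [gl_mulVec_inv, neg_sub] at this

/-- The elements fixing every vector of a set. -/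
def fixer (Z : Set ((ι → Fin k) → F)) : Subgroup (GL (ι → Fin k) F) where
  carrier := {x | ∀ z ∈ Z, (x : Big) *ᵥ z = z}
  one_mem' := fun z _ => by simp
  mul_mem' := fun {x y} hx hy z hz => by rw [gl_mul_mulVec, hy z hz, hx z hz]
  inv_mem' := fun {x} hx z hz => by conv_lhs => rw [← hx z hz, gl_inv_mulVec]

theorem rs_sq (hf : Cfsg.Geo.IsSymplecticForm f) (h2 : (2 : F) = 0) (j : ι) (w : W1) :
    rs f j w 1 * rs f j w 1 = (1 : GG) := gl_ext fun z => by
  rw [gl_mul_mulVec, Units.val_one, one_mulVec, rs_mulVec hf, rs_mulVec hf, map_add, map_smul, ctr_ins,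
    formVec_self hf, zero_smul, smul_zero, add_zero, one_smul, add_assoc, ← two_smul F, h2, zero_smul, add_zero]

/-- The contraction of a block at another factor lies in a block. -/
theorem ctr_mem_block {a j : ι} (h : a ≠ j) {u : W1} (hu : u ≠ 0) {z : VV} (hz : z ∈ block a u) (φ : W1) :
    ctr j φ z ∈ block (⟨a, h⟩ : {l // l ≠ j}) u := by
  obtain ⟨ψ, hψ⟩ := exists_dot_eq_one hu
  obtain ⟨p, rfl⟩ := hz
  have h1 : oneM a (vecMulVec u ψ) *ᵥ ins a u p = ins a u p := by rw [oneM_mulVec, ctr_ins, hψ, one_smul]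
  rw [← h1, ctr_kron (sp_oneM_of_ne h (vecMulVec u ψ)), oneM_mulVec]
  exact LinearMap.mem_range_self _ _

variable {M : Subgroup (GL (ι → Fin k) F)} [Finite F]
  (S : Setting f M) (h2 : (2 : F) = 0) (hk6 : 6 ≤ k) (hG : ¬ Good f M) (hIH : Lower f ι)
include S h2 hk6 hG hIH

/-- A root is conjugate into the stabiliser only from inside. -/
theorem mem_of_conj {g : GG} (hg : g ∈ M) {i : ι} {v : W1} (hv : v ≠ 0)
    (h : g * rs f i v 1 * g⁻¹ ∈ stab ι k F) : g ∈ stab ι k F := by
  haveI : Nonempty ι := ⟨i⟩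
  obtain ⟨j, w, hw, hm⟩ := maps_of_conj S.hf (Or.inl (by omega)) hv h
  exact mem_of_maps S hG hIH hg hv hw hm

/-- The Sylow argument for a moved block and a block. -/
theorem key {g : GG} (hg : g ∈ M) {i : ι} {v : W1} (hv : v ≠ 0) {j : ι} {w : W1} (hw : w ≠ 0) :
    ∃ (a : ι) (u : W1), u ≠ 0 ∧
      (∀ z ∈ block a u, ∃ x ∈ (block i v).map (Matrix.mulVecLin (g : Big)), z - x ∈ block j w) ∧
      ∀ x ∈ (block i v).map (Matrix.mulVecLin (g : Big)), ctr j (formVec f w) x = 0 → x ∈ block a u := by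
  have hf := S.hf
  haveI : Fact (Nat.Prime 2) := ⟨Nat.prime_two⟩
  set X := (block i v).map (Matrix.mulVecLin (g : Big))
  set R := rs f j w 1
  set T := g * rs f i v 1 * g⁻¹ with hT
  have hR2 : R ^ 2 = 1 := by rw [pow_two]; exact rs_sq hf h2 j w
  have hT2 : T ^ 2 = 1 := by rw [hT, conj_pow, pow_two, rs_sq hf h2, mul_one, mul_inv_cancel]
  have hTz : ∀ z, (T : Big) *ᵥ z =
      z + (g : Big) *ᵥ ins i v (ctr i (formVec f v) (((g⁻¹ : GG) : Big) *ᵥ z)) := fun z => by
    rw [gl_mul_mulVec, gl_mul_mulVec, rs_mulVec hf, one_smul, mulVec_add, gl_mulVec_inv]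
  have hKM : Subgroup.closure ({R, T} : Set GG) ≤ M := by
    rw [Subgroup.closure_le]
    rintro x (rfl | rfl)
    · exact S.rs_mem j w 1
    · exact M.mul_mem (M.mul_mem hg (S.rs_mem i v 1)) (M.inv_mem hg)
  have hKU : Subgroup.closure ({R, T} : Set GG) ≤ mov (X ⊔ block j w) := by
    rw [Subgroup.closure_le]
    rintro x (rfl | rfl) z
    · rw [rs_mulVec hf, add_sub_cancel_left, one_smul]
      exact Submodule.mem_sup_right (LinearMap.mem_range_self _ _)
    · rw [hTz, add_sub_cancel_left]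
      exact Submodule.mem_sup_left ⟨_, LinearMap.mem_range_self _ _, rfl⟩
  have hKF : Subgroup.closure ({R, T} : Set GG) ≤ fixer {x | x ∈ X ∧ ctr j (formVec f w) x = 0} := by
    rw [Subgroup.closure_le]
    rintro x (rfl | rfl) z ⟨⟨_, ⟨p, rfl⟩, rfl⟩, hz⟩
    · rw [rs_mulVec hf, hz, map_zero, smul_zero, add_zero]
    · rw [hTz, Matrix.mulVecLin_apply, gl_inv_mulVec, ctr_ins, formVec_self hf, zero_smul, map_zero, mulVec_zero,
        add_zero]
  obtain ⟨c, hc, hck⟩ := TensorFormMax.SylowArg.exists_conj_mem (stab ι k F) hR2 hT2 (oneGL_mem_stab _ _)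
    fun x hx hxs => mem_of_conj S h2 hk6 hG hIH (hKM hx) hw hxs
  have hcg : c⁻¹ * g ∈ M := M.mul_mem (M.inv_mem (hKM hc)) hg
  have hst : c⁻¹ * g ∈ stab ι k F := mem_of_conj S h2 hk6 hG hIH hcg hv (by
    rw [show c⁻¹ * g * rs f i v 1 * (c⁻¹ * g)⁻¹ = c⁻¹ * T * c by rw [hT]; group]
    exact hck)
  obtain ⟨A, π, hA⟩ := hst
  have hu : (A (π i) : A1) *ᵥ v ≠ 0 := gl_ne_zero _ hv
  have hm : Maps (c⁻¹ * g) i v (π i) ((A (π i) : A1) *ᵥ v) := maps_of_le hv hu fun p => by
    rw [hA]; exact TensorPowerMax.Roots.tw_mulVec_block A π hv (LinearMap.mem_range_self _ _)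
  refine ⟨π i, _, hu, fun z hz => ?_, fun x hx hxw => ?_⟩
  · obtain ⟨p, rfl⟩ := hz
    obtain ⟨p', hp'⟩ := hm.exists_pre p
    have hx : (g : Big) *ᵥ ins i v p' ∈ X := ⟨_, LinearMap.mem_range_self _ _, rfl⟩
    have h1 := hKU (Subgroup.inv_mem _ hc) ((g : Big) *ᵥ ins i v p')
    rw [← gl_mul_mulVec, hp'] at h1
    obtain ⟨x, hxX, b, hb, he⟩ := Submodule.mem_sup.1 h1
    refine ⟨(g : Big) *ᵥ ins i v p' + x, X.add_mem hx hxX, ?_⟩
    rwa [← sub_sub, ← he, add_sub_cancel_left]
  · have h1 := hKF (Subgroup.inv_mem _ hc) x ⟨hx, hxw⟩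
    obtain ⟨_, ⟨p, rfl⟩, rfl⟩ := hx
    rw [← h1, Matrix.mulVecLin_apply, ← gl_mul_mulVec]
    exact hm.mem p

/-- A moved block orthogonal to a block lies in the stabiliser. -/
theorem mem_of_perp {g : GG} (hg : g ∈ M) {i : ι} {v : W1} (hv : v ≠ 0) {j : ι} {s : W1} (hs : s ≠ 0)
    (h : ∀ x ∈ (block i v).map (Matrix.mulVecLin (g : Big)), ctr j (formVec f s) x = 0) : g ∈ stab ι k F := by
  obtain ⟨a, u, hu, -, hb⟩ := key S h2 hk6 hG hIH hg (i := i) hv (j := j) hs
  refine mem_of_maps S hG hIH hg (i := i) (j := a) hv hu (maps_of_le hv hu fun p => ?_)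
  exact hb _ ⟨_, LinearMap.mem_range_self _ _, rfl⟩ (h _ ⟨_, LinearMap.mem_range_self _ _, rfl⟩)

/-- A moved block covering a direction modulo few blocks lies in the stabiliser. -/
theorem mem_of_cover {g : GG} (hg : g ∈ M) {i : ι} {v : W1} (hv : v ≠ 0) {j : ι} {d w w' : W1}
    (hd : d ∉ Submodule.span F {w} ⊔ Submodule.span F {w'})
    (h : ∀ p, ∃ x ∈ (block i v).map (Matrix.mulVecLin (g : Big)), ins j d p - x ∈ block j w ⊔ block j w') :
    g ∈ stab ι k F := by
  have hf := S.hf
  set X := (block i v).map (Matrix.mulVecLin (g : Big))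
  obtain ⟨η, hη, hηd⟩ := exists_functional hd
  obtain ⟨s, hs, hs'⟩ := exists_common_zero_not_mem (⊥ : Submodule F W1) ![formVec f w, formVec f w', formVec f d]
    (by rw [finrank_bot, Fintype.card_fin]; omega)
  have hs0 : s ≠ 0 := fun e => hs (e ▸ Submodule.zero_mem _)
  have hkill : ∀ y : W1, f s y = 0 → formVec f s ⬝ᵥ y = 0 := fun y hy => by rw [dot hf, hf.skew, hy, neg_zero]
  refine mem_of_perp S h2 hk6 hG hIH hg (i := i) hv (j := j) hs0 ?_
  set D := X ⊓ LinearMap.ker (ctr j (formVec f s))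
  have hsurj : ∀ p, p ∈ D.map (ctr j η) := fun p => by
    obtain ⟨x, hx, hb⟩ := h p
    obtain ⟨_, ⟨q, rfl⟩, _, ⟨q', rfl⟩, he⟩ := Submodule.mem_sup.1 hb
    have hx' : x = ins j d p - (ins j w q + ins j w' q') := by rw [he, sub_sub_cancel]
    refine ⟨x, ⟨hx, LinearMap.mem_ker.2 ?_⟩, ?_⟩
    · rw [hx', map_sub, map_add, ctr_ins, ctr_ins, ctr_ins, hkill d (by rw [← dot hf]; exact hs' 2),
        hkill w (by rw [← dot hf]; exact hs' 0), hkill w' (by rw [← dot hf]; exact hs' 1)]
      simp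
    · rw [hx', map_sub, map_add, ctr_ins, ctr_ins, ctr_ins, hηd,
        hη w (Submodule.mem_sup_left (Submodule.mem_span_singleton_self w)),
        hη w' (Submodule.mem_sup_right (Submodule.mem_span_singleton_self w'))]
      simp
  have h1 : Module.finrank F X ≤ Module.finrank F D := by
    have := Submodule.finrank_map_le (ctr j η) D
    rw [Submodule.eq_top_iff'.2 hsurj, finrank_top, Module.finrank_fintype_fun_eq_card,
      TensorPowerMax.Roots.card_rest] at this
    rwa [finrank_map, finrank_block hv]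
  intro x hx
  exact LinearMap.mem_ker.1 (((Submodule.eq_of_le_of_finrank_le (inf_le_left : D ≤ X) h1).ge hx).2)

/-- A moved block meets the orthogonal of no block. -/
theorem transversal {g : GG} (hg : g ∈ M) (hgs : g ∉ stab ι k F) {i : ι} {v : W1} (hv : v ≠ 0) {j : ι} {w : W1}
    (hw : w ≠ 0) {x : VV} (hx : x ∈ (block i v).map (Matrix.mulVecLin (g : Big)))
    (hxw : ctr j (formVec f w) x = 0) : x = 0 := by
  classical
  have hf := S.hf
  set X := (block i v).map (Matrix.mulVecLin (g : Big))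
  have hsecond : ∀ (a : ι) {u : W1}, u ≠ 0 → ∃ w2, f u w2 = 0 ∧ w2 ∉ Submodule.span F {u} := fun a u hu => by
    obtain ⟨w2, hn, hz⟩ := exists_common_zero_not_mem (Submodule.span F {u}) ![formVec f u] (by
      rw [finrank_span_singleton hu, Fintype.card_fin]; omega)
    exact ⟨w2, by rw [hf.skew, ← dot hf, show formVec f u ⬝ᵥ w2 = 0 from hz 0, neg_zero], hn⟩
  -- the same factor gives the same block
  have hsame : ∀ (l : ι) {y u : W1}, (∀ z ∈ block l u, ∃ x ∈ X, z - x ∈ block l y) →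
      u ∈ Submodule.span F {y} := by
    intro l y u h
    by_contra hu
    exact hgs (mem_of_cover S h2 hk6 hG hIH hg hv (j := l) (d := u) (w := y) (w' := y) (by rwa [sup_idem])
      fun p => (h _ (LinearMap.mem_range_self _ p)).imp fun x hx => ⟨hx.1, Submodule.mem_sup_left hx.2⟩)
  -- the Sylow argument only finds the block itself
  have hself : ∀ (l : ι) {y : W1}, y ≠ 0 → ∀ x ∈ X, ctr l (formVec f y) x = 0 → x ∈ block l y := by
    intro l y hy
    obtain ⟨a, u, hu, h1, hD⟩ := key S h2 hk6 hG hIH hg hv (j := l) hy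
    by_cases hal : a = l
    · subst hal
      obtain ⟨c, rfl⟩ := Submodule.mem_span_singleton.1 (hsame a h1)
      intro x hx hxy
      obtain ⟨p, hp⟩ := hD x hx hxy
      exact ⟨c • p, by rw [← hp, map_smul, ins_smul]⟩
    exfalso
    set D := X ⊓ LinearMap.ker (ctr l (formVec f y))
    set r := k ^ (Fintype.card ι - 2)
    have hN : k ^ (Fintype.card ι - 1) = k * r := by
      rw [← pow_succ']; congr 1; have := S.hι; omega
    have hr : 0 < r := Nat.pow_pos (by omega)
    have hX : Module.finrank F X = k * r := by rw [finrank_map, finrank_block hv, hN]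
    have hrest : ∀ (b c : ι) (hbc : b ≠ c) {e : W1}, e ≠ 0 →
        Module.finrank F (block (⟨b, hbc⟩ : {l // l ≠ c}) e) = r := fun b c hbc e he => by
      rw [finrank_block he, Fintype.card_subtype_compl, Fintype.card_subtype_eq]
      congr 1
    have hDge : k * r ≤ Module.finrank F D + 2 * r := by
      set X1 := X ⊓ (block a u ⊔ block l y)
      have hle : X ⊔ (block a u ⊔ block l y) ≤ X ⊔ block l y := by
        refine sup_le le_sup_left (sup_le (fun z hz => ?_) le_sup_right)
        obtain ⟨x, hx, hb⟩ := h1 z hz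
        rw [← add_sub_cancel x z]
        exact Submodule.add_mem_sup hx hb
      have e1 := Submodule.finrank_sup_add_finrank_inf_eq X (block a u ⊔ block l y)
      have e2 := Submodule.finrank_mono hle
      have e3 := Submodule.finrank_add_le_finrank_add_finrank X (block l y)
      have e4 := Submodule.finrank_sup_add_finrank_inf_eq (block a u) (block l y)
      have e5 : Module.finrank F (block a u ⊓ block l y : Submodule F VV) ≤ r := by
        refine (Submodule.finrank_mono (t := (block (⟨l, Ne.symm hal⟩ : {m // m ≠ a}) y).map (ins a u)) ?_).trans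
          ((Submodule.finrank_map_le _ _).trans (hrest _ _ _ hy).le)
        rintro z ⟨⟨p, rfl⟩, hz⟩
        exact ⟨p, (mem_block_ins (Ne.symm hal) hu hy).1 hz, rfl⟩
      have e6 := (ctr l (formVec f y) ∘ₗ X1.subtype).finrank_range_add_finrank_ker
      have e7 : Module.finrank F (LinearMap.range (ctr l (formVec f y) ∘ₗ X1.subtype)) ≤ r := by
        refine (Submodule.finrank_mono (t := block (⟨a, hal⟩ : {m // m ≠ l}) u) ?_).trans (hrest _ _ _ hu).le
        rintro _ ⟨⟨z, -, hz⟩, rfl⟩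
        obtain ⟨b, hb, _, ⟨q, rfl⟩, rfl⟩ := Submodule.mem_sup.1 hz
        show ctr l _ (b + ins l y q) ∈ _
        rw [map_add, ctr_ins, formVec_self hf, zero_smul, add_zero]
        exact ctr_mem_block hal hu hb _
      have e8 : Module.finrank F (LinearMap.ker (ctr l (formVec f y) ∘ₗ X1.subtype)) ≤ Module.finrank F D := by
        refine ((Submodule.equivMapOfInjective _ X1.injective_subtype _).finrank_eq).le.trans
          (Submodule.finrank_mono ?_)
        rintro _ ⟨⟨z, hz⟩, hk0, rfl⟩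
        exact ⟨hz.1, LinearMap.mem_ker.2 (LinearMap.mem_ker.1 hk0)⟩
      rw [finrank_block hy, hN] at e3 e4
      rw [finrank_block hu, hN] at e4
      have : Module.finrank F X1 = Module.finrank F (X ⊓ (block a u ⊔ block l y) : Submodule F VV) := rfl
      omega
    obtain ⟨w2, huw, hw2⟩ := hsecond a hu
    have hw20 : w2 ≠ 0 := fun e => hw2 (e ▸ Submodule.zero_mem _)
    obtain ⟨a', u', hu', h1', hD'⟩ := key S h2 hk6 hG hIH hg hv (j := a) hw20
    have hin : ∀ z ∈ D, z ∈ block a u ∧ z ∈ block a' u' := fun z hz => by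
      have hz1 := hD z hz.1 (LinearMap.mem_ker.1 hz.2)
      refine ⟨hz1, hD' z hz.1 ?_⟩
      obtain ⟨p, rfl⟩ := hz1
      rw [ctr_ins, dot hf, huw, zero_smul]
    have hbig : 3 * r < k * r := Nat.mul_lt_mul_of_pos_right (by omega) hr
    by_cases ha' : a' = a
    · subst ha'
      by_cases huu : u ∈ Submodule.span F {u'}
      · obtain ⟨c, rfl⟩ := Submodule.mem_span_singleton.1 huu
        have hc : c ≠ 0 := fun e => hu (by rw [e, zero_smul])
        obtain ⟨c', hc'⟩ := Submodule.mem_span_singleton.1 (hsame a' h1')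
        refine hw2 (Submodule.mem_span_singleton.2 ⟨(c * c')⁻¹, ?_⟩)
        have hc0 : c' ≠ 0 := fun e => hu' (by rw [← hc', e, zero_smul])
        rw [← hc', smul_smul, smul_smul, mul_assoc, inv_mul_cancel₀ (mul_ne_zero hc hc0), one_smul]
      have : D = ⊥ := (Submodule.eq_bot_iff _).2 fun z hz => block_disjoint huu hu' (hin z hz).1 (hin z hz).2
      rw [this, finrank_bot] at hDge
      omega
    have : Module.finrank F D ≤ r := by
      refine (Submodule.finrank_mono (t := (block (⟨a', ha'⟩ : {m // m ≠ a}) u').map (ins a u)) ?_).trans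
        ((Submodule.finrank_map_le _ _).trans (hrest _ _ _ hu').le)
      intro z hz
      obtain ⟨⟨p, rfl⟩, hz'⟩ := hin z hz
      exact ⟨p, (mem_block_ins ha' hu hu').1 hz', rfl⟩
    omega
  have h1 := hself j hw x hx hxw
  obtain ⟨w2, hww2, hw2⟩ := hsecond j hw
  have hw20 : w2 ≠ 0 := fun e => hw2 (e ▸ Submodule.zero_mem _)
  refine block_disjoint (span_swap hw hw2 |> fun h => h) hw20 h1 (hself j hw20 x hx ?_)
  obtain ⟨p, rfl⟩ := h1
  rw [ctr_ins, dot hf, hww2, zero_smul]

omit hIH in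
/-- Rigidity in characteristic two, given it for fewer factors. -/
theorem le_stab_step (hIH : Lower f ι) : M ≤ stab ι k F := by
  classical
  intro g hg
  by_contra hgs
  have hf := S.hf
  obtain ⟨j⟩ : Nonempty ι := Fintype.card_pos_iff.1 (by have := S.hι; omega)
  haveI := S.rest_nonempty j
  set w : W1 := Pi.single ⟨0, by omega⟩ 1
  have hw : w ≠ 0 := by simp [w]
  obtain ⟨w', hw', hw'z⟩ := exists_common_zero_not_mem (Submodule.span F {w}) ![formVec f w] (by
    rw [finrank_span_singleton hw, Fintype.card_fin]; omega)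
  have hf' : f w' w = 0 := by rw [← dot hf]; exact hw'z 0
  have hfw : f w w' = 0 := by rw [hf.skew, hf', neg_zero]
  have hw'0 : w' ≠ 0 := fun e => hw' (e ▸ Submodule.zero_mem _)
  set P := block j w ⊔ block j w'
  set X := (block j w).map (Matrix.mulVecLin (g : Big))
  set Y := rs f j w 1 * rs f j w' 1 with hY
  set T := g * rs f j w 1 * g⁻¹ with hT
  have hPperp : ∀ z ∈ P, ctr j (formVec f w) z = 0 ∧ ctr j (formVec f w') z = 0 := by
    intro z hz
    obtain ⟨_, ⟨p, rfl⟩, _, ⟨q, rfl⟩, rfl⟩ := Submodule.mem_sup.1 hz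
    constructor <;> simp [map_add, ctr_ins, dot hf, hf.alternating, hf', hfw]
  have hYz : ∀ z, (Y : Big) *ᵥ z =
      z + (ins j w (ctr j (formVec f w) z) + ins j w' (ctr j (formVec f w') z)) := fun z => by
    rw [gl_mul_mulVec, rs_mulVec hf, rs_mulVec hf, map_add, map_smul, ctr_ins, dot hf, hf', zero_smul, smul_zero,
      add_zero, one_smul, one_smul]
    abel
  have hTz : ∀ z, (T : Big) *ᵥ z = z + (g : Big) *ᵥ ins j w (ctr j (formVec f w) (((g⁻¹ : GG) : Big) *ᵥ z)) :=
    fun z => by rw [gl_mul_mulVec, gl_mul_mulVec, rs_mulVec hf, one_smul, mulVec_add, gl_mulVec_inv]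
  have hYY : Y * Y = 1 := gl_ext fun z => by
    rw [gl_mul_mulVec, Units.val_one, one_mulVec, hYz, hYz]
    simp only [map_add, ctr_ins, dot hf, hf.alternating, hf', hfw, zero_smul, add_zero]
    rw [add_assoc, ← two_smul F (ins j w _ + ins j w' _), h2, zero_smul, add_zero]
  have hTT : T * T = 1 := by
    rw [hT, show g * rs f j w 1 * g⁻¹ * (g * rs f j w 1 * g⁻¹) = g * (rs f j w 1 * rs f j w 1) * g⁻¹ by group,
      rs_sq hf h2, mul_one, mul_inv_cancel]
  obtain ⟨ζ, hζ, hζw⟩ := exists_functional hw'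
  obtain ⟨e', he'⟩ := formVec_onto hf ζ
  have he1 : f w e' = 0 := by rw [← dot hf, he']; exact hζ w (Submodule.mem_span_singleton_self w)
  have he2 : f w' e' = 1 := by rw [← dot hf, he', hζw]
  obtain ⟨ζ', hζ', hζ'w⟩ := exists_functional (span_swap hw hw')
  obtain ⟨e, he⟩ := formVec_onto hf ζ'
  have he3 : f w' e = 0 := by rw [← dot hf, he]; exact hζ' w' (Submodule.mem_span_singleton_self w')
  have he4 : f w e = 1 := by rw [← dot hf, he, hζ'w]
  have hYe : ∀ p, (Y : Big) *ᵥ ins j e p - ins j e p = -ins j w p ∧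
      (Y : Big) *ᵥ ins j e' p - ins j e' p = -ins j w' p := fun p => by
    rw [hYz, hYz, add_sub_cancel_left, add_sub_cancel_left, ctr_ins, ctr_ins, ctr_ins, ctr_ins, dot hf, dot hf,
      dot hf, dot hf, hf.skew e w, hf.skew e w', hf.skew e' w, hf.skew e' w', he1, he2, he3, he4]
    constructor <;> simp
  obtain ⟨m, hn1, hnY, hnT⟩ := UnitaryPowerMax.Near.exists_central hYY hTT fun c hc => by
    have hle : P ≤ X.map (Matrix.mulVecLin (c : Big)) := by
      have hin : ∀ z, (Y : Big) *ᵥ z - z ∈ X.map (Matrix.mulVecLin (c : Big)) := fun z => by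
        rw [← hc, gl_mul_mulVec, gl_mul_mulVec, hTz, mulVec_add, gl_mulVec_inv, add_sub_cancel_left]
        exact ⟨_, ⟨_, LinearMap.mem_range_self _ _, rfl⟩, rfl⟩
      refine sup_le ?_ ?_ <;> rintro _ ⟨p, rfl⟩
      · have := hin (ins j e p); rw [(hYe p).1, Submodule.neg_mem_iff] at this; exact this
      · have := hin (ins j e' p); rw [(hYe p).2, Submodule.neg_mem_iff] at this; exact this
    have e1 := Submodule.finrank_mono hle
    rw [finrank_map, finrank_map, finrank_block hw] at e1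
    have e2 : Module.finrank F P + Module.finrank F (block j w ⊓ block j w' : Submodule F VV) = _ :=
      Submodule.finrank_sup_add_finrank_inf_eq (block j w) (block j w')
    rw [show block j w ⊓ block j w' = ⊥ from (Submodule.eq_bot_iff _).2 fun z hz =>
      block_disjoint (span_swap hw hw') hw'0 hz.1 hz.2, finrank_bot, finrank_block hw, finrank_block hw'0,
      add_zero] at e2
    have : 0 < k ^ (Fintype.card ι - 1) := Nat.pow_pos (by omega)
    omega
  set n := (Y * T) ^ m with hn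
  have hYM : Y ∈ M := M.mul_mem (S.rs_mem j w 1) (S.rs_mem j w' 1)
  have hTM : T ∈ M := M.mul_mem (M.mul_mem hg (S.rs_mem j w 1)) (M.inv_mem hg)
  have hnM : n ∈ M := M.pow_mem (M.mul_mem hYM hTM) m
  have hnU : n ∈ mov (X ⊔ P) := by
    refine (mov (X ⊔ P)).pow_mem ((mov _).mul_mem (fun z => ?_) fun z => ?_) m
    · rw [hYz, add_sub_cancel_left]
      exact Submodule.mem_sup_right (Submodule.add_mem_sup (LinearMap.mem_range_self _ _)
        (LinearMap.mem_range_self _ _))
    · rw [hTz, add_sub_cancel_left]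
      exact Submodule.mem_sup_left ⟨_, LinearMap.mem_range_self _ _, rfl⟩
  have hcomm : ∀ h : GG, h * Y = Y * h → ∀ p, (h : Big) *ᵥ ins j w p ∈ P ∧ (h : Big) *ᵥ ins j w' p ∈ P := by
    intro h hh p
    have hin : ∀ z, (Y : Big) *ᵥ z - z ∈ P := fun z => by
      rw [hYz, add_sub_cancel_left]
      exact Submodule.add_mem_sup (LinearMap.mem_range_self _ _) (LinearMap.mem_range_self _ _)
    have key : ∀ d z : VV, (Y : Big) *ᵥ z - z = -d → (h : Big) *ᵥ d ∈ P := fun d z hd => by
      have := hin ((h : Big) *ᵥ z)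
      rw [← gl_mul_mulVec, ← hh, gl_mul_mulVec, ← mulVec_sub, hd, mulVec_neg, Submodule.neg_mem_iff] at this
      exact this
    exact ⟨key _ _ (hYe p).1, key _ _ (hYe p).2⟩
  have hnP := hcomm n hnY
  have hnP' := hcomm n⁻¹ (by
    rw [inv_mul_eq_iff_eq_mul, ← mul_assoc, hnY, mul_inv_cancel_right])
  have hns : n ∈ stab ι k F := mem_of_perp S h2 hk6 hG hIH hnM (i := j) (j := j) hw hw (by
    rintro _ ⟨_, ⟨p, rfl⟩, rfl⟩
    exact (hPperp _ (hnP p).1).1)
  obtain ⟨A, π, hA⟩ := hns
  obtain ⟨y0, hy0n, hy0⟩ := exists_common_zero_not_mem (Submodule.span F {w} ⊔ Submodule.span F {w'})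
    ![formVec f w, formVec f w'] (by
      have h1 := Submodule.finrank_add_le_finrank_add_finrank (Submodule.span F {w}) (Submodule.span F {w'})
      rw [finrank_span_singleton hw, finrank_span_singleton hw'0] at h1
      rw [Fintype.card_fin]; omega)
  have hy00 : y0 ≠ 0 := fun e => hy0n (e ▸ Submodule.zero_mem _)
  obtain ⟨η, hη, hηy⟩ := exists_functional hy0n
  have hηP : ∀ z ∈ P, ctr j η z = 0 := fun z hz => by
    obtain ⟨_, ⟨p, rfl⟩, _, ⟨q, rfl⟩, rfl⟩ := Submodule.mem_sup.1 hz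
    simp [map_add, ctr_ins, hη w (Submodule.mem_sup_left (Submodule.mem_span_singleton_self w)),
      hη w' (Submodule.mem_sup_right (Submodule.mem_span_singleton_self w'))]
  have hfix : π j = j := by
    by_contra hne
    set r : ι → W1 := fun l => if l = j then y0 else (A (π j) : A1) *ᵥ w
    have hr : ∀ l, r l ≠ 0 := fun l => by simp only [r]; split_ifs <;> [exact hy00; exact gl_ne_zero _ hw]
    have h1 : pv r ∈ block (π j) ((A (π j) : A1) *ᵥ w) := pv_mem_block (if_neg hne)
    have hm : Maps n j w (π j) ((A (π j) : A1) *ᵥ w) := maps_of_le hw (gl_ne_zero _ hw) fun p => by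
      rw [hA]; exact TensorPowerMax.Roots.tw_mulVec_block A π hw (LinearMap.mem_range_self _ _)
    obtain ⟨p, hp⟩ := h1
    obtain ⟨p', hp'⟩ := hm.exists_pre p
    have h3 := hηP _ (hnP p').1
    rw [hp', hp, ctr_pv, show r j = y0 from if_pos rfl, hηy, one_smul] at h3
    exact pv_ne_zero (fun l : {l // l ≠ j} => hr l.1) h3
  have hkj := mulVec_ins_of_kron (g := n) (C := ptGL (fun l : {l // l ≠ j} => A l.1) *
    pmGL (TensorPowerMax.Split.restrict π hfix)) (N := A j) (by rw [hA]; exact TensorPowerMax.Split.spU_tw A π hfix)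
  set R := ptGL (fun l : {l // l ≠ j} => A l.1) * pmGL (TensorPowerMax.Split.restrict π hfix)
  set μ := η ⬝ᵥ ((A j : A1) *ᵥ y0)
  have hperpP : ∀ z, ctr j (formVec f w) z = 0 → ctr j (formVec f w') z = 0 →
      ctr j (formVec f w) ((n : Big) *ᵥ z) = 0 := by
    intro z h1 h1'
    refine Bt_nondeg hf fun u => ?_
    have e0 : Bt f ((n : Big) *ᵥ z) (ins j w u) = 0 := by
      conv_lhs => rw [← gl_mulVec_inv n (ins j w u), S.iso n hnM]
      obtain ⟨_, ⟨p, rfl⟩, _, ⟨q, rfl⟩, hpq⟩ := Submodule.mem_sup.1 (hnP' u).1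
      rw [← hpq, Bt_add_right, Bt_ins_right hf, Bt_ins_right hf, h1, h1']
      simp [Bt]
    rw [Bt_swap hf, ← Bt_ins_right hf, e0, mul_zero]
  have hRu : ∀ u, μ • (R.val *ᵥ u) = u := by
    intro u
    obtain ⟨x, hx, b, hb, hxb⟩ := Submodule.mem_sup.1 (hnU (ins j y0 u))
    have hz : ∀ y : W1, formVec f y ⬝ᵥ y0 = 0 → ctr j (formVec f y) (ins j y0 u) = 0 := fun y hy => by
      rw [ctr_ins, hy, zero_smul]
    have hx0 : x = 0 := transversal S h2 hk6 hG hIH hg hgs hw (j := j) hw hx (by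
      have := congrArg (ctr j (formVec f w)) hxb
      rwa [map_add, map_sub, (hPperp b hb).1, hperpP _ (hz w (hy0 0)) (hz w' (hy0 1)), hz w (hy0 0), add_zero,
        sub_zero] at this)
    have h1 := congrArg (ctr j η) hxb
    rw [hx0, zero_add, hηP b hb, map_sub, hkj, ctr_ins, ctr_ins, hηy, one_smul] at h1
    exact sub_eq_zero.1 h1.symm
  have hμ : μ ≠ 0 := fun e => by
    have := hRu fun _ => 1
    rw [e, zero_smul] at this
    exact one_ne_zero (congrFun this (Classical.arbitrary _)).symm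
  set C : A1 := μ⁻¹ • (A j : A1)
  have hnC : (n : Big) = oneM j C := eq_oneM fun z u => by
    rw [hkj, smul_mulVec, ins_smul]
    conv_rhs => rw [← hRu u, map_smul, smul_smul, inv_mul_cancel₀ hμ, one_smul]
  set D : A1 := C - 1
  have hDn : ∀ z, (n : Big) *ᵥ z - z = oneM j D *ᵥ z := fun z => by
    have : oneM j C = oneM j D + 1 := by rw [← oneM_one (F := F) (m := k) j, ← oneM_add, sub_add_cancel]
    rw [hnC, this, add_mulVec, one_mulVec, add_sub_cancel_right]
  have hDw : ∀ y, formVec f w ⬝ᵥ (D *ᵥ y) = 0 := by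
    intro y
    by_contra hd
    refine hgs (mem_of_cover S h2 hk6 hG hIH hg (i := j) hw (j := j) (d := D *ᵥ y) (w := w) (w' := w') ?_ fun p => ?_)
    · intro hmem
      obtain ⟨p, hp, q, hq, hpq⟩ := Submodule.mem_sup.1 hmem
      obtain ⟨c, rfl⟩ := Submodule.mem_span_singleton.1 hp
      obtain ⟨c', rfl⟩ := Submodule.mem_span_singleton.1 hq
      rw [← hpq, dot hf, hf.bilinear.add_left, hf.bilinear.smul_left, hf.bilinear.smul_left, hf.alternating, hf',
        mul_zero, mul_zero, add_zero] at hd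
      exact hd rfl
    · obtain ⟨x, hx, b, hb, hxb⟩ := Submodule.mem_sup.1 (hnU (ins j y p))
      refine ⟨x, hx, ?_⟩
      rw [hDn, TensorPowerMax.Roots.oneM_mulVec_ins] at hxb
      rw [← hxb, add_sub_cancel_left]
      exact hb
  have hnX : ∀ x ∈ X, (n : Big) *ᵥ x - x = 0 := by
    intro x hx
    refine transversal S h2 hk6 hG hIH hg hgs hw (j := j) hw (Submodule.sub_mem _ ?_ hx) ?_
    · obtain ⟨_, ⟨p, rfl⟩, rfl⟩ := hx
      obtain ⟨p', hp'⟩ : ∃ p', (g : Big) *ᵥ ins j w p = (T : Big) *ᵥ p' - p' :=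
        ⟨(g : Big) *ᵥ ins j e (-p), by
          rw [hTz, gl_inv_mulVec, add_sub_cancel_left, ctr_ins, dot hf, hf.skew e w, he4]; simp⟩
      rw [Matrix.mulVecLin_apply, hp', mulVec_sub, ← gl_mul_mulVec, hnT, gl_mul_mulVec, hTz, add_sub_cancel_left]
      exact ⟨_, LinearMap.mem_range_self _ _, rfl⟩
    · rw [hDn, ctr_oneM, show formVec f w ᵥ* D = 0 from dotProduct_eq_zero _ fun y => by
        rw [← dotProduct_mulVec]; exact hDw y]
      rw [← zero_smul F (0 : W1), ctr_smul_vec, zero_smul]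
  obtain ⟨φ, hφ⟩ : ∃ φ : W1, φ ᵥ* D ≠ 0 := by
    by_contra hc
    push Not at hc
    refine hn1 (gl_ext fun z => ?_)
    rw [Units.val_one, one_mulVec, ← sub_eq_zero, hDn]
    exact ctr_ext (j := j) fun φ => by
      rw [ctr_oneM, map_zero, hc φ, ← zero_smul F (0 : W1), ctr_smul_vec, zero_smul]
  obtain ⟨s, hs⟩ := formVec_onto hf (φ ᵥ* D)
  have hs0 : s ≠ 0 := fun e0 => hφ (by rw [← hs, e0]; exact funext fun i => zero_right hf _)
  exact hgs (mem_of_perp S h2 hk6 hG hIH hg hw (j := j) hs0 fun x hx => by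
    rw [hs, ← ctr_oneM, ← hDn, hnX x hx, map_zero])

omit S hG hIH in
/-- Rigidity in characteristic two. -/
theorem le_stab : ∀ (n : ℕ) (κ : Type) [Fintype κ] [DecidableEq κ], Fintype.card κ = n →
    ∀ M : Subgroup (GL (κ → Fin k) F), Setting f M → ¬ Good f M → M ≤ stab κ k F := by
  intro n
  induction n using Nat.strong_induction_on with
  | _ n ih =>
    intro κ _ _ hn M S hG
    exact le_stab_step S h2 hk6 hG fun κ' _ _ hlt M' S' hG' => ih _ (hn ▸ hlt) κ' rfl M' S' hG'

end Cfsg.Agent.Lib.TensorSympMax.Even
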