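import Cfsg.Agent.Lib.TensorSympMax.Eigen
import Mathlib.FieldTheory.ChevalleyWarning

/-!
An overgroup of the isometries in the stabiliser without outer radical elements lies in the stabiliser.
-/

set_option autoImplicit false
set_option linter.unusedSectionVars false
set_option linter.style.haveILetI false

namespace Cfsg.Agent.Lib.TensorSympMax.Rigid

open Matrix
open Cfsg.Agent.Lib.Subspaces.Transvection Cfsg.Agent.Lib.Subspaces.FormVec
  Cfsg.Agent.Lib.TensorPowerMax.Basic Cfsg.Agent.Lib.TensorSympMax.Basic Cfsg.Agent.Lib.TensorSympMax.Quad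
  Cfsg.Agent.Lib.TensorSympMax.BlockTo

variable {ι : Type} [Fintype ι] [DecidableEq ι] {k : ℕ} {F : Type*} [Field F]

local notation "Big" => Matrix (ι → Fin k) (ι → Fin k) F
local notation "GG" => GL (ι → Fin k) F
local notation "W1" => Fin k → F

variable {f : (Fin k → F) → (Fin k → F) → F} {M : Subgroup (GL (ι → Fin k) F)}

theorem Xr_skew (S : Setting f M) (i : ι) (v : W1) (z z' : (ι → Fin k) → F) :
    Bt f (Xr f i v *ᵥ z) z' = -Bt f z (Xr f i v *ᵥ z') := by
  have e : ((-1 : F) ^ Fintype.card ι) * (-1) ^ Fintype.card {l // l ≠ i} = -1 := by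
    obtain ⟨m, hm⟩ : ∃ m, Fintype.card ι = m + 1 := ⟨Fintype.card ι - 1, by have := S.hι; omega⟩
    rw [Fintype.card_subtype_compl, Fintype.card_subtype_eq, hm, Nat.add_sub_cancel, pow_succ, mul_right_comm,
      ← mul_pow, neg_one_mul, neg_neg, one_pow, one_mul]
  rw [Xr_mulVec, Xr_mulVec, Bt_swap S.hf z', Bt_ins_right S.hf, Bt_ins_right S.hf,
    Bt_swap S.hf (ctr i (formVec f v) z), ← mul_assoc, e, neg_one_mul]

/-- A moved root element gives non-zero scalars at every block. -/
theorem scalar_of_notMem [Finite F] (S : Setting f M) (h2 : (2 : F) ≠ 0) (hG : ¬ Good f M) (hIH : Lower f ι) {g : GG}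
    (hg : g ∈ M) (hns : g ∉ stab ι k F) {i : ι} {v : W1} (hv : v ≠ 0) (j : ι) {w : W1} (hw : w ≠ 0) :
    ∃ b : F, b ≠ 0 ∧ ∀ u, ctr j (formVec f w)
      (((g : Big) * Xr f i v * ((g⁻¹ : GG) : Big)) *ᵥ ins j w u) = b • u := by
  haveI : Nonempty ι := ⟨j⟩
  set N : Big := (g : Big) * Xr f i v * ((g⁻¹ : GG) : Big)
  have hT : ∀ c : F, ((g * rs f i v c * g⁻¹ : GG) : Big) = 1 + c • N := fun c => by
    rw [Units.val_mul, Units.val_mul, coe_rs S.hf, mul_add, mul_one, add_mul, Matrix.mul_smul, Matrix.smul_mul,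
      ← Units.val_mul, mul_inv_cancel, Units.val_one]
  have D : Centraliser.Pair f M j w N (fun c => g * rs f i v c * g⁻¹) :=
    { S := S
      two := h2
      hw := hw
      hNN := by
        simp only [N, Matrix.mul_assoc]
        rw [← Matrix.mul_assoc ((g⁻¹ : GG) : Big) (g : Big), ← Units.val_mul, inv_mul_cancel, Units.val_one,
          Matrix.one_mul, ← Matrix.mul_assoc (Xr f i v), Xr_sq S.hf, Matrix.zero_mul, Matrix.mul_zero]
      skew := fun z z' => by
        show Bt f (((g : Big) * Xr f i v * ((g⁻¹ : GG) : Big)) *ᵥ z) z' =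
          -Bt f z (((g : Big) * Xr f i v * ((g⁻¹ : GG) : Big)) *ᵥ z')
        rw [← mulVec_mulVec, ← mulVec_mulVec, ← mulVec_mulVec, ← mulVec_mulVec]
        conv_lhs => arg 3; rw [← gl_mulVec_inv g z']
        conv_rhs => arg 1; arg 2; rw [← gl_mulVec_inv g z]
        rw [S.iso g hg, S.iso g hg, Xr_skew S]
      hT := hT
      memT := fun c => M.mul_mem (M.mul_mem hg (S.rs_mem i v c)) (M.inv_mem hg) }
  refine Eigen.scalar D hG hIH (fun h => ?_) ?_
  · obtain ⟨j', w', hw', hm⟩ := maps_of_conj S.hf (S.hk.imp id fun h => ⟨h.1, h.2.2⟩) hv h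
    exact hns (mem_of_maps S hG hIH hg hv hw' hm)
  · have hle : LinearMap.range (Matrix.mulVecLin N) ≤ (block i v).map (Matrix.mulVecLin (g : Big)) := by
      rintro _ ⟨z, rfl⟩
      refine ⟨Xr f i v *ᵥ (((g⁻¹ : GG) : Big) *ᵥ z), by rw [Xr_mulVec]; exact LinearMap.mem_range_self _ _, ?_⟩
      show (g : Big) *ᵥ _ = N *ᵥ z
      rw [mulVec_mulVec, mulVec_mulVec]
    refine (Submodule.finrank_mono hle).trans (le_of_eq ?_)
    rw [finrank_map, finrank_block hv, ← finrank_block (j := j) hw]
    exact LinearMap.finrank_range_of_inj (ins_injective hw)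

theorem formVec_add (hf : Cfsg.Geo.IsSymplecticForm f) (v w : W1) : formVec f (v + w) = formVec f v + formVec f w :=
  funext fun _ => hf.bilinear.add_right _ _ _

theorem formVec_smul (hf : Cfsg.Geo.IsSymplecticForm f) (c : F) (w : W1) : formVec f (c • w) = c • formVec f w :=
  funext fun _ => hf.bilinear.smul_right _ _ _

/-- A quadratic map on at least three coordinates vanishes somewhere. -/
theorem exists_zero [Fintype F] {hk : 3 ≤ k} (L : W1 →ₗ[F] W1 →ₗ[F] F) : ∃ w : W1, w ≠ 0 ∧ L w w = 0 := by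
  classical
  obtain ⟨p, hchar⟩ := CharP.exists F
  haveI := hchar
  haveI hp : Fact p.Prime := ⟨CharP.char_is_prime F p⟩
  let e : Fin 3 → W1 := fun a => Pi.single ⟨a.1, by omega⟩ 1
  let P : MvPolynomial (Fin 3) F :=
    ∑ a, ∑ b, MvPolynomial.C (L (e a) (e b)) * (MvPolynomial.X a * MvPolynomial.X b)
  have hdeg : P.totalDegree ≤ 2 := by
    refine MvPolynomial.totalDegree_finsetSum_le fun a _ => MvPolynomial.totalDegree_finsetSum_le fun b _ => ?_
    refine (MvPolynomial.totalDegree_mul _ _).trans ?_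
    rw [MvPolynomial.totalDegree_C, zero_add]
    refine (MvPolynomial.totalDegree_mul _ _).trans ?_
    rw [MvPolynomial.totalDegree_X, MvPolynomial.totalDegree_X]
  have hdvd := char_dvd_card_solutions p (f := P) (by rw [Fintype.card_fin]; omega)
  obtain ⟨c, hc, hc0⟩ : ∃ c : Fin 3 → F, MvPolynomial.eval c P = 0 ∧ c ≠ 0 := by
    by_contra hcon
    push Not at hcon
    have h1 : Nat.card {c : Fin 3 → F // MvPolynomial.eval c P = 0} = 1 :=
      Nat.card_eq_one_iff_unique.mpr ⟨⟨fun c c' => Subtype.ext ((hcon c.1 c.2).trans (hcon c'.1 c'.2).symm)⟩,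
        ⟨⟨0, by simp [P]⟩⟩⟩
    rw [← @Nat.card_eq_fintype_card _ (_), h1] at hdvd
    exact hp.out.not_dvd_one hdvd
  refine ⟨∑ a, c a • e a, fun h0 => hc0 (funext fun a => ?_), ?_⟩
  · have h1 := congrFun h0 ⟨a.1, by omega⟩
    simpa [e, Finset.sum_apply, Pi.single_apply, Fin.val_inj, Finset.sum_ite_eq] using h1
  · rw [← hc]
    simp only [P, map_sum, map_mul, MvPolynomial.eval_C, MvPolynomial.eval_X, map_smul, LinearMap.sum_apply,
      LinearMap.smul_apply, smul_eq_mul]
    simp only [Fin.sum_univ_three]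
    ring

/-- Not every block can give a non-zero scalar. -/
theorem false_of_scalar [Finite F] (S : Setting f M) (h2 : (2 : F) ≠ 0) (j : ι) {N : Big} (hNN : N * N = 0)
    (h : ∀ w : W1, w ≠ 0 → ∃ b : F, b ≠ 0 ∧ ∀ u, ctr j (formVec f w) (N *ᵥ ins j w u) = b • u) : False := by
  classical
  haveI : Fintype F := Fintype.ofFinite F
  have hf := S.hf
  haveI := S.rest_nonempty j
  let r : {l // l ≠ j} → Fin k := Classical.arbitrary _
  rcases S.hk with hk | ⟨rfl, -⟩
  · let L : W1 →ₗ[F] W1 →ₗ[F] F := LinearMap.mk₂ F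
      (fun x y => ctr j (formVec f x) (N *ᵥ ins j y (Pi.single r 1)) r)
      (fun x x' y => by simp [formVec_add hf, ctr_add_vec])
      (fun c x y => by simp [formVec_smul hf, ctr_smul_vec])
      (fun x y y' => by simp [ins_add_vec, mulVec_add])
      (fun c x y => by simp [ins_smul, mulVec_smul])
    obtain ⟨w, hw, hw0⟩ := exists_zero (hk := by omega) L
    obtain ⟨b, hb, hbw⟩ := h w hw
    exact hb (by simpa [L, hbw] using hw0)
  let e : Fin 2 → (Fin 2 → F) := fun a => Pi.single a 1
  set d := f (e 0) (e 1)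
  have hd : ∀ x y : F, formVec f (x • e 0 + y • e 1) = (d * y) • e 0 + (-(d * x)) • e 1 := fun x y => by
    have h' : f (e 1) (e 0) = -d := hf.skew _ _
    funext a
    fin_cases a
    · show f (e 0) (x • e 0 + y • e 1) = _
      simp [hf.bilinear.add_right, hf.bilinear.smul_right, hf.alternating, e, d]
      ring
    · show f (e 1) (x • e 0 + y • e 1) = _
      simp only [hf.bilinear.add_right, hf.bilinear.smul_right, hf.alternating, h']
      simp [e]
      ring
  have hctr : ∀ (a : Fin 2) (u : ({l // l ≠ j} → Fin 2) → F) (c : Fin 2), ctr j (e a) (ins j (e c) u) =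
      if a = c then u else 0 := fun a u c => by
    rw [ctr_ins]
    simp only [e, single_dotProduct, one_mul, Pi.single_apply]
    split_ifs <;> simp
  let Nb : Fin 2 → Fin 2 → Module.End F (({l // l ≠ j} → Fin 2) → F) := fun a b =>
    (ctr j (e a)).comp ((Matrix.mulVecLin N).comp (ins j (e b)))
  have hN : ∀ a z, ctr j (e a) (N *ᵥ z) = Nb a 0 (ctr j (e 0) z) + Nb a 1 (ctr j (e 1) z) := fun a z => by
    refine ins_ext (j := j) (P := (ctr j (e a)).comp (Matrix.mulVecLin N))
      (Q := (Nb a 0).comp (ctr j (e 0)) + (Nb a 1).comp (ctr j (e 1))) (fun x u => ?_) z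
    have hx : x = x 0 • e 0 + x 1 • e 1 := by funext c; fin_cases c <;> simp [e]
    show ctr j (e a) (N *ᵥ ins j x u) = _
    conv_lhs => rw [hx, ins_add_vec, ins_smul, ins_smul, mulVec_add, mulVec_smul, mulVec_smul, map_add,
      map_smul, map_smul]
    simp [Nb, ctr_ins, e, map_smul, mulVec_smul]
  have hform : ∀ (x y : F) (u : ({l // l ≠ j} → Fin 2) → F),
      ctr j (formVec f (x • e 0 + y • e 1)) (N *ᵥ ins j (x • e 0 + y • e 1) u) =
        (d * y) • (x • Nb 0 0 u + y • Nb 0 1 u) + (-(d * x)) • (x • Nb 1 0 u + y • Nb 1 1 u) := fun x y u => by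
    rw [hd, ctr_add_vec, ctr_smul_vec, ctr_smul_vec, hN, hN]
    have h0 : ctr j (e 0) (ins j (x • e 0 + y • e 1) u) = x • u := by
      rw [ins_add_vec, ins_smul, ins_smul, map_add, map_smul, map_smul, hctr, hctr]; simp
    have h1 : ctr j (e 1) (ins j (x • e 0 + y • e 1) u) = y • u := by
      rw [ins_add_vec, ins_smul, ins_smul, map_add, map_smul, map_smul, hctr, hctr]; simp
    rw [h0, h1, map_smul, map_smul, map_smul, map_smul]
  have hne : ∀ x y : F, (x ≠ 0 ∨ y ≠ 0) → x • e 0 + y • e 1 ≠ 0 := fun x y hxy e0 => by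
    have a := congrFun e0 0
    have b := congrFun e0 1
    simp [e] at a b
    exact hxy.elim (fun h => h a) (fun h => h b)
  obtain ⟨b1, hb1, hu1⟩ := h _ (hne 1 0 (Or.inl one_ne_zero))
  obtain ⟨b2, hb2, hu2⟩ := h _ (hne 0 1 (Or.inr one_ne_zero))
  obtain ⟨b3, -, hu3⟩ := h _ (hne 1 1 (Or.inl one_ne_zero))
  simp only [hform] at hu1 hu2 hu3
  have hd0 : d ≠ 0 := fun e0 => hb2 (by
    have := congrFun (hu2 fun _ => 1) r
    simpa [e0] using this.symm)
  have h10 : ∀ u, Nb 1 0 u = (-(b1 / d)) • u := fun u => by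
    have := hu1 u
    simp only [mul_one, mul_zero, zero_smul, zero_add, add_zero, one_smul] at this
    linear_combination (norm := skip) (-(1 : F) / d) • this
    match_scalars <;> field_simp <;> ring
  have h01 : ∀ u, Nb 0 1 u = (b2 / d) • u := fun u => by
    have := hu2 u
    simp only [mul_one, mul_zero, neg_zero, zero_smul, zero_add, add_zero, one_smul] at this
    linear_combination (norm := skip) ((1 : F) / d) • this
    match_scalars <;> field_simp <;> ring
  have hdiff : ∀ u, Nb 0 0 u = Nb 1 1 u + ((b3 - b1 - b2) / d) • u := fun u => by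
    have := hu3 u
    simp only [mul_one, one_smul, h10, h01] at this
    linear_combination (norm := skip) ((1 : F) / d) • this
    match_scalars <;> field_simp <;> ring
  have hsq : ∀ a u c, Nb a 0 (Nb 0 c u) + Nb a 1 (Nb 1 c u) = 0 := fun a u c => by
    have := hN a (N *ᵥ ins j (e c) u)
    rw [mulVec_mulVec, hNN, zero_mulVec, map_zero] at this
    exact this.symm
  set t := b2 / d
  have ht : t ≠ 0 := div_ne_zero hb2 hd0
  set s := (b3 - b1 - b2) / d
  have h00 : ∀ u, Nb 0 0 u = (s / 2) • u := fun u => by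
    have := hsq 0 u 1
    simp only [h01, map_smul] at this
    rw [hdiff u] at this ⊢
    linear_combination (norm := skip) ((1 : F) / (2 * t)) • this
    have := h2
    match_scalars <;> field_simp <;> ring
  have hq : t * (-(b1 / d)) + (s / 2) * (s / 2) = 0 := by
    have := congrFun (hsq 0 (fun _ => 1) 0) r
    simp only [h00, h01, h10, Pi.add_apply, Pi.smul_apply, smul_eq_mul, mul_one, Pi.zero_apply] at this
    linear_combination this
  obtain ⟨b, hb, hu⟩ := h _ (hne t (-(s / 2)) (Or.inl ht))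
  have := congrFun (hu fun _ => 1) r
  rw [hform] at this
  have h11 : ∀ u, Nb 1 1 u = (-(s / 2)) • u := fun u => by
    have := hdiff u
    rw [h00] at this
    linear_combination (norm := skip) (-1 : F) • this
    have := h2
    match_scalars <;> field_simp <;> ring
  simp only [h00, h01, h10, h11, Pi.add_apply, Pi.smul_apply, smul_eq_mul, mul_one] at this
  exact hb (by linear_combination -this - d * t * hq)

/-- Rigidity. -/
theorem le_stab [Finite F] (h2 : (2 : F) ≠ 0) : ∀ (n : ℕ) (ι : Type) [Fintype ι] [DecidableEq ι], Fintype.card ι = n →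
    ∀ M : Subgroup (GL (ι → Fin k) F), Setting f M → ¬ Good f M → M ≤ stab ι k F := by
  intro n
  induction n using Nat.strong_induction_on with
  | _ n ih =>
    intro ι _ _ hn M S hG g hg
    by_contra hns
    haveI : Nonempty ι := Fintype.card_pos_iff.1 (by have := S.hι; omega)
    have hIH : Lower f ι := fun κ _ _ hlt M' S' hG' => ih _ (hn ▸ hlt) κ rfl M' S' hG'
    set j := Classical.arbitrary ι
    set v : Fin k → F := Pi.single ⟨0, by have := S.two_le; omega⟩ 1
    have hv : v ≠ 0 := by simp [v]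
    refine false_of_scalar S h2 j (N := (g : Matrix (ι → Fin k) (ι → Fin k) F) * Xr f j v *
      ((g⁻¹ : GL (ι → Fin k) F) : Matrix (ι → Fin k) (ι → Fin k) F)) ?_ fun w hw =>
        scalar_of_notMem S h2 hG hIH hg hns hv j hw
    simp only [Matrix.mul_assoc]
    rw [← Matrix.mul_assoc ((g⁻¹ : GL (ι → Fin k) F) : Matrix (ι → Fin k) (ι → Fin k) F)
        (g : Matrix (ι → Fin k) (ι → Fin k) F), ← Units.val_mul, inv_mul_cancel, Units.val_one,
      Matrix.one_mul, ← Matrix.mul_assoc (Xr f j v), Xr_sq S.hf, Matrix.zero_mul, Matrix.mul_zero]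

end Cfsg.Agent.Lib.TensorSympMax.Rigid
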