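import Cfsg.Agent.Lib.TensorSympMax.GoodCase
import Cfsg.Agent.Lib.TensorSympMax.Rigid
import Cfsg.Agent.Lib.Subspaces.SympGen

/-!
An overgroup with a good radical element is the whole isometry group of the tensor power form.
-/

set_option autoImplicit false
set_option linter.unusedSectionVars false

namespace Cfsg.Agent.Lib.TensorSympMax.Full

open Matrix
open Cfsg.Agent.Lib.Subspaces.Transvection Cfsg.Agent.Lib.Subspaces.FormVec
  Cfsg.Agent.Lib.TensorPowerMax.Basic Cfsg.Agent.Lib.TensorSympMax.Basic Cfsg.Agent.Lib.TensorSympMax.BlockTo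

variable {ι : Type} [Fintype ι] [DecidableEq ι] {k : ℕ} {F : Type*} [Field F]
  {f : (Fin k → F) → (Fin k → F) → F}

local notation "A1" => Matrix (Fin k) (Fin k) F
local notation "Big" => Matrix (ι → Fin k) (ι → Fin k) F
local notation "GG" => GL (ι → Fin k) F
local notation "W1" => Fin k → F
local notation "Vec" => (ι → Fin k) → F

section Form

variable (hf : Cfsg.Geo.IsSymplecticForm f) (h2 : (2 : F) ≠ 0) (hodd : Odd (Fintype.card ι))
include hf h2 hodd

/-- An odd tensor power of an alternating form is alternating. -/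
theorem isSymp : Cfsg.Geo.IsSymplecticForm (Bt f (ι := ι)) := by
  have hskew : ∀ x y : Vec, Bt f x y = - Bt f y x := fun x y => by
    rw [Bt_swap hf y x, hodd.neg_one_pow, neg_one_mul]
  refine ⟨⟨Bt_add_left, fun c x v => Bt_smul_left c x v, fun v x y => Bt_add_right v x y,
    fun c v x => Bt_smul_right c v x⟩, hskew, fun v => ?_, fun v hv => ?_⟩
  · have := hskew v v
    exact (mul_eq_zero.1 (show (2 : F) * Bt f v v = 0 by linear_combination this)).resolve_left h2
  · have hx : ∃ x, Bt f x v ≠ 0 := by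
      by_contra hc
      push Not at hc
      exact hv (Bt_nondeg hf hc)
    obtain ⟨x, hx⟩ := hx
    exact ⟨⟨x, hx⟩, x, by rw [hskew, neg_ne_zero]; exact hx⟩

/-- The isometry group is not inside the stabiliser. -/
theorem exists_not_stab (hk : 2 ≤ k) (hι : 2 ≤ Fintype.card ι) :
    ∃ g : GG, (∀ x y, Bt f ((g : Big) *ᵥ x) ((g : Big) *ᵥ y) = Bt f x y) ∧ g ∉ stab ι k F := by
  have hB := isSymp hf h2 hodd (ι := ι)
  obtain ⟨i, j, hij⟩ := Fintype.exists_pair_of_one_lt_card (α := ι) (by omega)
  set v : W1 := Pi.single ⟨0, by omega⟩ 1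
  have hv : v ≠ 0 := by simp [v]
  obtain ⟨w, hw⟩ := exists_one hf hv
  refine ⟨_, Subspaces.SympGen.stv_isometry hB (pv fun _ : ι => v) 1, ?_⟩
  rintro ⟨a, σ, h⟩
  have h1 := Subspaces.SympGen.stv_mulVec hB (pv fun _ : ι => v) 1 (pv fun _ => w)
  rw [h, tw_mulVec, Bt_pv hf, Finset.prod_eq_one (fun _ _ => hw), mul_one,
    ← one_smul F (pv fun _ : ι => w)] at h1
  have hw0 : w ≠ 0 := fun e => by rw [e, zero_left hf] at hw; exact zero_ne_one hw
  have hns : v ∉ Submodule.span F {w} := fun e => by
    obtain ⟨d, hd⟩ := Submodule.mem_span_singleton.1 e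
    have hd' : f (d • w) v = 0 := by rw [hd]; exact hf.alternating v
    rw [hf.bilinear.smul_left, hw, mul_one] at hd'
    exact hv (by rw [← hd, hd', zero_smul])
  have hns' : w ∉ Submodule.span F {v} := fun e => by
    obtain ⟨d, hd⟩ := Submodule.mem_span_singleton.1 e
    rw [← hd, hf.bilinear.smul_left, hf.alternating, mul_zero] at hw
    exact zero_ne_one hw
  exact not_pure_of_two one_ne_zero one_ne_zero h1.symm (fun _ => hw0) (fun _ => hv) hij hns hns' hns

end Form

/-- All transvections with a given centre lie in the group. -/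
def Centre (f : (Fin k → F) → (Fin k → F) → F) (M : Subgroup (GL (ι → Fin k) F)) (x : (ι → Fin k) → F) : Prop :=
  ∀ γ : F, ∃ g ∈ M, ∀ z, (g : Big) *ᵥ z = z + (γ * Bt f z x) • x

variable {M : Subgroup (GL (ι → Fin k) F)} (S : OddSetting f M) (hodd : Odd (Fintype.card ι))
include S

theorem centre_zero : Centre f M (0 : Vec) := fun _ =>
  ⟨1, M.one_mem, fun z => by rw [smul_zero, add_zero, Units.val_one, one_mulVec]⟩

theorem centre_of_move {g : GG} (hg : g ∈ M) {x : Vec} (hx : Centre f M x) :
    Centre f M ((g : Big) *ᵥ x) := fun γ => by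
  obtain ⟨T, hT, hTz⟩ := hx γ
  refine ⟨g * T * g⁻¹, M.mul_mem (M.mul_mem hg hT) (M.inv_mem hg), fun z => ?_⟩
  conv_rhs => rw [← gl_mulVec_inv g z, S.iso g hg]
  rw [gl_mul_mulVec, gl_mul_mulVec, hTz, mulVec_add, mulVec_smul, gl_mulVec_inv]

theorem centre_smul {x : Vec} (hx : Centre f M x) (t : F) : Centre f M (t • x) := fun γ => by
  obtain ⟨g, hg, hgz⟩ := hx (γ * (t * t))
  exact ⟨g, hg, fun z => by rw [hgz, Bt_smul_right, smul_smul]; congr 2; ring⟩

theorem centre_add_smul {x y : Vec} (hx : Centre f M x) (hy : Centre f M y) (h : Bt f x y ≠ 0) (t : F) :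
    Centre f M (x + t • y) := by
  obtain ⟨g, hg, hgz⟩ := hy (t / Bt f x y)
  have hgx : (g : Big) *ᵥ x = x + t • y := by rw [hgz, div_mul_cancel₀ _ h]
  exact hgx ▸ centre_of_move S hg hx

/-- One centre among the pure tensors gives all of them. -/
theorem centre_pure {v : ι → W1} (hv : ∀ i, v i ≠ 0) (hc : Centre f M (pv v)) (s : ι → W1) :
    Centre f M (pv s) := by
  by_cases hs : ∀ i, s i ≠ 0
  · choose b hb hbv using fun i => exists_move S.hf (hv i) (hs i)
    have hmem : ptGL b ∈ M := Double.ptGL_mem S hb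
    have := centre_of_move S hmem hc
    rw [coe_ptGL, pt_mulVec] at this
    simpa [hbv] using this
  · push Not at hs
    obtain ⟨i, hi⟩ := hs
    have : pv s = 0 := funext fun x => Finset.prod_eq_zero (Finset.mem_univ i) (by simp [hi])
    rw [this]; exact centre_zero S

include hodd

/-- Every vector is a centre. -/
theorem centre_all (hp : ∀ s : ι → W1, Centre f M (pv s)) (x : Vec) : Centre f M x := by
  classical
  have hB := isSymp S.hf S.two hodd (ι := ι)
  have hzero : ∀ w : Vec, (∀ s : ι → W1, Bt f w (pv s) = 0) → w = 0 := fun w hw => by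
    refine Bt_nondeg S.hf fun z => ?_
    rw [hB.skew, neg_eq_zero]
    let L : Vec →+ F := AddMonoidHom.mk' (Bt f w) fun a b => Bt_add_right w a b
    show L z = 0
    rw [← Finset.univ_sum_single z, map_sum]
    refine Finset.sum_eq_zero fun p _ => ?_
    show Bt f w (Pi.single p (z p)) = 0
    rw [show (Pi.single p (z p) : Vec) = z p • Pi.single p 1 by rw [← Pi.single_smul', smul_eq_mul, mul_one],
      Bt_smul_right, ← pv_single p, hw, mul_zero]
  have hlink : ∀ p q : W1, p ≠ 0 → q ≠ 0 → ∃ y, f y p ≠ 0 ∧ f y q ≠ 0 := fun p q hp hq => by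
    obtain ⟨y, hy⟩ := exists_ne S.hf hp
    obtain ⟨z, hz⟩ := exists_ne S.hf hq
    by_cases h1 : f y q ≠ 0
    · exact ⟨y, hy, h1⟩
    by_cases h2 : f z p ≠ 0
    · exact ⟨z, h2, hz⟩
    push Not at h1 h2
    exact ⟨y + z, by rw [S.hf.bilinear.add_left, h2, add_zero]; exact hy,
      by rw [S.hf.bilinear.add_left, h1, zero_add]; exact hz⟩
  have hadd : ∀ x y, Centre f M x → Centre f M y → Centre f M (x + y) := by
    intro x y hx hy
    by_cases hxy : Bt f x y ≠ 0
    · simpa using centre_add_smul S hx hy hxy 1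
    push Not at hxy
    by_cases hdep : x ∈ Submodule.span F {y}
    · obtain ⟨c, rfl⟩ := Submodule.mem_span_singleton.1 hdep
      rw [show c • y + y = (c + 1) • y by module]
      exact centre_smul S hy _
    by_cases hy0 : y = 0
    · rwa [hy0, add_zero]
    obtain ⟨s1, h1⟩ : ∃ s, Bt f y (pv s) ≠ 0 := by
      by_contra hc
      push Not at hc
      exact hy0 (hzero y hc)
    set r := Bt f x (pv s1) / Bt f y (pv s1)
    obtain ⟨s2, h2'⟩ : ∃ s, Bt f (x - r • y) (pv s) ≠ 0 := by
      by_contra hc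
      push Not at hc
      exact hdep (Submodule.mem_span_singleton.2 ⟨r, (sub_eq_zero.1 (hzero _ hc)).symm⟩)
    rw [sub_eq_add_neg, ← neg_smul, Bt_add_left, Bt_smul_left] at h2'
    have key : ∀ z1 z2, Centre f M z1 → Centre f M z2 → Bt f z1 z2 ≠ 0 →
        Bt f x z1 * Bt f y z2 - Bt f y z1 * Bt f x z2 ≠ 0 → Centre f M (x + y) := by
      intro z1 z2 hc1 hc2 h12 hdet
      set δ := Bt f x z1 * Bt f y z2 - Bt f y z1 * Bt f x z2
      set z := ((Bt f y z2 - Bt f x z2) / δ) • z1 + ((Bt f x z1 - Bt f y z1) / δ) • z2 with hz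
      have hxz : Bt f x z = 1 := by
        rw [hz, Bt_add_right, Bt_smul_right, Bt_smul_right]
        field_simp
        simp only [δ]; ring
      have hyz : Bt f y z = 1 := by
        rw [hz, Bt_add_right, Bt_smul_right, Bt_smul_right]
        field_simp
        simp only [δ]; ring
      have hcz : Centre f M z := by
        by_cases hc0 : (Bt f y z2 - Bt f x z2) / δ = 0
        · rw [hz, hc0, zero_smul, zero_add]; exact centre_smul S hc2 _
        · rw [hz]
          exact centre_add_smul S (centre_smul S hc1 _) hc2 (by rw [Bt_smul_left]; exact mul_ne_zero hc0 h12) _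
      have e1 := centre_add_smul S hx hcz (by rw [hxz]; exact one_ne_zero) 1
      rw [one_smul] at e1
      have e2 := centre_add_smul S e1 hy (by
        rw [Bt_add_left, hxy, hB.skew z y, hyz, zero_add]; exact neg_ne_zero.2 one_ne_zero) 1
      rw [one_smul] at e2
      have e3 := centre_add_smul S e2 hcz (by
        rw [Bt_add_left, Bt_add_left, hxz, hyz, hB.alternating, add_zero, one_add_one_eq_two]; exact S.two) (-1)
      rwa [show x + z + y + (-1 : F) • z = x + y by module] at e3
    have hdet : Bt f x (pv s1) * Bt f y (pv s2) - Bt f y (pv s1) * Bt f x (pv s2) ≠ 0 := fun e => h2' (by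
      have hr : r * Bt f y (pv s1) = Bt f x (pv s1) := div_mul_cancel₀ _ h1
      refine mul_left_cancel₀ h1 ?_
      rw [mul_zero]
      linear_combination -e - Bt f y (pv s2) * hr)
    by_cases h12 : Bt f (pv s1) (pv s2) ≠ 0
    · exact key _ _ (hp _) (hp _) h12 hdet
    push Not at h12
    have hne : ∀ s : ι → W1, ∀ a, Bt f a (pv s) ≠ 0 → ∀ i, s i ≠ 0 := fun s a h i e => h (by
      rw [show pv s = (0 : Vec) from funext fun x => Finset.prod_eq_zero (Finset.mem_univ i) (by simp [e]),
        ← zero_smul F (0 : Vec), Bt_smul_right, zero_mul])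
    have hs1 := hne s1 y h1
    have hs2 : ∀ i, s2 i ≠ 0 := fun i e => hdet (by
      rw [show pv s2 = (0 : Vec) from funext fun x => Finset.prod_eq_zero (Finset.mem_univ i) (by simp [e]),
        ← zero_smul F (0 : Vec), Bt_smul_right, Bt_smul_right, zero_mul, zero_mul]; ring)
    choose s3 ha1 ha2 using fun i => hlink (s1 i) (s2 i) (hs1 i) (hs2 i)
    set z1 := pv s1
    set z2 := pv s2
    set z3 := pv s3
    have h31 : Bt f z3 z1 ≠ 0 := by rw [Bt_pv S.hf]; exact Finset.prod_ne_zero_iff.2 fun i _ => ha1 i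
    have h32 : Bt f z3 z2 ≠ 0 := by rw [Bt_pv S.hf]; exact Finset.prod_ne_zero_iff.2 fun i _ => ha2 i
    by_cases hA : Bt f x z1 * Bt f y z3 - Bt f y z1 * Bt f x z3 ≠ 0
    · exact key z1 z3 (hp _) (hp _) (by rw [hB.skew]; exact neg_ne_zero.2 h31) hA
    by_cases hC : Bt f x z3 * Bt f y z2 - Bt f y z3 * Bt f x z2 ≠ 0
    · exact key z3 z2 (hp _) (hp _) h32 hC
    push Not at hA hC
    have hcz : Centre f M (z3 + z1) := by simpa using centre_add_smul S (hp s3) (hp s1) h31 1
    refine key (z3 + z1) z2 hcz (hp _) (by rw [Bt_add_left, h12, add_zero]; exact h32) fun e => hdet ?_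
    rw [Bt_add_right, Bt_add_right] at e
    linear_combination e - hC
  rw [← Finset.univ_sum_single x]
  refine Finset.sum_induction _ _ hadd (centre_zero S) fun p _ => ?_
  rw [show (Pi.single p (x p) : Vec) = x p • Pi.single p 1 by rw [← Pi.single_smul', smul_eq_mul, mul_one],
    ← pv_single p]
  exact centre_smul S (hp _) _

variable [Finite F]

/-- An overgroup is inside the stabiliser or contains all isometries. -/
theorem dichotomy (h3 : 3 ≤ Fintype.card ι) :
    M ≤ stab ι k F ∨ ∀ g : GG, (∀ x y, Bt f ((g : Big) *ᵥ x) ((g : Big) *ᵥ y) = Bt f x y) → g ∈ M := by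
  classical
  by_cases hG : Good f M
  · refine Or.inr fun g hg => ?_
    have heven : ∀ j : ι, Even (Fintype.card {l // l ≠ j}) := fun j => by
      rw [Fintype.card_subtype_compl, Fintype.card_subtype_eq]
      obtain ⟨r, hr⟩ := hodd
      exact ⟨r, by omega⟩
    obtain ⟨v, hv, hx⟩ := GoodCase.exists_transvection S h3 heven hG
    have hB := isSymp S.hf S.two hodd (ι := ι)
    refine Subspaces.SympGen.mem_of_isometry hB (fun x a => ?_) hg
    obtain ⟨T, hT, hTz⟩ := centre_all S hodd (centre_pure S hv hx) x a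
    have : T = tv x (a • formVec (Bt f) x) := gl_ext fun z => by rw [hTz, Subspaces.SympGen.stv_mulVec hB]
    exact this ▸ hT
  · exact Or.inl (Rigid.le_stab S.two _ ι rfl M S.toSetting hG)

end Cfsg.Agent.Lib.TensorSympMax.Full
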