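import Cfsg.Agent.Lib.TensorSympMax.Coef

/-!
An outer radical element yields the transvections at a pure tensor.
-/

set_option autoImplicit false
set_option linter.unusedSectionVars false
set_option linter.style.haveILetI false

namespace Cfsg.Agent.Lib.TensorSympMax.GoodCase

open Matrix
open Cfsg.Agent.Lib.Subspaces.Transvection Cfsg.Agent.Lib.Subspaces.FormVec
  Cfsg.Agent.Lib.TensorPowerMax.Basic Cfsg.Agent.Lib.TensorSympMax.Basic Cfsg.Agent.Lib.TensorSympMax.Quad
  Cfsg.Agent.Lib.TensorSympMax.BlockTo Cfsg.Agent.Lib.TensorSympMax.Atoms Cfsg.Agent.Lib.TensorSympMax.Double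
  Cfsg.Agent.Lib.TensorSympMax.Coef

variable {ι : Type} [Fintype ι] [DecidableEq ι] {k : ℕ} {F : Type*} [Field F]

local notation "A1" => Matrix (Fin k) (Fin k) F
local notation "Big" => Matrix (ι → Fin k) (ι → Fin k) F
local notation "GG" => GL (ι → Fin k) F
local notation "W1" => Fin k → F

variable [Finite F] {f : (Fin k → F) → (Fin k → F) → F} {M : Subgroup (GL (ι → Fin k) F)}
  (S : OddSetting f M) (h3 : 3 ≤ Fintype.card ι) (heven : ∀ j : ι, Even (Fintype.card {l // l ≠ j}))
include S h3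

theorem rs_inv_mulVec (j : ι) (w : W1) (c : F) (z : (ι → Fin k) → F) :
    (((rs f j w c)⁻¹ : GG) : Big) *ᵥ z = z - c • ins j w (ctr j (formVec f w) z) := by
  refine gl_mulVec_injective (rs f j w c) (show (rs f j w c : Big) *ᵥ _ = (rs f j w c : Big) *ᵥ _ from ?_)
  rw [gl_mulVec_inv, rs_mulVec S.hf, map_sub, map_smul, pi_ins S, S.hf.alternating, zero_smul, smul_zero, sub_zero,
    sub_add_cancel]

theorem rs_mem_stab (j : ι) (w : W1) (c : F) : rs f j w c ∈ stab ι k F := oneGL_mem_stab _ _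

/-- A radical coefficient which is not scalar gives a pure tensor of atoms in the coefficients. -/
theorem pure_of_R {j : ι} (hev : Even (Fintype.card {l // l ≠ j})) {w s : W1} (hw : w ≠ 0) (hsw : f s w = 0)
    (hns : s ∉ Submodule.span F {w}) {A : Matrix ({l // l ≠ j} → Fin k) ({l // l ≠ j} → Fin k) F}
    (hA : InR f M j w s A) (hA' : ∀ c : F, A ≠ c • 1) :
    ∃ (T : Finset {l // l ≠ j}) (a : {l // l ≠ j} → A1), T.Nonempty ∧ Pure f T a ∧
      pt a ∈ coefP S (j := j) hw := by
  classical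
  have S₀ : OddSetting f (proj M j) :=
    ⟨proj_setting S.toSetting j h3, S.two, proj_perm S.toSetting S.perm_all j⟩
  have hK := conjInv_R S h3 (j := j) hsw
  haveI : Nonempty (Fin k) := ⟨⟨0, by have := S.two_le; omega⟩⟩
  obtain ⟨η, hη, hηs⟩ := exists_functional hns
  obtain ⟨r, rfl⟩ := formVec_onto S.hf η
  have hwr : f w r = 0 := by rw [← dot S.hf]; exact hη w (Submodule.mem_span_singleton_self w)
  have hsr : f s r = 1 := by rw [← dot S.hf, hηs]
  set g : GG := oneGL j (tv r ((1 : F) • formVec f r))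
  have hb := tv_isometry S.hf r (1 : F)
  have hg : g ∈ M := S.one j _ hb
  have hgi : ∀ z u, (g : Big) *ᵥ ins j z u = ins j ((tv r ((1 : F) • formVec f r) : GL (Fin k) F).val *ᵥ z)
      ((1 : Matrix _ _ F) *ᵥ u) := fun z u => by
    rw [coe_oneGL, TensorPowerMax.Roots.oneM_mulVec_ins, one_mulVec]
  have h0 : ((1 : F) • formVec f r) ⬝ᵥ r = 0 := by rw [smul_dotProduct, formVec_self S.hf, smul_zero]
  have hNw : (tv r ((1 : F) • formVec f r) : GL (Fin k) F).val *ᵥ w = w := by
    rw [tv_mulVec h0, one_smul, dot S.hf, hwr, zero_smul, add_zero]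
  have hNs : (tv r ((1 : F) • formVec f r) : GL (Fin k) F).val *ᵥ s = s + r := by
    rw [tv_mulVec h0, one_smul, dot S.hf, hsr, one_smul]
  have htw : f (s + r) w = 0 := by
    rw [S.hf.bilinear.add_left, hsw, S.hf.skew, hwr, neg_zero, add_zero]
  have hts : f (s + r) s = -1 := by
    rw [S.hf.bilinear.add_left, S.hf.alternating, S.hf.skew, hsr, zero_add]
  have hmove : ∀ {C}, InR f M j w s C → InR f M j w (s + r) C := by
    rintro C ⟨x, hx, C', D, hCC, hxC⟩
    refine ⟨g * x * g⁻¹, M.mul_mem (M.mul_mem hg hx) (M.inv_mem hg), C', D, hCC, fun z => ?_⟩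
    have hm : ∀ a, ctr j (formVec f ((tv r ((1 : F) • formVec f r) : GL (Fin k) F).val *ᵥ a)) z =
        ctr j (formVec f a) (((g⁻¹ : GG) : Big) *ᵥ z) := fun a => by
      have := pi_move S hg (n := fun z => (tv r ((1 : F) • formVec f r) : GL (Fin k) F).val *ᵥ z) (C := 1)
        (fun x y => by simp) hgi a (((g⁻¹ : GG) : Big) *ᵥ z)
      rwa [gl_mulVec_inv, one_mulVec] at this
    rw [gl_mul_mulVec, gl_mul_mulVec, hxC]
    simp only [mulVec_add, gl_mulVec_inv, hgi, one_mulVec, hNw, hNs, ← hm w, ← hm s]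
  obtain ⟨T, a, c, hne, hc, hat, hone, hmem⟩ := exists_pure S.hf (rootInv S₀ hK) S.two hA hA'
  refine (exists_pure_mem S₀ (conjInv_P S h3 hw) hK (fun T T' a b c hc _ ha _ hconj hca hcb => ?_) hev hne
    ⟨hat, hone⟩ hc hmem).imp fun T' h => ?_
  · have hex : ∀ i, ∃ e : F, ∀ x y, f (a i *ᵥ x) y = e * f x (a i *ᵥ y) := fun i => by
      by_cases hi : i ∈ T
      · obtain ⟨e, -, he⟩ := (ha.1 i hi).adj S.hf
        exact ⟨e, he⟩
      · exact ⟨1, fun x y => by rw [ha.2 i hi, one_mulVec, one_mulVec, one_mul]⟩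
    choose e he using hex
    obtain ⟨U, hU, hUb⟩ := hconj
    have h1 := adj_pt S.hf he
    have h2 : Adj f (pt b) ((∏ i, e i) • pt b) := by
      have := h1.conj S.hf (S₀.iso U hU)
      rwa [Matrix.mul_smul, Matrix.smul_mul, ← hUb] at this
    have h4 := el_of_R S hw hsw htw hca (hmove hcb) (h1.smul c) (h2.smul c)
    rw [hts] at h4
    simp only [Matrix.smul_mul, Matrix.mul_smul, smul_smul, ← smul_add] at h4
    refine ((coefP S hw).smul_mem_iff ?_).1 h4
    have hE : (∏ i, e i) ≠ 0 := fun e0 => by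
      obtain ⟨i, -, hi⟩ := Finset.prod_eq_zero_iff.1 e0
      by_cases hiT : i ∈ T
      · obtain ⟨e', he', hadj⟩ := (ha.1 i hiT).adj S.hf
        have hz : a i = 0 := Matrix.mulVec_injective (funext fun x => by
          rw [zero_mulVec]
          by_contra hne
          obtain ⟨y, hy⟩ := exists_ne S.hf hne
          rw [S.hf.skew, neg_ne_zero] at hy
          exact hy (by rw [he, hi, zero_mul]))
        rcases ha.1 i hiT with ⟨v, hv, hav⟩ | ⟨v, v', -, hn, hv, hav⟩
        · obtain ⟨y, hy⟩ := exists_one S.hf hv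
          have := er_mulVec S.hf v y
          rw [← hav, hz, zero_mulVec, hy, one_smul] at this
          exact hv this.symm
        · obtain ⟨y, hy⟩ := exists_one S.hf hv
          have := la_mulVec S.hf v v' y
          rw [← hav, hz, zero_mulVec, hy, one_smul] at this
          exact hn (Submodule.mem_span_singleton.2 ⟨f y v', (sub_eq_zero.1 this.symm)⟩)
      · obtain ⟨x, hx⟩ := exists_one S.hf hw
        have := he i x w
        rw [ha.2 i hiT, one_mulVec, one_mulVec, hi, zero_mul, hx] at this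
        exact one_ne_zero this
    simp [hc, hE]
  · obtain ⟨d, h1, -, h2, h3'⟩ := h
    exact ⟨d, h1, h2, h3'⟩

/-- An outer radical element gives a coefficient which is not scalar. -/
theorem exists_start (hG : Good f M) :
    ∃ (j : ι) (w : W1) (hw : w ≠ 0), (∃ A ∈ coefP S (j := j) hw, ∀ c : F, A ≠ c • 1) ∨
      ∃ s A, f s w = 0 ∧ s ∉ Submodule.span F {w} ∧ InR f M j w s A ∧ ∀ c : F, A ≠ c • 1 := by
  classical
  obtain ⟨j, w, x, hw, hx, hns, hfix, hperp⟩ := hG
  have hf := S.hf
  refine ⟨j, w, hw, ?_⟩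
  obtain ⟨y0, hy0⟩ := exists_one hf hw
  obtain ⟨η, hη⟩ := exists_dot_eq_one hw
  let L : W1 → (({l // l ≠ j} → Fin k) → F) →ₗ[F] ({l // l ≠ j} → Fin k) → F := fun s =>
    (ctr j η).comp ((Matrix.mulVecLin (x : Big) - LinearMap.id).comp (ins j (s - f s w • y0)))
  have hs' : ∀ s, f (s - f s w • y0) w = 0 := fun s => by
    rw [sub_eq_add_neg, ← neg_smul, hf.bilinear.add_left, hf.bilinear.smul_left, hy0]
    ring
  have hL : ∀ s u, (x : Big) *ᵥ ins j (s - f s w • y0) u = ins j (s - f s w • y0) u + ins j w (L s u) :=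
    fun s u => by
      obtain ⟨t, ht⟩ := hperp (ins j (s - f s w • y0) u) (by rw [pi_ins S, hs', zero_smul])
      have e : L s u = t := by
        show ctr j η ((x : Big) *ᵥ _ - _) = t
        simp only [LinearMap.id_coe, id_eq]
        rw [← ht, ctr_ins, hη, one_smul]
      rw [e, ht, add_sub_cancel]
  by_cases hsc : ∃ s, f s w = 0 ∧ ∀ c : F, ∃ u, L s u ≠ c • u
  · obtain ⟨s, hsw, hs⟩ := hsc
    right
    have hss : s - f s w • y0 = s := by rw [hsw, zero_smul, sub_zero]
    have hLs : ∀ u, (x : Big) *ᵥ ins j s u = ins j s u + ins j w (L s u) := fun u => by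
      have := hL s u
      rwa [hss] at this
    set A := LinearMap.toMatrix' (L s)
    have hA : ∀ u, A *ᵥ u = L s u := fun u => LinearMap.toMatrix'_mulVec _ _
    obtain ⟨A', hA'⟩ := exists_adjoint hf A
    have hns' : s ∉ Submodule.span F {w} := fun e => by
      obtain ⟨d, rfl⟩ := Submodule.mem_span_singleton.1 e
      obtain ⟨u, hu⟩ := hs 0
      refine hu (ins_injective hw ?_)
      have := hLs u
      rw [ins_smul, mulVec_smul, hfix, left_eq_add] at this
      rw [this, zero_smul, map_zero]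
    refine ⟨s, A, hsw, hns', ⟨x * rs f j s 1 * x⁻¹ * (rs f j s 1)⁻¹, M.mul_mem (M.mul_mem (M.mul_mem hx
      (S.rs_mem j s 1)) (M.inv_mem hx)) (M.inv_mem (S.rs_mem j s 1)), A', A * A', hA', fun z => ?_⟩,
      fun c e => by obtain ⟨u, hu⟩ := hs c; exact hu (by rw [← hA, e, smul_mulVec, one_mulVec])⟩
    obtain ⟨z', rfl⟩ : ∃ z', (rs f j s 1 : Big) *ᵥ z' = z := ⟨_, gl_mulVec_inv _ z⟩
    have hpi : ctr j (formVec f s) (((x⁻¹ : GG) : Big) *ᵥ z') =
        ctr j (formVec f s) z' + A' *ᵥ ctr j (formVec f w) z' := by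
      refine nondeg_left hf fun u => ?_
      rw [← Bt_ins_right hf, ← S.iso x hx, gl_mulVec_inv, hLs, Bt_add_right, Bt_ins_right hf, Bt_ins_right hf,
        Bt_add_left, ← hA]
      congr 1
      rw [Bt_swap hf, hA', ← Bt_swap hf]
    rw [gl_mul_mulVec, gl_inv_mulVec, gl_mul_mulVec, gl_mul_mulVec, rs_mulVec hf, rs_mulVec hf, one_smul, one_smul,
      hpi, mulVec_add, gl_mulVec_inv, hLs, ← hA]
    simp only [map_add, pi_ins S, hf.alternating, hsw, zero_smul, add_zero, mulVec_add, ← mulVec_mulVec]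
    abel
  push Not at hsc
  left
  obtain ⟨r⟩ := S.rest_nonempty j
  let φ : W1 →ₗ[F] F :=
    { toFun := fun s => L s (Pi.single r 1) r
      map_add' := fun a b => by
        simp only [L, LinearMap.comp_apply]
        rw [show a + b - f (a + b) w • y0 = (a - f a w • y0) + (b - f b w • y0) by
          rw [hf.bilinear.add_left]; module, ins_add_vec, map_add, map_add]
        rfl
      map_smul' := fun c a => by
        simp only [L, LinearMap.comp_apply]
        rw [show c • a - f (c • a) w • y0 = c • (a - f a w • y0) by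
          rw [hf.bilinear.smul_left]; module, ins_smul, map_smul, map_smul]
        rfl }
  obtain ⟨d, hd⟩ := formVec_onto hf fun c => φ (Pi.single c 1)
  have hdφ : ∀ s, f s d = φ s := fun s => by
    rw [← dot hf, hd, dotProduct]
    conv_rhs => rw [← Finset.univ_sum_single s, map_sum]
    refine Finset.sum_congr rfl fun c _ => ?_
    rw [mul_comm, ← smul_eq_mul, ← map_smul]
    congr 1
    rw [← Pi.single_smul', smul_eq_mul, mul_one]
  have hscal : ∀ s, f s w = 0 → ∀ u, L s u = f s d • u := fun s hs u => by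
    obtain ⟨c, hc⟩ := hsc s hs
    rw [hdφ, hc]
    congr 1
    show c = L s (Pi.single r 1) r
    rw [hc]; simp
  have hdw : f d w = 0 := by
    rw [hf.skew, hdφ, neg_eq_zero]
    show L w (Pi.single r 1) r = 0
    have : L w (Pi.single r 1) = 0 := ins_injective hw (by
      have := hL w (Pi.single r 1)
      rw [hf.alternating, zero_smul, sub_zero, hfix, left_eq_add] at this
      rw [this, map_zero])
    rw [this]; rfl
  have hwd : f w d = 0 := by rw [hf.skew, hdw, neg_zero]
  set g : GG := rs f j (w + d) 1 * (rs f j d 1)⁻¹ * (rs f j w 1)⁻¹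
  have hg : g ∈ M := M.mul_mem (M.mul_mem (S.rs_mem _ _ _) (M.inv_mem (S.rs_mem _ _ _))) (M.inv_mem (S.rs_mem _ _ _))
  have hgz : ∀ z, ctr j (formVec f w) z = 0 → (g : Big) *ᵥ z = z + ins j w (ctr j (formVec f d) z) := fun z hz => by
    rw [gl_mul_mulVec, gl_mul_mulVec, rs_inv_mulVec S h3 j w 1 z, hz, map_zero, smul_zero, sub_zero,
      rs_inv_mulVec S h3, rs_mulVec hf, one_smul, one_smul, pi_add S]
    simp only [map_sub, pi_ins S, hz, hf.alternating, hdw, zero_smul, sub_zero, zero_add, ins_add_vec]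
    abel
  have hgfix : ∀ u, (g : Big) *ᵥ ins j w u = ins j w u := fun u => by
    rw [hgz _ (by rw [pi_ins S, hf.alternating, zero_smul]), pi_ins S, hwd, zero_smul, map_zero, add_zero]
  have hker : ∀ z, ctr j (formVec f w) z = 0 → ((g⁻¹ * x : GG) : Big) *ᵥ z = z := fun z hz => by
    rw [gl_mul_mulVec]
    refine gl_mulVec_injective g (show (g : Big) *ᵥ _ = (g : Big) *ᵥ _ from ?_)
    rw [gl_mulVec_inv, hgz z hz]
    let Q : ((ι → Fin k) → F) →ₗ[F] ((ι → Fin k) → F) :=
      LinearMap.id - (ins j y0).comp (ctr j (formVec f w))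
    have h := ins_ext (j := j) (P := (Matrix.mulVecLin (x : Big)).comp Q)
      (Q := Q + ((ins j w).comp (ctr j (formVec f d))).comp Q) (fun a u => by
        have e : Q (ins j a u) = ins j (a - f a w • y0) u := by
          show ins j a u - ins j y0 (ctr j (formVec f w) (ins j a u)) = _
          rw [pi_ins S, map_smul, ← ins_smul, sub_eq_iff_eq_add, ← ins_add_vec, sub_add_cancel]
        show (x : Big) *ᵥ Q (ins j a u) = Q (ins j a u) + ins j w (ctr j (formVec f d) (Q (ins j a u)))
        rw [e, hL, pi_ins S, ← hscal _ (hs' a)]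
        congr 2
        simp only [L, hs' a, zero_smul, sub_zero]) z
    have eq : Q z = z := by
      show z - ins j y0 (ctr j (formVec f w) z) = z
      rw [hz, map_zero, sub_zero]
    simpa [eq] using h
  set x' : GG := g⁻¹ * x
  have hx' : x' ∈ M := M.mul_mem (M.inv_mem hg) hx
  have hblock : ∀ z, ctr j (formVec f w) z = 0 → (x' : Big) *ᵥ z = z := hker
  let B : (({l // l ≠ j} → Fin k) → F) →ₗ[F] ({l // l ≠ j} → Fin k) → F :=
    (ctr j η).comp ((Matrix.mulVecLin (x' : Big) - LinearMap.id).comp (ins j y0))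
  have hel : ∀ z, (x' : Big) *ᵥ z = z + ins j w (LinearMap.toMatrix' B *ᵥ ctr j (formVec f w) z) := fun z => by
    have hz1 : ctr j (formVec f w) (z - ins j y0 (ctr j (formVec f w) z)) = 0 := by
      rw [map_sub, pi_ins S, hy0, one_smul, sub_self]
    have h4 := hblock _ hz1
    rw [mulVec_sub, sub_eq_sub_iff_sub_eq_sub] at h4
    obtain ⟨t, ht⟩ : (x' : Big) *ᵥ z - z ∈ block j w := by
      rw [mem_block_iff hw]
      intro φ hφ
      obtain ⟨a, rfl⟩ := formVec_onto hf φ
      refine Bt_nondeg hf fun u => ?_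
      rw [Bt_swap hf, ← Bt_ins_right hf]
      refine mul_eq_zero_of_right _ ?_
      have hau : ctr j (formVec f w) (ins j a u) = 0 := by
        rw [dot hf] at hφ
        rw [pi_ins S, hf.skew, hφ, neg_zero, zero_smul]
      rw [sub_eq_add_neg, ← neg_one_smul F z, Bt_add_left, Bt_smul_left]
      conv_lhs => arg 1; arg 3; rw [← hblock _ hau]
      rw [S.iso x' hx', neg_one_mul, add_neg_cancel]
    rw [LinearMap.toMatrix'_mulVec]
    show _ = z + ins j w (ctr j η ((x' : Big) *ᵥ ins j y0 _ - ins j y0 _))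
    rw [← h4, ← ht, ctr_ins, hη, one_smul, ht, add_sub_cancel]
  refine ⟨LinearMap.toMatrix' B, ⟨x', hx', hel⟩, fun c e => hns ?_⟩
  have hxs : x' = rs f j w c := gl_ext fun z => by
    rw [hel, e, smul_mulVec, one_mulVec, map_smul, rs_mulVec hf]
  have hgs : g ∈ stab ι k F :=
    mul_mem (mul_mem (rs_mem_stab S h3 _ _ _) (inv_mem (rs_mem_stab S h3 _ _ _))) (inv_mem (rs_mem_stab S h3 _ _ _))
  have := mul_mem hgs (hxs ▸ rs_mem_stab S h3 j w c : x' ∈ stab ι k F)
  rwa [mul_inv_cancel_left] at this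

include heven

/-- All transvections at some pure tensor. -/
theorem exists_transvection (hG : Good f M) :
    ∃ v : ι → W1, (∀ i, v i ≠ 0) ∧ ∀ c : F, ∃ x ∈ M, ∀ z,
      (x : Big) *ᵥ z = z + (c * Bt f z (pv v)) • pv v := by
  classical
  obtain ⟨j, w, hw, h⟩ := exists_start S h3 hG
  have S₀ : OddSetting f (proj M j) :=
    ⟨proj_setting S.toSetting j h3, S.two, proj_perm S.toSetting S.perm_all j⟩
  haveI : Nonempty (Fin k) := ⟨⟨0, by have := S.two_le; omega⟩⟩
  obtain ⟨T, a, hne, ha, haP⟩ : ∃ (T : Finset {l // l ≠ j}) (a : {l // l ≠ j} → A1), T.Nonempty ∧ Pure f T a ∧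
      pt a ∈ coefP S (j := j) hw := by
    rcases h with ⟨A, hA, hA'⟩ | ⟨s, A, hsw, hns, hA, hA'⟩
    · obtain ⟨T, a, c, hne, hc, hat, hone, hmem⟩ := exists_pure S.hf
        (rootInv S₀ (Q := (coefP S (j := j) hw).toAddSubgroup) (conjInv_P S h3 hw)) S.two hA hA'
      exact ⟨T, a, hne, ⟨hat, hone⟩, ((coefP S hw).smul_mem_iff hc).1 hmem⟩
    · exact pure_of_R S h3 (heven j) hw hsw hns hA hA'
  obtain ⟨v, hv, hvP⟩ := exists_all S₀ (conjInv_P S h3 hw) (fun X hX A hA => jordan S hw hX hA) (heven j) hne ha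
    (c := 1) one_ne_zero (by rwa [one_smul])
  set s : ι → W1 := fun i => if h : i = j then w else v ⟨i, h⟩
  have hsj : s j = w := by simp [s]
  have hsr : (fun i : {l // l ≠ j} => s i.1) = v := funext fun i => by simp [s, i.2]
  have hpv : pv s = ins j w (pv v) := by rw [← ins_pv j s, hsj, hsr]
  refine ⟨s, fun i => by simp only [s]; split_ifs; exacts [hw, hv _], fun c => ?_⟩
  obtain ⟨x, hx, hxz⟩ := (coefP S hw).smul_mem c hvP
  refine ⟨x, hx, fun z => ?_⟩
  have hpt : ∀ u, pt (fun i : {l // l ≠ j} => er f (v i)) *ᵥ u = Bt f u (pv v) • pv v := by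
    intro u
    have e : pt (fun i : {l // l ≠ j} => er f (v i)) =
        vecMulVec (pv v) (pv fun i => formVec f (v i)) := by
      ext p q
      simp [pt_apply, pv, er, vecMulVec, Finset.prod_mul_distrib]
    rw [e, vecMulVec_mulVec, op_smul_eq_smul]
    congr 1
    rw [Bt, pt_mulVec, dotProduct_comm]
    congr 2
    funext i
    rw [gram_mulVec S.hf]
  rw [hxz, smul_mulVec, hpt, map_smul, map_smul, ← hpv, smul_smul]
  congr 3
  rw [hpv, ← Bt_ins_right S.hf]

end Cfsg.Agent.Lib.TensorSympMax.GoodCase
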