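import Cfsg.Agent.Lib.TensorSympMax.Full

/-!
The stabiliser of an odd tensor power of an alternating form is maximal in the symplectic group.
-/

set_option autoImplicit false
set_option linter.unusedSectionVars false

namespace Cfsg.Agent.Lib.TensorSympMax.Main

open Matrix
open Cfsg.Agent.Lib.Subspaces.Transvection Cfsg.Agent.Lib.Subspaces.FormVec
  Cfsg.Agent.Lib.TensorPowerMax.Basic Cfsg.Agent.Lib.TensorSympMax.Basic

variable {F : Type*} [Field F] [Finite F] {n : Type} [Fintype n] [DecidableEq n]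

theorem maximal (h2 : (2 : F) ≠ 0) (h : (n → F) → (n → F) → F) (K : Subgroup (GL n F))
    (hK : ∀ g, g ∈ K ↔ ∀ x y, h ((g : Matrix n n F) *ᵥ x) ((g : Matrix n n F) *ᵥ y) = h x y)
    (k t : ℕ) (hk : 4 ≤ k ∨ (k = 2 ∧ 5 ≤ Nat.card F)) (ht : Odd t) (ht3 : 3 ≤ t)
    (e : n ≃ (Fin t → Fin k)) (P : GL n F) (f₁ : (Fin k → F) → (Fin k → F) → F)
    (hf₁ : Cfsg.Geo.IsSymplecticForm f₁) (hT : Cfsg.Geo.IsTensorPowerFormStructure id h f₁ e P) :
    Cfsg.Geo.IsMaximalIn K (Cfsg.Geo.tensorWreathSubgroup k t e P ⊓ K) := by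
  classical
  obtain ⟨c, hc, hcT⟩ := hT
  set φ : GL (Fin t → Fin k) F ≃* GL n F :=
    (Cfsg.Geo.glReindex (F := F) e.symm).trans (MulAut.conj P) with hφ
  let T : ((Fin t → Fin k) → F) →ₗ[F] (n → F) :=
    (Matrix.mulVecLin (P : Matrix n n F)).comp (LinearMap.funLeft F F e)
  have hTapp : ∀ z, T z = (P : Matrix n n F) *ᵥ (z ∘ e) := fun z => rfl
  have hTsurj : Function.Surjective T := fun x =>
    ⟨(((P⁻¹ : GL n F) : Matrix n n F) *ᵥ x) ∘ e.symm, by
      rw [hTapp]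
      conv_rhs => rw [← gl_mulVec_inv P x]
      congr 1
      funext i; simp⟩
  have hφT : ∀ g z, (φ g : Matrix n n F) *ᵥ T z =
      T ((g : Matrix (Fin t → Fin k) (Fin t → Fin k) F) *ᵥ z) := by
    intro g z
    rw [hTapp, hTapp]
    show ((P * Cfsg.Geo.glReindex e.symm g * P⁻¹ : GL n F) : Matrix n n F) *ᵥ _ = _
    rw [gl_mul_mulVec, gl_mul_mulVec, gl_inv_mulVec]
    congr 1
    show (Matrix.reindexAlgEquiv F F e.symm) (g : Matrix (Fin t → Fin k) (Fin t → Fin k) F) *ᵥ _ = _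
    rw [Matrix.coe_reindexAlgEquiv, Matrix.reindex_apply, Equiv.symm_symm, Matrix.submatrix_mulVec_equiv]
    congr 1
    congr 1
    funext p; simp
  have hB : ∀ x y, h (T x) (T y) = c * Bt f₁ x y := fun x y => by
    rw [hTapp, hTapp, hcT, Bt_eq_sum]
    rfl
  have hiso : ∀ g : GL (Fin t → Fin k) F, φ g ∈ K ↔
      ∀ x y, Bt f₁ ((g : Matrix (Fin t → Fin k) (Fin t → Fin k) F) *ᵥ x) ((g : Matrix (Fin t → Fin k) (Fin t → Fin k) F) *ᵥ y) = Bt f₁ x y := by
    intro g
    rw [hK]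
    refine ⟨fun hg x y => mul_left_cancel₀ hc ?_, fun hg u v => ?_⟩
    · rw [← hB, ← hB, ← hφT, ← hφT, hg]
    · obtain ⟨u, rfl⟩ := hTsurj u
      obtain ⟨v, rfl⟩ := hTsurj v
      rw [hφT, hφT, hB, hB, hg]
  have hmem : ∀ x : GL (Fin t → Fin k) F,
      φ x ∈ Cfsg.Geo.tensorWreathSubgroup k t e P ↔ x ∈ stab (Fin t) k F := by
    intro x
    rw [← stab_eq]
    constructor
    · rintro ⟨y, ⟨z, hz, rfl⟩, hy⟩
      have : φ z = φ x := hy
      rwa [← φ.injective this]
    · exact fun hx => ⟨_, ⟨x, hx, rfl⟩, rfl⟩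
  have hk2 : 2 ≤ k := by omega
  have hcard : Fintype.card (Fin t) = t := Fintype.card_fin t
  refine ⟨lt_of_le_of_ne inf_le_right fun heq => ?_, fun M hM hMle => ?_⟩
  · obtain ⟨g, hg, hns⟩ := Full.exists_not_stab (ι := Fin t) hf₁ h2 (by rwa [hcard]) hk2 (by omega)
    have hgK := (hiso g).2 hg
    rw [← heq] at hgK
    exact hns ((hmem g).1 hgK.1)
  · set M' := M.comap φ.toMonoidHom
    have hin : ∀ g : GL (Fin t → Fin k) F, g ∈ stab (Fin t) k F →
        (∀ x y, Bt f₁ ((g : Matrix (Fin t → Fin k) (Fin t → Fin k) F) *ᵥ x) ((g : Matrix (Fin t → Fin k) (Fin t → Fin k) F) *ᵥ y) = Bt f₁ x y) →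
        g ∈ M' := fun g h1 h2' => hM ⟨(hmem g).2 h1, (hiso g).2 h2'⟩
    have hperm : ∀ σ, pmGL σ ∈ M' := fun σ => hin _ (pmGL_mem_stab σ) fun x y => by rw [coe_pmGL]; exact Bt_pm hf₁ σ x y
    have S : OddSetting f₁ M' :=
      { hf := hf₁, two := h2, hk := hk.imp id (fun h => ⟨h.1, h.2, h2⟩), hι := by omega
        iso := fun g hg => (hiso g).1 (hMle (show φ g ∈ M from hg))
        one := fun j b hb => hin _ (oneGL_mem_stab j b) fun x y => by
          rw [coe_oneGL]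
          refine Bt_pt hf₁ (fun i u w => ?_) x y
          rcases eq_or_ne i j with rfl | hi
          · rw [Function.update_self]; exact hb u w
          · rw [Function.update_of_ne hi, Pi.one_apply, one_mulVec, one_mulVec]
        perm := Or.inr hperm
        perm_all := hperm }
    rcases Full.dichotomy S (by rwa [hcard]) (by omega) with hle | hall
    · refine Or.inl (le_antisymm (fun x hx => ⟨?_, hMle hx⟩) hM)
      have := (hmem _).2 (hle (show φ.symm x ∈ M' by show φ (φ.symm x) ∈ M; rwa [φ.apply_symm_apply]))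
      rwa [φ.apply_symm_apply] at this
    · refine Or.inr (le_antisymm hMle fun x hx => ?_)
      have := hall (φ.symm x) ((hiso _).1 (by rwa [φ.apply_symm_apply]))
      have h1 : φ (φ.symm x) ∈ M := this
      rwa [φ.apply_symm_apply] at h1

end Cfsg.Agent.Lib.TensorSympMax.Main
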