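import Cfsg.Agent.Lib.TensorSympMax.OrthWorld
import Cfsg.Agent.Lib.TensorSympMax.AlgTop
import Cfsg.Agent.Lib.TensorSympMax.Coef

/-!
Factors of dimension at least four: a radical element outside the stabiliser gives every coefficient, hence
every Siegel transformation.
-/

set_option autoImplicit false
set_option linter.unusedSectionVars false
set_option linter.style.haveILetI false

namespace Cfsg.Agent.Lib.TensorSympMax.OrthCoef

open Matrix Kronecker
open Cfsg.Agent.Lib.Subspaces.Transvection Cfsg.Agent.Lib.Subspaces.FormVec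
  Cfsg.Agent.Lib.Subspaces.OrthForm
  Cfsg.Agent.Lib.TensorPowerMax.Basic Cfsg.Agent.Lib.TensorSympMax.Basic Cfsg.Agent.Lib.TensorSympMax.OrthWorld
open Cfsg.Agent.Lib.TensorMax.Block (InM el)
open Cfsg.Agent.Lib.TensorMax.Lemmas (tens kron_mulVec_tens)
open Cfsg.Agent.Lib.TensorFormMax.OrthFull (Core ext_tens)
open Cfsg.Agent.Lib.TensorFormMax.Algebra (AllHas Slides)
open Cfsg.Agent.Lib.TensorFormMax.Basic (NoRadical)
open Cfsg.Agent.Lib.TensorSympMax.Atoms (er la Atom)

/-- Multiplying a coefficient by the coefficient of an element of every block. -/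
theorem allHas_mul_el {F : Type*} [Field F] [Finite F] {m k : ℕ} {σ : F →+* F} {ε : F}
    {f₁ : (Fin m → F) → (Fin m → F) → F} {f₂ : (Fin k → F) → (Fin k → F) → F}
    {B : (Fin m × Fin k → F) → (Fin m × Fin k → F) → F} {M : Subgroup (GL (Fin m × Fin k) F)}
    (S : TensorFormMax.Basic.Setting σ ε f₁ f₂ B M) (D : Slides f₂ M) {A X : Matrix (Fin m) (Fin m) F}
    (hA : AllHas f₂ M A) (hX : ∀ t : Fin k → F, t ≠ 0 → f₂ t t = 0 → InM M (el X t (formVec f₂ t))) :
    AllHas f₂ M (A * X) := by
  intro v t ht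
  obtain ⟨w, hw, hwt, hwv⟩ := D.two t v (TensorFormMax.Algebra.pair_symm S ht)
  have hp : TensorFormMax.Radical.Pair f₂ v ((-1 : F) • w) := ⟨ht.ne, ht.left, by
    rw [S.h2.lin.smul_left, S.h2.smul_right, hw, mul_zero, mul_zero],
    by rw [S.h2.lin.smul_left, hwv, mul_zero], fun e => by
      obtain ⟨d, hd⟩ := Submodule.mem_span_singleton.1 e
      have e1 : f₂ (d • v) t = f₂ ((-1 : F) • w) t := by rw [hd]
      rw [S.h2.lin.smul_left, S.h2.lin.smul_left, S.h2.eq_zero_comm ht.orth, hwt, mul_zero, mul_one] at e1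
      exact neg_ne_zero.2 one_ne_zero e1.symm⟩
  exact TensorFormMax.Radical.Has.mul_el S ht.ne ht.left ht.right ht.orth
    (by rw [S.h2.smul_right, S.h2.swap, hwt, map_one, map_neg, map_one]; ring) (hA v _ hp)
    (hX t (TensorFormMax.Algebra.pair_symm S ht).ne ht.right)

variable {ι : Type} [Fintype ι] [DecidableEq ι] {k : ℕ} {F : Type*} [Field F]

local notation "A1" => Matrix (Fin k) (Fin k) F
local notation "Big" => Matrix (ι → Fin k) (ι → Fin k) F
local notation "GG" => GL (ι → Fin k) F
local notation "W1" => Fin k → F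

/-- The coefficient of the other factors is available along every pair. -/
def Av (f : (Fin k → F) → (Fin k → F) → F) (M : Subgroup (GL (ι → Fin k) F)) (j : ι)
    (A : Matrix ({l // l ≠ j} → Fin k) ({l // l ≠ j} → Fin k) F) : Prop :=
  AllHas f (M.comap (phi (ej j)).toMonoidHom) (restMat j A)

variable {Q : ((ι → Fin k) → F) → F} {f : (Fin k → F) → (Fin k → F) → F} {M N : Subgroup (GL (ι → Fin k) F)}
  (W : World Q f M N) (hk : 4 ≤ k) [Finite F]
include W hk

theorem radical_of_good {j : ι} {w : W1} (hw : w ≠ 0) {x : GG} (hx : x ∈ M) (hns : x ∉ stab ι k F)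
    (hfix : ∀ u, (x : Big) *ᵥ ins j w u = ins j w u)
    (hperp : ∀ z, ctr j (formVec f w) z = 0 → (x : Big) *ᵥ z - z ∈ block j w) :
    ¬ NoRadical f (M.comap (phi (ej j)).toMonoidHom) := by
  intro hNR
  have hxM : (phi (ej j)).symm x ∈ M.comap (phi (ej j)).toMonoidHom := by
    show phi (ej j) _ ∈ M
    rw [(phi (ej j)).apply_symm_apply]
    exact hx
  obtain ⟨a, b, hab⟩ := hNR w hw (W.hf.alternating w) _ hxM (fun u => by
      rw [phi_symm_mulVec, tens_ej, hfix, ← tens_ej]
      funext p; simp) fun z hz => by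
    have hz' : ctr j (formVec f w) (z ∘ ej j) = 0 := by
      funext r
      have := congrFun hz (eqv j r)
      simpa [TensorPowerMax.Basic.ctr, TensorMax.Lemmas.ctr, ej, split_symm_self] using this
    obtain ⟨y, hy⟩ := hperp _ hz'
    refine ⟨y ∘ (eqv j).symm, ?_⟩
    have e : tens (y ∘ (eqv j).symm) w ∘ ej j = (x : Big) *ᵥ (z ∘ ej j) - z ∘ ej j := by
      rw [tens_ej, comp_eqv]; exact hy
    rw [phi_symm_mulVec]
    funext p
    have := congrFun e ((ej j).symm p)
    simp only [Function.comp_apply, Pi.sub_apply, Equiv.apply_symm_apply] at this ⊢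
    exact this.symm
  refine hns ?_
  have hins : ∀ z (u : Fin (restDim ι j k) → F), (x : Big) *ᵥ ins j z (u ∘ eqv j) =
      ins j ((b : A1) *ᵥ z) ((a.val *ᵥ u) ∘ eqv j) := fun z u => by
    rw [← tens_ej, ← tens_ej, ← kron_mulVec_tens, ← hab, ← phi_mulVec, (phi (ej j)).apply_symm_apply]
  obtain ⟨ψ, hψ⟩ := exists_dot_eq_one hw
  set d := ψ ⬝ᵥ ((b : A1) *ᵥ w) with hd
  have hau : ∀ u : Fin (restDim ι j k) → F, d • ((a.val *ᵥ u) ∘ eqv j) = u ∘ eqv j := fun u => by
    have := congrArg (ctr j ψ) (hins w u)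
    rw [hfix, ctr_ins, ctr_ins, hψ, one_smul] at this
    exact this.symm
  haveI := W.rest_nonempty j
  have hd0 : d ≠ 0 := fun e => by
    have h1 := congrFun (hau fun _ => 1) (fun _ => ⟨0, by omega⟩)
    rw [e, zero_smul] at h1
    exact zero_ne_one h1
  let dI : GL (Fin k) F := GeneralLinearGroup.mkOfDetNeZero (d⁻¹ • (1 : A1)) (by
    rw [det_smul, det_one, mul_one]; exact pow_ne_zero _ (inv_ne_zero hd0))
  have : x = oneGL j (dI * b) := eq_of_ins (j := j) fun z u => by
    rw [coe_oneGL, TensorPowerMax.Roots.oneM_mulVec_ins, Units.val_mul, ← mulVec_mulVec,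
      show (dI : A1) = d⁻¹ • (1 : A1) from rfl, smul_mulVec, one_mulVec, ins_smul, ← comp_eqv j u, hins]
    conv_rhs => rw [← hau, map_smul, smul_smul, inv_mul_cancel₀ hd0, one_smul]
  rw [this]
  exact oneGL_mem_stab _ _

variable (j : ι)

theorem av_conj {C : GL ({l // l ≠ j} → Fin k) F} (hC : C ∈ proj M j)
    {A : Matrix ({l // l ≠ j} → Fin k) ({l // l ≠ j} → Fin k) F} (hA : Av f M j A) :
    Av f M j (C.val * A * (C⁻¹).val) := by
  have D := W.core_j hk j
  have S := D.setting le_rfl D.isoM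
  have Ds := (TensorFormMax.SympSide.duals D.h2).slides S
  obtain ⟨g, hg, hgC⟩ := (hC : TensorPowerMax.Side.kronGL C 1 ∈ TensorPowerMax.Split.Mj M j)
  have hgC' : spU j g = TensorPowerMax.Side.kronGL C (1 : GL (Fin k) F) := hgC
  have hins := BlockTo.mulVec_ins_of_kron hgC'
  show AllHas f _ _
  rw [map_mul, map_mul]
  refine TensorFormMax.Algebra.allHas_conj S Ds (by rw [← map_mul, ← Units.val_mul, mul_inv_cancel, Units.val_one,
    map_one]) (h := (phi (ej j)).symm g) ?_ (ext_tens fun u z => ?_) hA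
  · show phi (ej j) _ ∈ M
    rw [(phi (ej j)).apply_symm_apply]
    exact hg
  · rw [phi_symm_mulVec, tens_ej, hins, Units.val_one, one_mulVec, kron_mulVec_tens, one_mulVec, ← restMat_mulVec,
      ← tens_ej]
    funext p; simp

theorem oneGL_mem_proj (i : {l // l ≠ j}) (b : GL (Fin k) F)
    (hb : ∀ x y, f ((b : A1) *ᵥ x) ((b : A1) *ᵥ y) = f x y) : oneGL i b ∈ proj M j := by
  show TensorPowerMax.Side.kronGL (oneGL i b) (1 : GL (Fin k) F) ∈ TensorPowerMax.Split.Mj M j
  rw [← TensorPowerMax.Split.spU_oneGL_ne i.2]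
  exact (TensorPowerMax.Split.spU_mem_iff j _).2 (W.one_mem _ b hb)

theorem pmGL_mem_proj (σ : Equiv.Perm {l // l ≠ j}) : pmGL σ ∈ proj M j := by
  rcases Nat.lt_or_ge (Fintype.card ι) 3 with h3 | h3
  · haveI : Subsingleton {l // l ≠ j} := Fintype.card_le_one_iff_subsingleton.1 (by
      rw [Fintype.card_subtype_compl, Fintype.card_subtype_eq]; omega)
    rw [Subsingleton.elim σ 1, map_one]
    exact (proj M j).one_mem
  · exact BlockTo.proj_perm (W.setting (Or.inl hk)) (W.perm_mem h3) j σ

theorem oneInv : AlgTop.OneInv (ι := {l // l ≠ j}) f {A | Av f M j A} := fun i b hb _ hA =>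
  av_conj W hk j (oneGL_mem_proj W hk j i b hb) hA

/-- The coefficients available along every pair, as a group. -/
def avGroup : AddSubgroup (Matrix ({l // l ≠ j} → Fin k) ({l // l ≠ j} → Fin k) F) where
  carrier := {A | Av f M j A}
  zero_mem' := fun v s _ => by
    rw [map_zero]
    exact TensorFormMax.Algebra.has_zero ((W.core_j hk j).setting le_rfl (W.core_j hk j).isoM) v s
  add_mem' := fun {A A'} hA hA' => by
    have D := W.core_j hk j
    have S := D.setting le_rfl D.isoM
    show AllHas f _ _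
    rw [map_add]
    exact TensorFormMax.Algebra.allHas_add S ((TensorFormMax.SympSide.duals D.h2).slides S) hA hA'
  neg_mem' := fun {A} hA => by
    have D := W.core_j hk j
    have S := D.setting le_rfl D.isoM
    show AllHas f _ _
    rw [map_neg, ← neg_one_smul F]
    exact TensorFormMax.Algebra.allHas_smul S ((TensorFormMax.SympSide.duals D.h2).slides S) hA (-1)

theorem av_move {a : {l // l ≠ j} → A1} (ha : Av f M j (pt a)) {g : {l // l ≠ j} → GL (Fin k) F}
    (hg : ∀ i x y, f ((g i : A1) *ᵥ x) ((g i : A1) *ᵥ y) = f x y) :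
    Av f M j (pt fun i => (g i : A1) * a i * (((g i)⁻¹ : GL (Fin k) F) : A1)) := by
  classical
  suffices h : ∀ T : Finset {l // l ≠ j},
      Av f M j (pt fun i => if i ∈ T then (g i : A1) * a i * (((g i)⁻¹ : GL (Fin k) F) : A1) else a i) by
    simpa using h Finset.univ
  intro T
  induction T using Finset.induction_on with
  | empty => simpa using ha
  | insert i T hi ih =>
    have h := oneInv W hk j i (g i) (hg i) _ ih
    rw [AlgTop.oneGL_inv, coe_oneGL, coe_oneGL, Atoms.oneM_mul_pt, Atoms.pt_mul_oneM, Function.update_self,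
      Function.update_idem, if_neg hi] at h
    rwa [show (fun l => if l ∈ insert i T then (g l : A1) * a l * (((g l)⁻¹ : GL (Fin k) F) : A1) else a l) =
      Function.update (fun l => if l ∈ T then (g l : A1) * a l * (((g l)⁻¹ : GL (Fin k) F) : A1) else a l) i
        ((g i : A1) * a i * (((g i)⁻¹ : GL (Fin k) F) : A1)) from funext fun l => by
      by_cases hl : l = i
      · subst hl; simp
      · simp [Finset.mem_insert, hl, Function.update_of_ne hl]]

/-- Adjoints in coordinates. -/
theorem adj_restMat {A A' : Matrix ({l // l ≠ j} → Fin k) ({l // l ≠ j} → Fin k) F}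
    (h : ∀ u u', Bt f (A *ᵥ u) u' = Bt f u (A' *ᵥ u')) :
    TensorFormMax.Radical.AdjPair (restForm f j) (restMat j A) (restMat j A') := fun u u' => by
  show Bt f ((restMat j A *ᵥ u) ∘ eqv j) (u' ∘ eqv j) = Bt f (u ∘ eqv j) ((restMat j A' *ᵥ u') ∘ eqv j)
  rw [restMat_mulVec, restMat_mulVec, h]

/-- In odd characteristic some multiplier of the coefficients is not scalar. -/
theorem exists_multiplier (h2 : (2 : F) ≠ 0) {S : Finset {l // l ≠ j}} {a : {l // l ≠ j} → A1}
    (hne : S.Nonempty) (hat : ∀ i ∈ S, Atom f (a i)) (hone : ∀ i, i ∉ S → a i = 1) (hmem : Av f M j (pt a)) :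
    ∃ X, (∀ c : F, X ≠ c • 1) ∧ ∀ A, Av f M j A → Av f M j (A * X) := by
  classical
  have hf := W.hf
  have D := W.core_j hk j
  have St := D.setting le_rfl D.isoM
  have Ds := (TensorFormMax.SympSide.duals D.h2).slides St
  have hnonscalar : ∀ {X : Matrix ({l // l ≠ j} → Fin k) ({l // l ≠ j} → Fin k) F}
      {z z' : ({l // l ≠ j} → Fin k) → F}, X *ᵥ z ≠ 0 → z' ≠ 0 → X *ᵥ z' = 0 → ∀ c : F, X ≠ c • 1 := by
    intro X z z' hz hz' h0 c e
    subst e
    rw [smul_mulVec, one_mulVec] at h0 hz
    rcases smul_eq_zero.1 h0 with h | h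
    · exact hz (by rw [h, zero_smul])
    · exact hz' h
  -- signs
  set e : {l // l ≠ j} → F := fun i => if i ∈ S ∧ ∃ v, a i = er f v then -1 else 1 with hedef
  have hadj : ∀ i x y, f (a i *ᵥ x) y = e i * f x (a i *ᵥ y) := by
    intro i x y
    by_cases hi : i ∈ S ∧ ∃ v, a i = er f v
    · obtain ⟨hiS, v, hv⟩ := hi
      rw [hedef]
      simp only
      rw [if_pos ⟨hiS, v, hv⟩, hv, Atoms.er_mulVec hf, Atoms.er_mulVec hf, hf.bilinear.smul_left,
        hf.bilinear.smul_right, hf.skew v y]
      ring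
    · rw [hedef]
      simp only
      rw [if_neg hi, one_mul]
      by_cases hiS : i ∈ S
      · rcases hat i hiS with ⟨v, -, hv⟩ | ⟨v, v', -, -, -, hv⟩
        · exact absurd ⟨hiS, v, hv⟩ hi
        · rw [hv, Atoms.la_mulVec hf, Atoms.la_mulVec hf, sub_eq_add_neg, sub_eq_add_neg, ← neg_smul, ← neg_smul]
          simp only [hf.bilinear.add_left, hf.bilinear.smul_left, hf.bilinear.add_right, hf.bilinear.smul_right]
          rw [hf.skew v y, hf.skew v' y]
          ring
      · rw [hone i hiS, one_mulVec, one_mulVec]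
  have hsq : ∀ (T : Finset {l // l ≠ j}), (∏ i ∈ T, e i) = 1 ∨ (∏ i ∈ T, e i) = -1 := by
    intro T
    induction T using Finset.induction_on with
    | empty => simp
    | insert i T hi ih =>
      rw [Finset.prod_insert hi]
      have : e i = 1 ∨ e i = -1 := by rw [hedef]; simp only; split_ifs <;> simp
      rcases this with h | h <;> rcases ih with h' | h' <;> rw [h, h'] <;> simp
  obtain ⟨i1, hi1⟩ := hne
  have hune : ∀ i, ∃ u, a i *ᵥ u ≠ 0 := fun i => by
    by_cases hi : i ∈ S
    · obtain ⟨g, -, u, -, hu, -⟩ := Atom.partner hf (hat i hi)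
      refine ⟨((g : A1) * a i * ((g⁻¹ : GL (Fin k) F) : A1)) *ᵥ u, fun e0 => hu ?_⟩
      rw [← mulVec_mulVec, e0, zero_left hf]
    · exact ⟨Pi.single ⟨0, by omega⟩ 1, by rw [hone i hi, one_mulVec]; simp⟩
  rcases hsq Finset.univ with heps | heps
  · -- selfadjoint
    refine ⟨pt a + pt a, ?_, fun A hA => ?_⟩
    · choose u hu using hune
      refine hnonscalar (z := pv u) (z' := pt a *ᵥ pv u) ?_ ?_ ?_
      · rw [← two_smul F, smul_mulVec, pt_mulVec]
        exact smul_ne_zero h2 (pv_ne_zero hu)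
      · rw [pt_mulVec]; exact pv_ne_zero hu
      · rw [mulVec_mulVec, add_mul, pt_mul, Atoms.pt_eq_zero (i := i1) ((hat i1 hi1).sq hf), add_zero, zero_mulVec]
    · have hA1 : Av f M j 1 := by
        show AllHas f _ _
        rw [map_one]; exact TensorFormMax.Algebra.allHas_one St Ds
      have had : ∀ u u', Bt f (pt a *ᵥ u) u' = Bt f u (pt a *ᵥ u') := fun u u' => by
        rw [Coef.adj_pt hf hadj u u', heps, one_smul]
      show AllHas f _ _
      rw [map_mul]
      refine allHas_mul_el St Ds hA fun t ht htt => ?_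
      have := TensorFormMax.Algebra.el_all St Ds hmem hA1 (adj_restMat W hk j had)
        (adj_restMat W hk j (A := 1) (A' := 1) fun u u' => by rw [one_mulVec, one_mulVec]) ht htt
      rwa [map_one, mul_one, one_mul, ← map_add] at this
  · -- skew: one root
    obtain ⟨i0, hi0, v0, hv0⟩ : ∃ i ∈ S, ∃ v, a i = er f v := by
      by_contra hc
      push Not at hc
      have : ∀ i, e i = 1 := fun i => by
        rw [hedef]; simp only
        rw [if_neg]
        rintro ⟨h1, v, h3⟩
        exact hc i h1 v h3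
      rw [Finset.prod_eq_one fun i _ => this i] at heps
      exact h2 (by linear_combination heps)
    have hv0n : v0 ≠ 0 := fun e0 => by
      obtain ⟨u, hu⟩ := hune i0
      exact hu (by rw [hv0, e0, Atoms.er_mulVec hf, smul_zero])
    have hg : ∀ i, ∃ g : GL (Fin k) F, (∀ x y, f ((g : A1) *ᵥ x) ((g : A1) *ᵥ y) = f x y) ∧
        ∃ u : W1, (a i * ((g : A1) * a i * ((g⁻¹ : GL (Fin k) F) : A1))) *ᵥ u ≠ 0 ∧
          (i = i0 → ((g : A1) * a i * ((g⁻¹ : GL (Fin k) F) : A1) * a i) *ᵥ u = 0) ∧
          (i = i0 → ∃ z : W1, z ≠ 0 ∧ (a i * ((g : A1) * a i * ((g⁻¹ : GL (Fin k) F) : A1))) *ᵥ z = 0 ∧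
            ((g : A1) * a i * ((g⁻¹ : GL (Fin k) F) : A1) * a i) *ᵥ z = 0) := fun i => by
      by_cases hi : i = i0
      · subst hi
        obtain ⟨w, hw⟩ := exists_one hf hv0n
        obtain ⟨g, hg, hgv⟩ := exists_move hf hv0n (show w ≠ 0 from fun e0 => by
          rw [e0, zero_left hf] at hw; exact zero_ne_one hw)
        obtain ⟨z, hz0, hz⟩ := exists_common_zero_not_mem (⊥ : Submodule F W1) ![formVec f v0, formVec f w]
          (by rw [finrank_bot, Fintype.card_fin]; omega)
        have hzv : f z v0 = 0 := by rw [← dot hf]; exact hz 0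
        have hzw : f z w = 0 := by rw [← dot hf]; exact hz 1
        rw [hv0]
        refine ⟨g, hg, v0, ?_, fun _ => ?_, fun _ => ⟨z, fun e0 => hz0 (e0 ▸ Submodule.zero_mem _), ?_, ?_⟩⟩
        · rw [Atoms.conj_er hf hg, hgv, ← mulVec_mulVec, Atoms.er_mulVec hf, Atoms.er_mulVec hf,
            hf.bilinear.smul_left, hw, mul_one, hf.skew, hw, neg_one_smul]
          exact neg_ne_zero.2 hv0n
        all_goals rw [Atoms.conj_er hf hg, hgv, ← mulVec_mulVec, Atoms.er_mulVec hf, Atoms.er_mulVec hf]
        · rw [hf.alternating, zero_smul, zero_left hf, zero_smul]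
        · rw [hzw, zero_smul, zero_left hf, zero_smul]
        · rw [hzv, zero_smul, zero_left hf, zero_smul]
      · by_cases hiS : i ∈ S
        · obtain ⟨g, hg, u, -, hu, -⟩ := Atom.partner hf (hat i hiS)
          exact ⟨g, hg, u, fun e0 => hu (by rw [e0, zero_left hf]), fun h => absurd h hi, fun h => absurd h hi⟩
        · refine ⟨1, fun x y => by rw [Units.val_one, one_mulVec, one_mulVec], Pi.single ⟨0, by omega⟩ 1, ?_,
            fun h => absurd h hi, fun h => absurd h hi⟩
          rw [hone i hiS, one_mul, mul_one, ← Units.val_mul, mul_inv_cancel, Units.val_one, one_mulVec]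
          simp
    choose g hg u hu hu0 hz using hg
    obtain ⟨z0, hz0, hz1, hz2⟩ := hz i0 rfl
    set b : {l // l ≠ j} → A1 := fun i => (g i : A1) * a i * (((g i)⁻¹ : GL (Fin k) F) : A1) with hb
    have hbav : Av f M j (pt b) := av_move W hk j hmem hg
    have hadjb : ∀ i x y, f (b i *ᵥ x) y = e i * f x (b i *ᵥ y) := fun i x y => by
      rw [hb]; simp only
      conv_lhs => rw [← gl_mulVec_inv (g i) y, ← mulVec_mulVec, ← mulVec_mulVec, hg, hadj, ← hg i, gl_mulVec_inv]
      rw [← mulVec_mulVec, ← mulVec_mulVec]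
    refine ⟨-(pt a * pt b + pt b * pt a), ?_, fun A hA => ?_⟩
    · set u' : {l // l ≠ j} → W1 := Function.update u i0 z0
      have hu' : ∀ i, u' i ≠ 0 := fun i => by
        by_cases hi : i = i0
        · subst hi; rw [show u' i = z0 from Function.update_self ..]; exact hz0
        · rw [show u' i = u i from Function.update_of_ne hi ..]
          exact fun e0 => hu i (by rw [e0, mulVec_zero])
      have hp0 : ∀ {c : {l // l ≠ j} → W1}, c i0 = 0 → pv c = 0 := fun {c} hc =>
        funext fun x => Finset.prod_eq_zero (Finset.mem_univ i0) (by rw [hc]; rfl)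
      refine hnonscalar (z := pv u) (z' := pv u') ?_ (pv_ne_zero hu') ?_
      · rw [neg_mulVec, neg_ne_zero, add_mulVec, pt_mul, pt_mul, pt_mulVec, pt_mulVec,
          hp0 (c := fun i => (b * a) i *ᵥ u i) (hu0 i0 rfl), add_zero]
        exact pv_ne_zero hu
      · have e1 : u' i0 = z0 := Function.update_self ..
        rw [neg_mulVec, neg_eq_zero, add_mulVec, pt_mul, pt_mul, pt_mulVec, pt_mulVec,
          hp0 (c := fun i => (a * b) i *ᵥ u' i) (by rw [e1]; exact hz1),
          hp0 (c := fun i => (b * a) i *ᵥ u' i) (by rw [e1]; exact hz2), add_zero]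
    · have had : ∀ (c : {l // l ≠ j} → A1), (∀ i x y, f (c i *ᵥ x) y = e i * f x (c i *ᵥ y)) →
          ∀ p p', Bt f (pt c *ᵥ p) p' = Bt f p ((-pt c) *ᵥ p') := fun c hc p p' => by
        rw [Coef.adj_pt hf hc p p', heps, neg_one_smul]
      show AllHas f _ _
      rw [map_mul]
      refine allHas_mul_el St Ds hA fun t ht htt => ?_
      have := TensorFormMax.Algebra.el_all St Ds hmem hbav (adj_restMat W hk j (had a hadj))
        (adj_restMat W hk j (had b hadjb)) ht htt
      rwa [← map_mul, ← map_mul, ← map_add, mul_neg, mul_neg, ← neg_add] at this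

theorem av_smul {A : Matrix ({l // l ≠ j} → Fin k) ({l // l ≠ j} → Fin k) F} (hA : Av f M j A) (c : F) :
    Av f M j (c • A) := by
  have D := W.core_j hk j
  have S := D.setting le_rfl D.isoM
  show AllHas f _ _
  rw [map_smul]
  exact TensorFormMax.Algebra.allHas_smul S ((TensorFormMax.SympSide.duals D.h2).slides S) hA c

/-- The multipliers of the coefficients. -/
def multipliers : Subalgebra F (Matrix ({l // l ≠ j} → Fin k) ({l // l ≠ j} → Fin k) F) where
  carrier := {X | ∀ A, Av f M j A → Av f M j (A * X)}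
  mul_mem' := fun {X Y} hX hY A hA => by rw [← mul_assoc]; exact hY _ (hX A hA)
  add_mem' := fun {X Y} hX hY A hA => by
    rw [mul_add]; exact (avGroup W hk j).add_mem (hX A hA) (hY A hA)
  algebraMap_mem' c A hA := by
    rw [Algebra.algebraMap_eq_smul_one, Matrix.mul_smul, mul_one]
    exact av_smul W hk j hA c

/-- With a radical element every coefficient is available. -/
theorem av_all (hk6 : (2 : F) = 0 → 6 ≤ k) (hNR : ¬ NoRadical f (M.comap (phi (ej j)).toMonoidHom))
    (A : Matrix ({l // l ≠ j} → Fin k) ({l // l ≠ j} → Fin k) F) : Av f M j A := by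
  classical
  have D := W.core_j hk j
  have S := D.setting le_rfl D.isoM
  have Ds := (TensorFormMax.SympSide.duals D.h2).slides S
  obtain ⟨A0', hA0', hA0⟩ := TensorFormMax.Algebra.exists_nonscalar S Ds hNR
  set A0 := (restMat j).symm A0'
  have hA0av : Av f M j A0 := by
    show AllHas f _ _
    rw [AlgEquiv.apply_symm_apply]; exact hA0
  have hns : ∀ c : F, A0 ≠ c • 1 := fun c e0 => hA0' c (by
    rw [← (restMat j).apply_symm_apply A0', show (restMat j).symm A0' = A0 from rfl, e0, map_smul, map_one])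
  have hA1 : Av f M j 1 := by
    show AllHas f _ _
    rw [map_one]; exact TensorFormMax.Algebra.allHas_one S Ds
  haveI : Nonempty (Fin k) := ⟨⟨0, by omega⟩⟩
  have hperm : ∀ (σ : Equiv.Perm {l // l ≠ j}) B, Av f M j B → Av f M j (pm σ * B * pm σ⁻¹) := fun σ B hB => by
    have := av_conj W hk j (pmGL_mem_proj W hk j σ) hB
    rwa [← map_inv, coe_pmGL, coe_pmGL] at this
  by_cases h2 : (2 : F) = 0
  · -- products along pairs
    set R : Subalgebra F (Matrix ({l // l ≠ j} → Fin k) ({l // l ≠ j} → Fin k) F) :=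
      { carrier := {X | Av f M j X}
        mul_mem' := fun {X Y} hX hY => by
          show AllHas f _ _
          rw [map_mul]
          exact TensorFormMax.Algebra.allHas_mul_of_pairs S Ds (TensorFormMax.SympSide.pairs D.h2 (hk6 h2)) hX hY
        add_mem' := fun {X Y} hX hY => (avGroup W hk j).add_mem hX hY
        algebraMap_mem' := fun c => by
          rw [Algebra.algebraMap_eq_smul_one]
          exact av_smul W hk j hA1 c }
    have := AlgTop.eq_top W.hf (Or.inr (by omega)) R (oneInv W hk j) hperm (show A0 ∈ R from hA0av) hns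
    exact (this.symm ▸ Algebra.mem_top : A ∈ R)
  · obtain ⟨T, a, c, hne, hc, hat, hone, hmem⟩ := Atoms.exists_pure W.hf
      (AlgTop.rootInv W.hf (Q := avGroup W hk j) (oneInv W hk j)) h2 (show A0 ∈ avGroup W hk j from hA0av) hns
    have hpa : Av f M j (pt a) := by
      have := av_smul W hk j (show Av f M j (c • pt a) from hmem) c⁻¹
      rwa [inv_smul_smul₀ hc] at this
    obtain ⟨X, hX, hXR⟩ := exists_multiplier W hk j h2 hne hat hone hpa
    have hinvconj : ∀ {C : GL ({l // l ≠ j} → Fin k) F}, C ∈ proj M j → ∀ Y ∈ multipliers W hk j,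
        C.val * Y * (C⁻¹).val ∈ multipliers W hk j := fun {C} hC Y hY B hB => by
      have h1 := av_conj W hk j ((proj M j).inv_mem hC) hB
      rw [inv_inv] at h1
      have h2 := av_conj W hk j hC (hY _ h1)
      convert h2 using 1
      simp only [← mul_assoc]
      rw [← Units.val_mul, mul_inv_cancel, Units.val_one, one_mul]
    have := AlgTop.eq_top W.hf (Or.inl h2) (multipliers W hk j)
      (fun i b hb Y hY => hinvconj (oneGL_mem_proj W hk j i b hb) Y hY)
      (fun σ Y hY => by
        have := hinvconj (pmGL_mem_proj W hk j σ) Y hY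
        rwa [← map_inv, coe_pmGL, coe_pmGL] at this)
      (show X ∈ multipliers W hk j from hXR) hX
    have h3 := (this.symm ▸ Algebra.mem_top : A ∈ multipliers W hk j) 1 hA1
    rwa [one_mul] at h3

omit j in
/-- A radical element outside the stabiliser gives every Siegel transformation. -/
theorem sieg_all_of_good (hk6 : (2 : F) = 0 → 6 ≤ k) (hG : BlockTo.Good f M) :
    ∀ u w, Q u = 0 → QuadraticMap.polar Q w u = 0 → sieg Q u w ∈ M := by
  obtain ⟨j, w, x, hw, hx, hns, hfix, hperp⟩ := hG
  have hNR := radical_of_good W hk hw hx hns hfix hperp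
  have D := W.core_j hk j
  refine sieg_all W.hQ (ej j) D.hQ (TensorFormMax.OrthPure.full_all D fun A => ?_)
  have := av_all W hk j hk6 hNR ((restMat j).symm A)
  rwa [Av, AlgEquiv.apply_symm_apply] at this

end Cfsg.Agent.Lib.TensorSympMax.OrthCoef
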