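import Cfsg.Agent.Lib.TensorSympMax.OrthWorld
import Cfsg.Agent.Lib.TensorSympMax.Full

/-!
Factors of dimension two in even degree: a radical element outside the stabiliser gives the symplectic group
of all factors but one, and then every Siegel transformation.
-/

set_option autoImplicit false
set_option linter.unusedSectionVars false
set_option linter.style.haveILetI false

namespace Cfsg.Agent.Lib.TensorSympMax.OrthTwo

open Matrix Kronecker
open Cfsg.Agent.Lib.Subspaces.Transvection Cfsg.Agent.Lib.Subspaces.FormVec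
  Cfsg.Agent.Lib.Subspaces.OrthForm
  Cfsg.Agent.Lib.TensorPowerMax.Basic Cfsg.Agent.Lib.TensorSympMax.Basic Cfsg.Agent.Lib.TensorSympMax.OrthWorld
  Cfsg.Agent.Lib.TensorSympMax.Atoms
open Cfsg.Agent.Lib.TensorMax.Block (InM el)
open Cfsg.Agent.Lib.TensorMax.Lemmas (tens el_mulVec kron_mulVec_tens)
open Cfsg.Agent.Lib.TensorFormMax.OrthFull (Core ext_tens)

variable {ι : Type} [Fintype ι] [DecidableEq ι] {k : ℕ} {F : Type*} [Field F]

local notation "A1" => Matrix (Fin k) (Fin k) F
local notation "Big" => Matrix (ι → Fin k) (ι → Fin k) F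
local notation "GG" => GL (ι → Fin k) F
local notation "W1" => Fin k → F

variable [Finite F] {f : (Fin k → F) → (Fin k → F) → F} {M : Subgroup (GL (ι → Fin k) F)}
  (S : OddSetting f M) (hk2 : k = 2) (h4 : 4 ≤ Fintype.card ι) (hev : Even (Fintype.card ι))
include S hk2 h4 hev

/-- In two dimensions the atoms are the roots. -/
theorem atom_root {a : A1} (h : Atom f a) : ∃ v, v ≠ 0 ∧ a = er f v := by
  rcases h with h | ⟨v, v', hvv, hn, hv, -⟩
  · exact h
  exfalso
  obtain ⟨x, hx⟩ := exists_one S.hf hv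
  have hxn : x ∉ Submodule.span F {v} ⊔ Submodule.span F {v'} := fun e' => by
    obtain ⟨p, hp, p', hp', rfl⟩ := Submodule.mem_sup.1 e'
    obtain ⟨c, rfl⟩ := Submodule.mem_span_singleton.1 hp
    obtain ⟨c', rfl⟩ := Submodule.mem_span_singleton.1 hp'
    rw [S.hf.bilinear.add_left, S.hf.bilinear.smul_left, S.hf.bilinear.smul_left, S.hf.alternating,
      S.hf.skew v' v, hvv, mul_zero, neg_zero, mul_zero, add_zero] at hx
    exact zero_ne_one hx
  have h3 := Submodule.finrank_le (Submodule.span F {v} ⊔ Submodule.span F {v'} ⊔ Submodule.span F {x})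
  rw [Submodule.finrank_sup_span_singleton hxn, Submodule.finrank_sup_span_singleton hn,
    finrank_span_singleton hv, Module.finrank_fintype_fun_eq_card, Fintype.card_fin] at h3
  omega

/-- An element acting trivially on some factor and outside the stabiliser of the others. -/
theorem exists_proj (hG : BlockTo.Good f M) : ∃ i, ¬ proj M i ≤ stab {l // l ≠ i} k F := by
  classical
  have h3 : 3 ≤ Fintype.card ι := by omega
  have hf := S.hf
  obtain ⟨j, w, hw, h⟩ := GoodCase.exists_start S h3 hG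
  rcases h with ⟨A, hA, hAns⟩ | ⟨s, A, hsw, hns, -, -⟩
  swap
  · exfalso
    have hws : f w s = 0 := by rw [hf.skew, hsw, neg_zero]
    obtain ⟨v, hv, hla⟩ := atom_root S hk2 h4 hev (show Atom f (la f w s) from Or.inr ⟨w, s, hws, hns, hw, rfl⟩)
    obtain ⟨η, hη, hηs⟩ := exists_functional hns
    obtain ⟨t, rfl⟩ := formVec_onto hf η
    have hwt : f w t = 0 := by rw [← dot hf]; exact hη w (Submodule.mem_span_singleton_self w)
    obtain ⟨x, hx⟩ := exists_one hf hw
    have hxn : x ∉ Submodule.span F {w} ⊔ Submodule.span F {s} := fun e' => by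
      obtain ⟨p, hp, p', hp', rfl⟩ := Submodule.mem_sup.1 e'
      obtain ⟨c, rfl⟩ := Submodule.mem_span_singleton.1 hp
      obtain ⟨c', rfl⟩ := Submodule.mem_span_singleton.1 hp'
      rw [hf.bilinear.add_left, hf.bilinear.smul_left, hf.bilinear.smul_left, hf.alternating, hsw,
        mul_zero, mul_zero, add_zero] at hx
      exact zero_ne_one hx
    have h3' := Submodule.finrank_le (Submodule.span F {w} ⊔ Submodule.span F {s} ⊔ Submodule.span F {x})
    rw [Submodule.finrank_sup_span_singleton hxn, Submodule.finrank_sup_span_singleton hns,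
      finrank_span_singleton hw, Module.finrank_fintype_fun_eq_card, Fintype.card_fin] at h3'
    omega
  have S₀ : OddSetting f (proj M j) :=
    ⟨BlockTo.proj_setting S.toSetting j h3, S.two, BlockTo.proj_perm S.toSetting S.perm_all j⟩
  haveI : Nonempty (Fin k) := ⟨⟨0, by omega⟩⟩
  obtain ⟨T, a, c, hne, hc, hat, hone, hmem⟩ := exists_pure hf
    (Double.rootInv S₀ (Q := (Coef.coefP S (j := j) hw).toAddSubgroup) (Coef.conjInv_P S h3 hw)) S.two hA hAns
  have hpa : Coef.InP f M j w (pt a) := ((Coef.coefP S hw).smul_mem_iff hc).1 hmem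
  choose v hv hav using fun (i : {l // l ≠ j}) (hi : i ∈ T) => atom_root S hk2 h4 hev (hat i hi)
  obtain ⟨x, hx, hxz⟩ := hpa
  obtain ⟨e, he⟩ := exists_one hf hw
  -- the coefficient is self adjoint, hence of even length
  have hself : Coef.Adj f (pt a) (pt a) := fun u u' => by
    have h1 := S.iso x hx (ins j e u) (ins j e u')
    rw [hxz, hxz, ctr_ins, ctr_ins, dot hf, he, one_smul, one_smul, Bt_add_left, Bt_add_right, Bt_add_right,
      Bt_ins_ins hf, Bt_ins_ins hf, Bt_ins_ins hf, Bt_ins_ins hf, he, hf.alternating, hf.alternating,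
      hf.skew w e, he] at h1
    linear_combination -h1
  set sg : {l // l ≠ j} → F := fun i => if i ∈ T then -1 else 1 with hsg
  have hadj : ∀ i x y, f (a i *ᵥ x) y = sg i * f x (a i *ᵥ y) := by
    intro i x y
    simp only [hsg]
    by_cases hi : i ∈ T
    · rw [if_pos hi, hav i hi, er_mulVec hf, er_mulVec hf, hf.bilinear.smul_left, hf.bilinear.smul_right,
        hf.skew (v i hi) y]
      ring
    · rw [if_neg hi, hone i hi, one_mulVec, one_mulVec, one_mul]
  have huniq := Coef.Adj.unique hf hself (Coef.adj_pt hf hadj)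
  have hne0 : ∀ i, ∃ u, a i *ᵥ u ≠ 0 := fun i => by
    by_cases hi : i ∈ T
    · obtain ⟨u, hu⟩ := exists_one hf (hv i hi)
      exact ⟨u, by rw [hav i hi, er_mulVec hf, hu, one_smul]; exact hv i hi⟩
    · exact ⟨Pi.single ⟨0, by omega⟩ 1, by rw [hone i hi, one_mulVec]; simp⟩
  choose u hu using hne0
  have hTeven : Even T.card := by
    by_contra ho
    rw [Nat.not_even_iff_odd] at ho
    have hprod : (∏ i, sg i) = -1 := by
      simp only [hsg, Finset.prod_ite_mem, Finset.univ_inter, Finset.prod_const]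
      exact ho.neg_one_pow
    rw [hprod, neg_one_smul] at huniq
    have h1 : (2 : F) • (pt a *ᵥ pv u) = 0 := by
      rw [two_smul]
      nth_rewrite 2 [huniq]
      rw [neg_mulVec, add_neg_cancel]
    rw [pt_mulVec] at h1
    exact smul_ne_zero S.two (pv_ne_zero hu) h1
  obtain ⟨i, hi⟩ : ∃ i, i ∉ T := by
    by_contra hc'
    push Not at hc'
    rw [Finset.eq_univ_iff_forall.2 hc', Finset.card_univ, Fintype.card_subtype_compl, Fintype.card_subtype_eq]
      at hTeven
    obtain ⟨r, hr⟩ := hev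
    obtain ⟨r', hr'⟩ := hTeven
    omega
  -- the same element seen away from the untouched factor
  set d : ι → A1 := fun l => if h : l = j then er f w else a ⟨l, h⟩ with hd
  have hdi : d i.1 = 1 := by simp only [hd, dif_neg i.2]; exact hone i hi
  have hxd : (x : Big) = 1 + pt d := ext_pv fun s => by
    rw [hxz, add_mulVec, one_mulVec, pt_mulVec, ctr_pv, dot hf, mulVec_smul, pt_mulVec, map_smul]
    congr 1
    rw [← ins_pv j (fun l => d l *ᵥ s l), show d j = er f w from dif_pos rfl, er_mulVec hf, ins_smul]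
    congr 3
    funext l
    simp only [hd, dif_neg l.2]
  set N : Matrix ({l // l ≠ i.1} → Fin k) ({l // l ≠ i.1} → Fin k) F := pt fun l => d l.1 with hN
  have hjT : ∀ l : {l // l ≠ i.1}, (∀ h : l.1 ≠ j, (⟨l.1, h⟩ : {l // l ≠ j}) ∈ T) → ∃ v0, v0 ≠ 0 ∧ d l.1 = er f v0 := by
    intro l h
    by_cases hl : l.1 = j
    · exact ⟨w, hw, dif_pos hl⟩
    · exact ⟨v _ (h hl), hv _ _, by simp only [hd, dif_neg hl]; exact hav _ (h hl)⟩
  set lj : {l // l ≠ i.1} := ⟨j, fun e0 => i.2 e0.symm⟩
  have hlj : d lj.1 = er f w := dif_pos rfl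
  have hNN : N * N = 0 := by
    rw [hN, pt_mul]
    refine pt_eq_zero (i := lj) ?_
    show d lj.1 * d lj.1 = 0
    rw [hlj]
    exact (show Atom f (er f w) from Or.inl ⟨w, hw, rfl⟩).sq hf
  let C : GL ({l // l ≠ i.1} → Fin k) F :=
    ⟨1 + N, 1 - N, by rw [add_mul, one_mul, mul_sub, mul_one, hNN, sub_zero, sub_add_cancel],
      by rw [sub_mul, one_mul, mul_add, mul_one, hNN, add_zero, add_sub_cancel_right]⟩
  have hCproj : C ∈ proj M i.1 := by
    show TensorPowerMax.Side.kronGL C (1 : GL (Fin k) F) ∈ TensorPowerMax.Split.Mj M i.1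
    have e1 : spU i.1 x = TensorPowerMax.Side.kronGL C (1 : GL (Fin k) F) := Units.ext (by
      show (spU i.1 x).val = (1 + N) ⊗ₖ (1 : A1)
      rw [coe_spU, hxd, map_add, map_one, sp_pt, hdi, add_kronecker, one_kronecker_one])
    rw [← e1]
    exact (TensorPowerMax.Split.spU_mem_iff _ x).2 hx
  refine ⟨i.1, fun hle => ?_⟩
  obtain ⟨b, σ, hC⟩ := hle hCproj
  obtain ⟨i1, hi1⟩ := hne
  -- two pure tensors
  have hr : ∀ l : {l // l ≠ i.1}, ∃ r : W1, r ≠ 0 ∧ d l.1 *ᵥ r ≠ 0 ∧
      ((∀ h : l.1 ≠ j, (⟨l.1, h⟩ : {l // l ≠ j}) ∈ T) → d l.1 *ᵥ r ∉ Submodule.span F {r} ∧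
        r ∉ Submodule.span F {d l.1 *ᵥ r}) := by
    intro l
    by_cases hh : ∀ h : l.1 ≠ j, (⟨l.1, h⟩ : {l // l ≠ j}) ∈ T
    · obtain ⟨v0, hv0, hd0⟩ := hjT l hh
      obtain ⟨r, hr⟩ := exists_one hf hv0
      have hr0 : r ≠ 0 := fun e0 => by rw [e0, zero_left hf] at hr; exact zero_ne_one hr
      refine ⟨r, hr0, ?_⟩
      rw [hd0, er_mulVec hf, hr, one_smul]
      refine ⟨hv0, fun _ => ⟨fun e0 => ?_, fun e0 => ?_⟩⟩
      · obtain ⟨q, hq⟩ := Submodule.mem_span_singleton.1 e0
        rw [← hq, hf.bilinear.smul_right, hf.alternating, mul_zero] at hr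
        exact zero_ne_one hr
      · obtain ⟨q, hq⟩ := Submodule.mem_span_singleton.1 e0
        rw [← hq, hf.bilinear.smul_left, hf.alternating, mul_zero] at hr
        exact zero_ne_one hr
    · push Not at hh
      obtain ⟨hlj', hlT⟩ := hh
      refine ⟨Pi.single ⟨0, by omega⟩ 1, by simp, ?_, fun h => absurd (h hlj') hlT⟩
      simp only [hd, dif_neg hlj']
      rw [hone _ hlT, one_mulVec]
      simp
  choose r hr0 hr1 hr2 using hr
  set l1 : {l // l ≠ i.1} := ⟨i1.1, fun e0 => hi (by rw [show i = i1 from Subtype.ext e0.symm]; exact hi1)⟩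
  have hl1 : ∀ h : l1.1 ≠ j, (⟨l1.1, h⟩ : {l // l ≠ j}) ∈ T := fun _ => hi1
  have hlj2 : ∀ h : lj.1 ≠ j, (⟨lj.1, h⟩ : {l // l ≠ j}) ∈ T := fun h => absurd rfl h
  have himg : C.val *ᵥ pv r = pv r + pv fun l => d l.1 *ᵥ r l := by
    show (1 + N) *ᵥ pv r = _
    rw [add_mulVec, one_mulVec, hN, pt_mulVec]
  rw [hC, tw_mulVec, ← one_smul F (pv r), ← one_smul F (pv fun l => d l.1 *ᵥ r l)] at himg
  exact not_pure_of_two one_ne_zero one_ne_zero himg.symm hr0 hr1
    (i := lj) (j := l1) (fun e0 => i1.2 (congrArg Subtype.val e0).symm)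
    (hr2 lj hlj2).1 (hr2 lj hlj2).2 (hr2 l1 hl1).1

omit hev in
/-- All isometries away from one factor give every Siegel transformation. -/
theorem sieg_all_of_proj {Q : ((ι → Fin k) → F) → F} {N : Subgroup GG} (W : World Q f M N) (i : ι)
    (hall : ∀ C : GL ({l // l ≠ i} → Fin k) F,
      (∀ x y, Bt f (C.val *ᵥ x) (C.val *ᵥ y) = Bt f x y) → C ∈ proj M i) :
    ∀ u w, Q u = 0 → QuadraticMap.polar Q w u = 0 → sieg Q u w ∈ M := by
  classical
  have hf := S.hf
  have hq : 5 ≤ Nat.card F := by rcases S.hk with h | ⟨-, h, -⟩ <;> omega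
  haveI := W.rest_nonempty i
  have hodd : Odd (Fintype.card {l // l ≠ i}) := by
    rw [Fintype.card_subtype_compl, Fintype.card_subtype_eq]
    rcases W.parity with h | ⟨r, hr⟩
    · exact absurd h S.two
    · exact ⟨r - 1, by omega⟩
  have hB := isSymp_Bt hf (ι := {l // l ≠ i}) (Or.inr hodd)
  have hdim : 8 ≤ restDim ι i k := by
    show 8 ≤ Fintype.card ({l // l ≠ i} → Fin k)
    rw [Fintype.card_fun, Fintype.card_fin, hk2, Fintype.card_subtype_compl, Fintype.card_subtype_eq]
    calc (8 : ℕ) = 2 ^ 3 := by norm_num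
      _ ≤ 2 ^ (Fintype.card ι - 1) := Nat.pow_le_pow_right (by norm_num) (by omega)
  have F' := W.frame_j' i
  have D : Core (pull Q (ej' i)) f (restForm f i) (M.comap (phi (ej' i)).toMonoidHom) :=
    { toFrame := F'
      isoM := fun g hg x => by
        show Q ((_ *ᵥ x) ∘ ej' i) = Q (x ∘ ej' i)
        rw [← phi_mulVec]
        exact W.isoM _ hg _
      root := fun v c => by
        obtain ⟨g, hg, hgz⟩ := Coef.proj_elim S (hall _ (Subspaces.SympGen.stv_isometry hB (v ∘ eqv i) c))
        refine ⟨(phi (ej' i)).symm g, ?_, ext_tens fun z u => ?_⟩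
        · show phi (ej' i) _ ∈ M
          rw [(phi (ej' i)).apply_symm_apply]
          exact hg
        · rw [phi_symm_mulVec, tens_ej', hgz, Subspaces.SympGen.stv_mulVec hB, map_add, map_smul, add_mulVec,
            one_mulVec, el_mulVec, F'.ctr_tens', smul_mulVec, one_mulVec, ← tens_ej', ← tens_ej']
          funext p
          simp only [Pi.add_apply, Function.comp_apply, Pi.smul_apply, smul_eq_mul, TensorMax.Lemmas.tens,
            Equiv.apply_symm_apply, restForm]
          ring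
      hm := by omega
      hk := by omega }
  have hleft : ∀ g g' : A1, g * g' = 1 → (∀ x y, f (g *ᵥ x) (g *ᵥ y) = f x y) →
      ∃ h ∈ M.comap (phi (ej' i)).toMonoidHom, (h : Matrix (Fin k × Fin (restDim ι i k)) _ F) =
        g ⊗ₖ (1 : Matrix (Fin (restDim ι i k)) (Fin (restDim ι i k)) F) := fun g g' hgg hiso => by
    let b : GL (Fin k) F := ⟨g, g', hgg, mul_eq_one_comm.1 hgg⟩
    refine ⟨(phi (ej' i)).symm (oneGL i b), ?_, ext_tens fun z u => ?_⟩
    · show phi (ej' i) _ ∈ M
      rw [(phi (ej' i)).apply_symm_apply]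
      exact S.one i b hiso
    · rw [phi_symm_mulVec, tens_ej', coe_oneGL, TensorPowerMax.Roots.oneM_mulVec_ins, kron_mulVec_tens,
        one_mulVec, ← tens_ej']
      funext p; simp [b]
  have hex : 3 ≤ k ∨ ∃ c : F, c ≠ 0 ∧ c ≠ 1 := Or.inr ⟨2, S.two, fun e => by
    apply one_ne_zero (α := F); linear_combination e⟩
  rcases TensorFormMax.OrthPure.dichotomy_core D (by omega) (by omega) hleft hex with h | h
  · exfalso
    obtain ⟨l, hl⟩ := Fintype.exists_ne_of_one_lt_card (α := ι) (by omega) i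
    set σ : Equiv.Perm ι := Equiv.swap i l
    obtain ⟨a, b, hab⟩ := h (show (phi (ej' i)).symm (pmGL σ) ∈ M.comap (phi (ej' i)).toMonoidHom by
      show phi (ej' i) _ ∈ M
      rw [(phi (ej' i)).apply_symm_apply]
      exact S.perm_all σ)
    set o : W1 := Pi.single ⟨0, by omega⟩ 1
    have ho : o ≠ 0 := by simp [o]
    have hins : ∀ u : Fin (restDim ι i k) → F, ((pmGL σ : GG) : Big) *ᵥ ins i o (u ∘ eqv i) =
        ins i ((a : A1) *ᵥ o) ((b.val *ᵥ u) ∘ eqv i) := fun u => by
      rw [← tens_ej', ← tens_ej', ← kron_mulVec_tens, ← hab, ← phi_mulVec, (phi (ej' i)).apply_symm_apply]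
    refine BlockTo.block_not_le (v := o) (by omega) (show σ i ≠ i by rw [Equiv.swap_apply_left]; exact hl) ho
      (gl_ne_zero a ho) fun u => ?_
    have h1 := TensorPowerMax.Roots.tw_mulVec_block (1 : ι → GL (Fin k) F) σ
      (z := ins i o ((((b⁻¹ : GL (Fin (restDim ι i k)) F)).val *ᵥ (u ∘ (eqv i).symm)) ∘ eqv i)) ho
      (LinearMap.mem_range_self _ _)
    rw [map_one, one_mul, hins, gl_mulVec_inv, comp_eqv, Pi.one_apply, Units.val_one, one_mulVec] at h1
    exact h1
  · exact sieg_all W.hQ (ej' i) F'.hQ h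

/-- A radical element outside the stabiliser gives every Siegel transformation. -/
theorem sieg_all_of_good {Q : ((ι → Fin k) → F) → F} {N : Subgroup GG} (W : World Q f M N)
    (hG : BlockTo.Good f M) :
    ∀ u w, Q u = 0 → QuadraticMap.polar Q w u = 0 → sieg Q u w ∈ M := by
  obtain ⟨i, hi⟩ := exists_proj S hk2 h4 hev hG
  have h3 : 3 ≤ Fintype.card ι := by omega
  have S₀ : OddSetting f (proj M i) :=
    ⟨BlockTo.proj_setting S.toSetting i h3, S.two, BlockTo.proj_perm S.toSetting S.perm_all i⟩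
  have hcard : Fintype.card {l // l ≠ i} = Fintype.card ι - 1 := by
    rw [Fintype.card_subtype_compl, Fintype.card_subtype_eq]
  have hodd : Odd (Fintype.card {l // l ≠ i}) := by
    obtain ⟨r, hr⟩ := hev
    exact ⟨r - 1, by omega⟩
  exact sieg_all_of_proj S hk2 h4 W i
    ((Full.dichotomy S₀ hodd (by omega)).resolve_left hi)

end Cfsg.Agent.Lib.TensorSympMax.OrthTwo
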