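import Cfsg.Agent.Lib.TensorSympMax.OrthCoef
import Cfsg.Agent.Lib.TensorSympMax.OrthTwo
import Cfsg.Agent.Lib.TensorSympMax.Rigid
import Cfsg.Agent.Lib.TensorSympMax.Even
import Cfsg.Agent.Lib.Subspaces.OmegaGL
import Cfsg.Agent.Lib.Symplectic.Order

/-!
The stabiliser of a tensor power of an alternating form is maximal in the orthogonal group.
-/

set_option autoImplicit false
set_option linter.unusedSectionVars false
set_option linter.style.haveILetI false

namespace Cfsg.Agent.Lib.TensorSympMax.OrthMain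

open Matrix
open Cfsg.Agent.Lib.Subspaces.Transvection Cfsg.Agent.Lib.Subspaces.FormVec
  Cfsg.Agent.Lib.Subspaces.OrthForm Cfsg.Agent.Lib.Subspaces.OmegaGL
  Cfsg.Agent.Lib.TensorPowerMax.Basic Cfsg.Agent.Lib.TensorSympMax.Basic Cfsg.Agent.Lib.TensorSympMax.OrthWorld

section Strict

variable {ι : Type} [Fintype ι] [DecidableEq ι] {k : ℕ} {F : Type*} [Field F]
  {Q : ((ι → Fin k) → F) → F} {f : (Fin k → F) → (Fin k → F) → F} {M N : Subgroup (GL (ι → Fin k) F)}

local notation "W1" => Fin k → F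

/-- Some Siegel transformation is outside the stabiliser. -/
theorem exists_not_stab (W : World Q f M N) [Finite F] (hk : 4 ≤ k ∨ 3 ≤ Fintype.card ι) :
    ∃ g ∈ N, g ∉ stab ι k F := by
  classical
  have hf := W.hf
  have hk2 := W.two_le
  have hι := W.hι
  set v : W1 := Pi.single ⟨0, by omega⟩ 1
  have hv : v ≠ 0 := by simp [v]
  obtain ⟨w, hw⟩ := exists_one hf hv
  have hw0 : w ≠ 0 := fun e => by rw [e, zero_left hf] at hw; exact zero_ne_one hw
  have hvw : v ∉ Submodule.span F {w} := fun e => by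
    obtain ⟨d, hd⟩ := Submodule.mem_span_singleton.1 e
    have hd' : f (d • w) v = 0 := by rw [hd]; exact hf.alternating v
    rw [hf.bilinear.smul_left, hw, mul_one] at hd'
    exact hv (by rw [← hd, hd', zero_smul])
  obtain ⟨i, l, hil⟩ := Fintype.exists_pair_of_one_lt_card (α := ι) (by omega)
  -- the changed factor and two factors where the tensors differ
  obtain ⟨s₀, hs₀, hs₀w, a, b, hab, hda, hdb⟩ : ∃ s₀ : W1, s₀ ≠ 0 ∧ f w s₀ = 0 ∧ ∃ a b : ι, a ≠ b ∧
      Function.update (fun _ => v) i s₀ a ∉ Submodule.span F {w} ∧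
      Function.update (fun _ => v) i s₀ b ∉ Submodule.span F {w} := by
    rcases hk with hk | hk
    · obtain ⟨s, hsn, hs⟩ := exists_common_zero_not_mem (Submodule.span F {w}) ![formVec f w]
        (by rw [finrank_span_singleton hw0, Fintype.card_fin]; omega)
      refine ⟨s, fun e => hsn (e ▸ Submodule.zero_mem _), by rw [hf.skew, ← dot hf, show formVec f w ⬝ᵥ s = 0 from hs 0, neg_zero], i, l, hil, ?_, ?_⟩
      · rwa [Function.update_self]
      · rwa [Function.update_of_ne hil.symm]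
    · obtain ⟨b, hb⟩ : ∃ b, b ∉ ({i, l} : Finset ι) := by
        by_contra hc
        push Not at hc
        have h1 : (Finset.univ : Finset ι) ⊆ {i, l} := fun x _ => hc x
        have h2 := Finset.card_le_card h1
        rw [Finset.card_univ] at h2
        have h3' := Finset.card_le_two (a := i) (b := l)
        omega
      simp only [Finset.mem_insert, Finset.mem_singleton, not_or] at hb
      exact ⟨w, hw0, hf.alternating w, l, b, Ne.symm hb.2, by rwa [Function.update_of_ne hil.symm],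
        by rwa [Function.update_of_ne hb.1]⟩
  set s : ι → W1 := Function.update (fun _ => v) i s₀ with hs
  have hsne : ∀ j, s j ≠ 0 := fun j => by
    by_cases hj : j = i
    · subst hj; rwa [hs, Function.update_self]
    · rwa [hs, Function.update_of_ne hj]
  have hperp : QuadraticMap.polar Q (pv s) (pv fun _ : ι => v) = 0 := by
    rw [W.hpol, Bt_pv hf]
    exact Finset.prod_eq_zero (Finset.mem_univ l) (by rw [hs, Function.update_of_ne hil.symm]; exact hf.alternating v)
  refine ⟨sieg Q (pv fun _ : ι => v) (pv s), W.hsieg _ _ (W.pure _) hperp, ?_⟩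
  rintro ⟨c, σ, hg⟩
  have h1 := sieg_mulVec W.hQ (W.pure fun _ : ι => v) hperp (pv fun _ : ι => w)
  rw [hg, tw_mulVec, W.hpol, W.hpol, Bt_pv hf, Bt_pv hf, Finset.prod_eq_one (fun _ _ => hw), W.pure,
    Finset.prod_eq_zero (Finset.mem_univ i) (show f w (s i) = 0 by rw [hs, Function.update_self, hs₀w]),
    neg_zero, zero_mul, sub_zero, zero_smul, add_zero, ← one_smul F (pv fun _ : ι => w)] at h1
  exact not_pure_of_two one_ne_zero one_ne_zero h1.symm (fun _ => hw0) hsne hab hda
    (Quad.span_swap hw0 hda) hdb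

end Strict

/-- The maximality. -/
theorem maximal {F : Type*} [Field F] [Fintype F] {n : ℕ} (hn : 13 ≤ n) (Q : (Fin n → F) → F)
    (hQ : Cfsg.Geo.IsNondegenerateQuadraticForm Q) (k t : ℕ) (ht : 2 ≤ t)
    (hparity : (2 : F) = 0 ∨ Even t) (hk6 : (2 : F) = 0 → 6 ≤ k) (hex : k = 2 → 5 ≤ Fintype.card F)
    (e : Fin n ≃ (Fin t → Fin k)) (P : GL (Fin n) F)
    (f : (Fin k → F) → (Fin k → F) → F) (hf : Cfsg.Geo.IsSymplecticForm f)
    (hT : Cfsg.Geo.IsTensorPowerFormStructure id (QuadraticMap.polar Q) f e P)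
    (hpure : ∀ xs : Fin t → (Fin k → F), Q (Matrix.mulVec (P : Matrix (Fin n) (Fin n) F)
      ((fun a : Fin t → Fin k => ∏ i, xs i (a i)) ∘ e)) = 0) :
    Cfsg.Geo.IsMaximalIn (Cfsg.Geo.omegaGL Q)
      (Cfsg.Geo.tensorWreathSubgroup k t e P ⊓ Cfsg.Geo.omegaGL Q) := by
  classical
  obtain ⟨c, hc, hcT⟩ := hT
  set φ : GL (Fin t → Fin k) F ≃* GL (Fin n) F :=
    (Cfsg.Geo.glReindex (F := F) e.symm).trans (MulAut.conj P) with hφ
  let T : ((Fin t → Fin k) → F) →ₗ[F] (Fin n → F) :=
    (Matrix.mulVecLin (P : Matrix (Fin n) (Fin n) F)).comp (LinearMap.funLeft F F e)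
  have hTapp : ∀ z, T z = (P : Matrix (Fin n) (Fin n) F) *ᵥ (z ∘ e) := fun z => rfl
  have hTinj : Function.Injective T := fun a b h => by
    have := gl_mulVec_injective P (show (P : Matrix (Fin n) (Fin n) F) *ᵥ (a ∘ e) = _ *ᵥ (b ∘ e) from h)
    funext p
    simpa using congrFun this (e.symm p)
  have hTsurj : Function.Surjective T := fun x =>
    ⟨(((P⁻¹ : GL (Fin n) F) : Matrix (Fin n) (Fin n) F) *ᵥ x) ∘ e.symm, by
      rw [hTapp]
      conv_rhs => rw [← gl_mulVec_inv P x]
      congr 1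
      funext i; simp⟩
  have hφT : ∀ g z, (φ g : Matrix (Fin n) (Fin n) F) *ᵥ T z =
      T ((g : Matrix (Fin t → Fin k) (Fin t → Fin k) F) *ᵥ z) := by
    intro g z
    rw [hTapp, hTapp]
    show ((P * Cfsg.Geo.glReindex e.symm g * P⁻¹ : GL (Fin n) F) : Matrix (Fin n) (Fin n) F) *ᵥ _ = _
    rw [gl_mul_mulVec, gl_mul_mulVec, gl_inv_mulVec]
    congr 1
    show (Matrix.reindexAlgEquiv F F e.symm) (g : Matrix (Fin t → Fin k) (Fin t → Fin k) F) *ᵥ _ = _
    rw [Matrix.coe_reindexAlgEquiv, Matrix.reindex_apply, Equiv.symm_symm, Matrix.submatrix_mulVec_equiv]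
    congr 1
    congr 1
    funext p; simp
  set Q' : ((Fin t → Fin k) → F) → F := fun z => c⁻¹ * Q (T z) with hQ'
  have hB' : ∀ x y, QuadraticMap.polar Q' x y = c⁻¹ * QuadraticMap.polar Q (T x) (T y) := fun x y => by
    simp only [QuadraticMap.polar, hQ', map_add]; ring
  have hb := hQ.polar_bilinear
  have hc' : c⁻¹ ≠ 0 := inv_ne_zero hc
  have hQn : Cfsg.Geo.IsNondegenerateQuadraticForm Q' := by
    refine ⟨fun a z => ?_, ⟨fun x y v => ?_, fun a x v => ?_, fun v x y => ?_, fun a v x => ?_⟩, fun v hv => ?_⟩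
    · rw [hQ']; dsimp only; rw [map_smul, hQ.smul]; ring
    · rw [hB', hB', hB', map_add, hb.add_left]; ring
    · rw [hB', hB', map_smul, hb.smul_left]; ring
    · rw [hB', hB', hB', map_add, hb.add_right]; ring
    · rw [hB', hB', map_smul, hb.smul_right]; ring
    · obtain ⟨⟨x, hx⟩, ⟨y, hy⟩⟩ := hQ.nondegenerate (T v) (fun h0 => hv (hTinj (by rw [h0, map_zero])))
      obtain ⟨x, rfl⟩ := hTsurj x
      obtain ⟨y, rfl⟩ := hTsurj y
      exact ⟨⟨x, by rw [hB']; exact mul_ne_zero hc' hx⟩, ⟨y, by rw [hB']; exact mul_ne_zero hc' hy⟩⟩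
  have hpol : ∀ x y, QuadraticMap.polar Q' x y = Bt f x y := fun x y => by
    rw [hB', hTapp, hTapp, hcT, Bt_eq_sum, inv_mul_cancel_left₀ hc]
    rfl
  have hn5 : 5 ≤ Fintype.card (Fin n) := by rw [Fintype.card_fin]; omega
  have hcard : k ^ t = n := by simpa using (Fintype.card_congr e).symm
  obtain ⟨d, hd⟩ : Even k := by
    simpa using Cfsg.Agent.Lib.Symplectic.even_finrank (Cfsg.Agent.Lib.Subspaces.SympGen.toBilin_isSymp hf)
  have hk2 : 2 ≤ k := by
    by_contra h
    obtain rfl : k = 0 := by omega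
    rw [zero_pow (by omega)] at hcard
    omega
  have hk4 : k = 2 → 4 ≤ t := fun h => by
    by_contra h'
    subst h
    have := Nat.pow_le_pow_right (show 0 < 2 by norm_num) (show t ≤ 3 by omega)
    omega
  have hks : 4 ≤ k ∨ (k = 2 ∧ 5 ≤ Nat.card F ∧ (2 : F) ≠ 0) := by
    by_cases h : k = 2
    · exact Or.inr ⟨h, by rw [Nat.card_eq_fintype_card]; exact hex h, fun e0 => by have := hk6 e0; omega⟩
    · exact Or.inl (by omega)
  have hcardt : Fintype.card (Fin t) = t := Fintype.card_fin t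
  set N : Subgroup (GL (Fin t → Fin k) F) := (Cfsg.Geo.omegaGL Q).comap φ.toMonoidHom with hN
  have hTsieg : ∀ u w, Q' u = 0 → QuadraticMap.polar Q' w u = 0 →
      φ (sieg Q' u w) = sieg Q (T u) (T (c⁻¹ • w)) := by
    intro u w hu hw
    have hu' : Q (T u) = 0 := (mul_eq_zero.1 hu).resolve_left hc'
    have hw' : QuadraticMap.polar Q (T (c⁻¹ • w)) (T u) = 0 := by
      rw [map_smul, hb.smul_left, ← hB', hw]
    refine gl_ext fun x => ?_
    obtain ⟨x, rfl⟩ := hTsurj x
    rw [hφT, sieg_mulVec hQn hu hw, sieg_mulVec hQ hu' hw', map_add, map_add, map_smul T, map_smul T,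
      map_smul T, hB', hB', hb.smul_right, hQ.smul]
    simp only [hQ']
    module
  have hmem : ∀ x : GL (Fin t → Fin k) F,
      φ x ∈ Cfsg.Geo.tensorWreathSubgroup k t e P ↔ x ∈ stab (Fin t) k F := by
    intro x
    rw [← stab_eq]
    constructor
    · rintro ⟨y, ⟨z, hz, rfl⟩, hy⟩
      have : φ z = φ x := hy
      rwa [← φ.injective this]
    · exact fun hx => ⟨_, ⟨x, hx, rfl⟩, rfl⟩
  have hsN : ∀ u w, Q' u = 0 → QuadraticMap.polar Q' w u = 0 → sieg Q' u w ∈ N := by
    intro u w hu hw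
    show φ _ ∈ Cfsg.Geo.omegaGL Q
    rw [hTsieg u w hu hw]
    exact sieg_mem_omega hQ hn5 ((mul_eq_zero.1 hu).resolve_left hc') (by rw [map_smul, hb.smul_left, ← hB', hw])
  have hQ'pure : ∀ s, Q' (pv s) = 0 := fun s => by
    show c⁻¹ * Q _ = 0
    rw [hTapp, show ((pv s) ∘ e : Fin n → F) = (fun a : Fin t → Fin k => ∏ i, s i (a i)) ∘ e from rfl, hpure,
      mul_zero]
  have hworld : ∀ M' : Subgroup (GL (Fin t → Fin k) F),
      (∀ g ∈ M', φ g ∈ Cfsg.Geo.omegaGL Q) → (∀ g ∈ N, g ∈ stab (Fin t) k F → g ∈ M') → World Q' f M' N :=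
    fun M' h1 h2 =>
    { hQ := hQn
      hf := hf
      hpol := hpol
      pure := hQ'pure
      isoM := fun g hg x => by
        show c⁻¹ * Q _ = c⁻¹ * Q _
        rw [← hφT, omega_isometry hQ (h1 g hg)]
      hsieg := hsN
      stab := h2
      hι := by omega
      two_le := hk2
      parity := hparity.imp_right fun h => by rwa [hcardt] }
  refine ⟨lt_of_le_of_ne inf_le_right fun heq => ?_, fun M hM hMle => ?_⟩
  · obtain ⟨g, hg, hns⟩ := exists_not_stab (hworld N (fun g hg => hg) fun g hg _ => hg) (by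
      rw [hcardt]
      by_cases h : k = 2
      · exact Or.inr (by have := hk4 h; omega)
      · exact Or.inl (by omega))
    have h1 : φ g ∈ Cfsg.Geo.omegaGL Q := hg
    rw [← heq] at h1
    exact hns ((hmem g).1 h1.1)
  · set M' := M.comap φ.toMonoidHom with hM'
    have W : World Q' f M' N := hworld M' (fun g hg => hMle hg) fun g hg hs => hM ⟨(hmem g).2 hs, hg⟩
    have S := W.setting hks
    by_cases hG : BlockTo.Good f M'
    · refine Or.inr (le_antisymm hMle (omega_le hQ hn5 fun u w hu hw => ?_))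
      have hall : ∀ u w, Q' u = 0 → QuadraticMap.polar Q' w u = 0 → sieg Q' u w ∈ M' := by
        rcases hks with h4 | ⟨h, -, h2⟩
        · exact OrthCoef.sieg_all_of_good W h4 hk6 hG
        · have ht4 := hk4 h
          exact OrthTwo.sieg_all_of_good
            ⟨S, h2, W.perm_mem (by omega)⟩ h (by omega) (by rw [hcardt]; exact hparity.resolve_left h2) W hG
      obtain ⟨u, rfl⟩ := hTsurj u
      obtain ⟨w, rfl⟩ := hTsurj w
      have hu' : Q' u = 0 := by show c⁻¹ * Q _ = 0; rw [hu, mul_zero]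
      have hw' : QuadraticMap.polar Q' (c • w) u = 0 := by
        rw [hB', map_smul, hb.smul_left, hw, mul_zero, mul_zero]
      have h1 : φ (sieg Q' u (c • w)) ∈ M := hall u (c • w) hu' hw'
      rwa [hTsieg u _ hu' hw', smul_smul, inv_mul_cancel₀ hc, one_smul] at h1
    · refine Or.inl (le_antisymm (fun x hx => ⟨?_, hMle hx⟩) hM)
      have hle : M' ≤ stab (Fin t) k F := by
        by_cases h2 : (2 : F) = 0
        · exact Even.le_stab h2 (hk6 h2) _ (Fin t) rfl M' S hG
        · exact Rigid.le_stab h2 _ (Fin t) rfl M' S hG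
      have := (hmem _).2 (hle (show φ.symm x ∈ M' by show φ (φ.symm x) ∈ M; rwa [φ.apply_symm_apply]))
      rwa [φ.apply_symm_apply] at this

end Cfsg.Agent.Lib.TensorSympMax.OrthMain
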