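import Cfsg.Agent.Lib.TensorSympMax.BlockTo
import Cfsg.Agent.Lib.TensorFormMax.OrthPure

/-!
A quadratic form polarising to a tensor power of an alternating form, seen as a form on two factors after
separating one of them.
-/

set_option autoImplicit false
set_option linter.unusedSectionVars false
set_option linter.style.haveILetI false

namespace Cfsg.Agent.Lib.TensorSympMax.OrthWorld

open Matrix Kronecker
open Cfsg.Agent.Lib.Subspaces.Transvection Cfsg.Agent.Lib.Subspaces.FormVec
  Cfsg.Agent.Lib.Subspaces.OrthForm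
  Cfsg.Agent.Lib.TensorPowerMax.Basic Cfsg.Agent.Lib.TensorSympMax.Basic
open Cfsg.Agent.Lib.TensorMax.Block (InM el kronGL kronGL_mem)
open Cfsg.Agent.Lib.TensorMax.Lemmas (tens el_mulVec kron_mulVec_tens)
open Cfsg.Agent.Lib.TensorFormMax.Basic (sum_tens_slice slice ctr_eq_dot)
open Cfsg.Agent.Lib.TensorFormMax.OrthFull (Frame Core ext_tens)

variable {ι : Type} [Fintype ι] [DecidableEq ι] {k : ℕ} {F : Type*} [Field F]

local notation "A1" => Matrix (Fin k) (Fin k) F
local notation "Big" => Matrix (ι → Fin k) (ι → Fin k) F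
local notation "GG" => GL (ι → Fin k) F
local notation "W1" => Fin k → F
local notation "Vec" => (ι → Fin k) → F

/-! ### forms -/

section Forms

variable {f : (Fin k → F) → (Fin k → F) → F} (hf : Cfsg.Geo.IsSymplecticForm f)
include hf

/-- A tensor power of an alternating form is alternating in odd degree and in characteristic two. -/
theorem isSymp_Bt [Nonempty ι] (h : (2 : F) = 0 ∨ Odd (Fintype.card ι)) :
    Cfsg.Geo.IsSymplecticForm (Bt f (ι := ι)) := by
  have hskew : ∀ x y : Vec, Bt f x y = - Bt f y x := fun x y => by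
    rw [Bt_swap hf y x]
    rcases h with h | h
    · have h1 : (-1 : F) = 1 := neg_eq_of_add_eq_zero_left (by rw [one_add_one_eq_two, h])
      rw [h1, one_pow, one_mul, ← neg_one_mul, h1, one_mul]
    · rw [h.neg_one_pow, neg_one_mul]
  refine ⟨⟨Bt_add_left, fun c x v => Bt_smul_left c x v, fun v x y => Bt_add_right v x y,
    fun c v x => Bt_smul_right c v x⟩, hskew, fun v => ?_, fun v hv => ?_⟩
  · by_cases h2 : (2 : F) = 0
    · let S : Submodule F Vec :=
        { carrier := {u | Bt f u u = 0}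
          zero_mem' := by
            show Bt f 0 0 = 0
            rw [← zero_smul F (0 : Vec), Bt_smul_left, zero_mul]
          add_mem' := fun {a b} ha hb => by
            show Bt f (a + b) (a + b) = 0
            rw [Bt_add_left, Bt_add_right, Bt_add_right, ha, hb, hskew b a]
            ring
          smul_mem' := fun c a ha => by
            show Bt f (c • a) (c • a) = 0
            rw [Bt_smul_left, Bt_smul_right, ha, mul_zero, mul_zero] }
      show v ∈ S
      rw [← Finset.univ_sum_single v]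
      refine S.sum_mem fun p _ => ?_
      rw [show (Pi.single p (v p) : Vec) = v p • Pi.single p 1 by rw [← Pi.single_smul', smul_eq_mul, mul_one],
        ← pv_single p]
      refine S.smul_mem _ ?_
      show Bt f _ _ = 0
      rw [Bt_pv hf]
      exact Finset.prod_eq_zero (Finset.mem_univ (Classical.arbitrary ι)) (hf.alternating _)
    · have := hskew v v
      exact (mul_eq_zero.1 (show (2 : F) * Bt f v v = 0 by linear_combination this)).resolve_left h2
  · have hx : ∃ x, Bt f x v ≠ 0 := by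
      by_contra hc
      push Not at hc
      exact hv (Bt_nondeg hf hc)
    obtain ⟨x, hx⟩ := hx
    exact ⟨⟨x, hx⟩, x, by rw [hskew, neg_ne_zero]; exact hx⟩

omit hf in
/-- A symplectic form in new coordinates. -/
theorem reindex_form {κ : Type} [Fintype κ] [DecidableEq κ] {l : ℕ} (e : κ ≃ Fin l) {g : (κ → F) → (κ → F) → F}
    (hg : Cfsg.Geo.IsSymplecticForm g) : Cfsg.Geo.IsSymplecticForm (fun u u' : Fin l → F => g (u ∘ e) (u' ∘ e)) := by
  refine ⟨⟨fun x y v => hg.bilinear.add_left _ _ _, fun c x v => hg.bilinear.smul_left _ _ _,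
    fun v x y => hg.bilinear.add_right _ _ _, fun c v x => hg.bilinear.smul_right _ _ _⟩, fun x y => hg.skew _ _,
    fun v => hg.alternating _, fun v hv => ?_⟩
  obtain ⟨⟨x, hx⟩, ⟨y, hy⟩⟩ := hg.nondegenerate (v ∘ e) fun e0 => hv (funext fun i => by
    simpa using congrFun e0 (e.symm i))
  have hc : ∀ x : κ → F, (x ∘ e.symm) ∘ e = x := fun x => funext fun i => by simp
  exact ⟨⟨x ∘ e.symm, by rw [hc]; exact hx⟩, ⟨y ∘ e.symm, by rw [hc]; exact hy⟩⟩

end Forms

/-- The quadratic form, an overgroup of the stabiliser and the group containing the Siegel transformations. -/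
structure World (Q : ((ι → Fin k) → F) → F) (f : (Fin k → F) → (Fin k → F) → F)
    (M N : Subgroup (GL (ι → Fin k) F)) : Prop where
  hQ : Cfsg.Geo.IsNondegenerateQuadraticForm Q
  hf : Cfsg.Geo.IsSymplecticForm f
  hpol : ∀ x y, QuadraticMap.polar Q x y = Bt f x y
  pure : ∀ s, Q (pv s) = 0
  isoM : ∀ g ∈ M, ∀ x, Q ((g : Matrix (ι → Fin k) (ι → Fin k) F) *ᵥ x) = Q x
  hsieg : ∀ u w, Q u = 0 → QuadraticMap.polar Q w u = 0 → sieg Q u w ∈ N
  stab : ∀ g ∈ N, g ∈ TensorPowerMax.Basic.stab ι k F → g ∈ M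
  hι : 2 ≤ Fintype.card ι
  two_le : 2 ≤ k
  parity : (2 : F) = 0 ∨ Even (Fintype.card ι)

/-! ### two factors -/

section Two

variable {m k' : ℕ}

/-- The isomorphism of groups given by new coordinates. -/
def phi (e : (ι → Fin k) ≃ Fin m × Fin k') : GL (Fin m × Fin k') F ≃* GL (ι → Fin k) F :=
  Cfsg.Geo.glReindex e.symm

theorem phi_mulVec (e : (ι → Fin k) ≃ Fin m × Fin k') (g : GL (Fin m × Fin k') F) (z : Fin m × Fin k' → F) :
    (phi e g : Big) *ᵥ (z ∘ e) = ((g : Matrix (Fin m × Fin k') (Fin m × Fin k') F) *ᵥ z) ∘ e := by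
  show (Matrix.reindexAlgEquiv F F e.symm) (g : Matrix (Fin m × Fin k') (Fin m × Fin k') F) *ᵥ _ = _
  rw [Matrix.coe_reindexAlgEquiv, Matrix.reindex_apply, Equiv.symm_symm, Matrix.submatrix_mulVec_equiv]
  congr 1
  congr 1
  funext p; simp

theorem phi_symm_mulVec (e : (ι → Fin k) ≃ Fin m × Fin k') (g : GG) (z : Fin m × Fin k' → F) :
    (((phi e).symm g : GL (Fin m × Fin k') F) : Matrix (Fin m × Fin k') (Fin m × Fin k') F) *ᵥ z =
      ((g : Big) *ᵥ (z ∘ e)) ∘ e.symm := by
  conv_rhs => rw [← (phi e).apply_symm_apply g, phi_mulVec]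
  funext p; simp

variable {Q : ((ι → Fin k) → F) → F} (hQ : Cfsg.Geo.IsNondegenerateQuadraticForm Q)
  (e : (ι → Fin k) ≃ Fin m × Fin k')

/-- The form in new coordinates. -/
def pull (Q : ((ι → Fin k) → F) → F) (e : (ι → Fin k) ≃ Fin m × Fin k') (z : Fin m × Fin k' → F) : F := Q (z ∘ e)

theorem polar_pull (x y : Fin m × Fin k' → F) :
    QuadraticMap.polar (pull Q e) x y = QuadraticMap.polar Q (x ∘ e) (y ∘ e) := rfl

include hQ

theorem frame {f₁ : (Fin m → F) → (Fin m → F) → F} {f₂ : (Fin k' → F) → (Fin k' → F) → F}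
    (h1 : Cfsg.Geo.IsSymplecticForm f₁) (h2 : Cfsg.Geo.IsSymplecticForm f₂)
    (hpol : ∀ u w u' w', QuadraticMap.polar Q (tens u w ∘ e) (tens u' w' ∘ e) = f₂ w w' * f₁ u u')
    (hpure : ∀ u w, Q (tens u w ∘ e) = 0) : Frame (pull Q e) f₁ f₂ := by
  have hb := hQ.polar_bilinear
  have hinj : ∀ z : Fin m × Fin k' → F, z ∘ e = 0 → z = 0 := fun z h => funext fun p => by
    simpa using congrFun h (e.symm p)
  have hsurj : ∀ x : Vec, (x ∘ e.symm) ∘ e = x := fun x => funext fun p => by simp
  have hQn : Cfsg.Geo.IsNondegenerateQuadraticForm (pull Q e) := by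
    refine ⟨fun a z => hQ.smul a _, ⟨fun x y v => hb.add_left _ _ _, fun a x v => hb.smul_left _ _ _,
      fun v x y => hb.add_right _ _ _, fun a v x => hb.smul_right _ _ _⟩, fun v hv => ?_⟩
    obtain ⟨⟨x, hx⟩, ⟨y, hy⟩⟩ := hQ.nondegenerate (v ∘ e) fun h0 => hv (hinj v h0)
    exact ⟨⟨x ∘ e.symm, by rw [polar_pull, hsurj]; exact hx⟩, ⟨y ∘ e.symm, by rw [polar_pull, hsurj]; exact hy⟩⟩
  refine ⟨hQn, h1, h2, fun z u w => ?_, hpure⟩
  have hl2 := isLinearLeft_of_bilinear h2.bilinear
  let L : (Fin m × Fin k' → F) →+ F := AddMonoidHom.mk' (fun x => QuadraticMap.polar (pull Q e) x (tens u w))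
    fun x y => hQn.polar_bilinear.add_left x y _
  let R : (Fin m → F) →+ F := AddMonoidHom.mk' (fun x => f₁ x u) fun x y => h1.bilinear.add_left x y u
  have hctr : TensorMax.Lemmas.ctr (formVec f₂ w) z =
      ∑ i, f₂ (slice z i) w • (Pi.single i 1 : Fin m → F) := by
    funext i
    simp [ctr_eq_dot, formVec_dot hl2, Pi.single_apply, Finset.sum_apply]
  conv_lhs => rw [← sum_tens_slice z]
  show L _ = R _
  rw [hctr, map_sum, map_sum]
  refine Finset.sum_congr rfl fun i _ => ?_
  show QuadraticMap.polar (pull Q e) _ _ = f₁ _ u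
  rw [polar_pull, hpol, h1.bilinear.smul_left]

theorem sieg_phi (hQe : Cfsg.Geo.IsNondegenerateQuadraticForm (pull Q e)) {u w : Fin m × Fin k' → F}
    (hu : pull Q e u = 0) (hw : QuadraticMap.polar (pull Q e) w u = 0) :
    phi e (sieg (pull Q e) u w) = sieg Q (u ∘ e) (w ∘ e) := by
  refine gl_ext fun x => ?_
  rw [show x = (x ∘ e.symm) ∘ e from funext fun p => by simp, phi_mulVec, sieg_mulVec hQe hu hw,
    sieg_mulVec hQ (u := u ∘ e) (w := w ∘ e) hu hw]
  rfl

theorem sieg_mem {N : Subgroup GG} (hsieg : ∀ u w, Q u = 0 → QuadraticMap.polar Q w u = 0 → sieg Q u w ∈ N)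
    (hQe : Cfsg.Geo.IsNondegenerateQuadraticForm (pull Q e)) (u w : Fin m × Fin k' → F)
    (hu : pull Q e u = 0) (hw : QuadraticMap.polar (pull Q e) w u = 0) :
    sieg (pull Q e) u w ∈ N.comap (phi e).toMonoidHom := by
  show phi e _ ∈ N
  rw [sieg_phi hQ e hQe hu hw]
  exact hsieg _ _ hu hw

theorem sieg_all {M : Subgroup GG} (hQe : Cfsg.Geo.IsNondegenerateQuadraticForm (pull Q e))
    (h : ∀ u w, pull Q e u = 0 → QuadraticMap.polar (pull Q e) w u = 0 →
      sieg (pull Q e) u w ∈ M.comap (phi e).toMonoidHom) :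
    ∀ u w, Q u = 0 → QuadraticMap.polar Q w u = 0 → sieg Q u w ∈ M := by
  intro u w hu hw
  have e1 : ∀ x : Vec, (x ∘ e.symm) ∘ e = x := fun x => funext fun p => by simp
  have hu' : pull Q e (u ∘ e.symm) = 0 := by rw [pull, e1, hu]
  have hw' : QuadraticMap.polar (pull Q e) (w ∘ e.symm) (u ∘ e.symm) = 0 := by rw [polar_pull, e1, e1, hw]
  have h1 : phi e (sieg (pull Q e) (u ∘ e.symm) (w ∘ e.symm)) ∈ M := h _ _ hu' hw'
  rwa [sieg_phi hQ e hQe hu' hw', e1, e1] at h1

end Two

/-! ### separating one factor -/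

/-- The dimension of the other factors together. -/
abbrev restDim (ι : Type) [Fintype ι] [DecidableEq ι] (j : ι) (k : ℕ) : ℕ :=
  Fintype.card ({l // l ≠ j} → Fin k)

/-- Coordinates on the other factors. -/
noncomputable def eqv (j : ι) : ({l // l ≠ j} → Fin k) ≃ Fin (restDim ι j k) := Fintype.equivFin _

/-- The factor `j` on the right. -/
noncomputable def ej (j : ι) : (ι → Fin k) ≃ Fin (restDim ι j k) × Fin k :=
  (split j).trans ((eqv j).prodCongr (Equiv.refl _))

/-- The factor `j` on the left. -/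
noncomputable def ej' (j : ι) : (ι → Fin k) ≃ Fin k × Fin (restDim ι j k) :=
  (split j).trans ((Equiv.prodComm _ _).trans ((Equiv.refl _).prodCongr (eqv j)))

theorem tens_ej (j : ι) (u : Fin (restDim ι j k) → F) (w : W1) :
    tens u w ∘ ej j = ins j w (u ∘ eqv j) := rfl

theorem tens_ej' (j : ι) (w : W1) (u : Fin (restDim ι j k) → F) :
    tens w u ∘ ej' j = ins j w (u ∘ eqv j) := funext fun _ => mul_comm _ _

/-- The form of the other factors in coordinates. -/
noncomputable def restForm (f : (Fin k → F) → (Fin k → F) → F) (j : ι)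
    (u u' : Fin (restDim ι j k) → F) : F :=
  Bt f (u ∘ eqv j) (u' ∘ eqv j)

theorem eq_of_ins {j : ι} {g g' : GG}
    (h : ∀ (z : W1) (u : ({l // l ≠ j} → Fin k) → F), (g : Big) *ᵥ ins j z u = (g' : Big) *ᵥ ins j z u) :
    g = g' :=
  Units.ext (ext_pv fun s => by rw [← ins_pv j s, h])

theorem comp_eqv (j : ι) (u : ({l // l ≠ j} → Fin k) → F) : (u ∘ (eqv j).symm) ∘ eqv j = u :=
  funext fun p => by simp

/-- An endomorphism of the other factors in coordinates. -/
noncomputable def restMat (j : ι) :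
    Matrix ({l // l ≠ j} → Fin k) ({l // l ≠ j} → Fin k) F ≃ₐ[F]
      Matrix (Fin (restDim ι j k)) (Fin (restDim ι j k)) F :=
  Matrix.reindexAlgEquiv F F (eqv j)

theorem restMat_mulVec (j : ι) (C : Matrix ({l // l ≠ j} → Fin k) ({l // l ≠ j} → Fin k) F)
    (u : Fin (restDim ι j k) → F) : (restMat j C *ᵥ u) ∘ eqv j = C *ᵥ (u ∘ eqv j) := by
  rw [restMat, Matrix.coe_reindexAlgEquiv, Matrix.reindex_apply, Matrix.submatrix_mulVec_equiv, Equiv.symm_symm]
  funext p; simp

namespace World

variable {Q : ((ι → Fin k) → F) → F} {f : (Fin k → F) → (Fin k → F) → F} {M N : Subgroup (GL (ι → Fin k) F)}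
  (W : World Q f M N)
include W

theorem rest_nonempty (j : ι) : Nonempty {l // l ≠ j} :=
  Fintype.card_pos_iff.1 (by rw [Fintype.card_subtype_compl, Fintype.card_subtype_eq]; have := W.hι; omega)

theorem symp_rest (j : ι) : Cfsg.Geo.IsSymplecticForm (restForm f j) := by
  haveI := W.rest_nonempty j
  refine reindex_form (eqv (k := k) j) (isSymp_Bt W.hf (W.parity.imp_right fun h => ?_))
  rw [Fintype.card_subtype_compl, Fintype.card_subtype_eq]
  obtain ⟨r, hr⟩ := h
  have := W.hι
  exact ⟨r - 1, by omega⟩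

/-- The form vanishes on the tensors with a pure factor. -/
theorem Q_ins (j : ι) (w : W1) (u : ({l // l ≠ j} → Fin k) → F) : Q (ins j w u) = 0 := by
  let S : Submodule F (({l // l ≠ j} → Fin k) → F) :=
    { carrier := {u | Q (ins j w u) = 0}
      zero_mem' := by
        show Q _ = 0
        rw [map_zero, ← zero_smul F (0 : Vec), W.hQ.smul]
        ring
      add_mem' := fun {a b} ha hb => by
        show Q _ = 0
        rw [map_add, Q_add (Q := Q), ha, hb, W.hpol, Bt_ins_ins W.hf, W.hf.alternating]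
        ring
      smul_mem' := fun c a ha => by
        show Q _ = 0
        rw [map_smul, W.hQ.smul, ha, mul_zero] }
  show u ∈ S
  rw [← Finset.univ_sum_single u]
  refine S.sum_mem fun p _ => ?_
  rw [show (Pi.single p (u p) : ({l // l ≠ j} → Fin k) → F) = u p • Pi.single p 1 by
    rw [← Pi.single_smul', smul_eq_mul, mul_one], ← pv_single p]
  refine S.smul_mem _ ?_
  show Q _ = 0
  set s : ι → W1 := fun i => if h : i = j then w else Pi.single (p ⟨i, h⟩) 1
  rw [show ins j w (pv fun l : {l // l ≠ j} => Pi.single (p l) (1 : F)) = pv s by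
    rw [← ins_pv j s, show s j = w from dif_pos rfl]
    congr
    funext l
    simp only [s, dif_neg l.2]]
  exact W.pure s

/-- The frame with the factor `j` on the right. -/
theorem frame_j (j : ι) : Frame (pull Q (ej j)) (restForm f j) f :=
  frame W.hQ (ej j) (W.symp_rest j) W.hf
    (fun u w u' w' => by rw [tens_ej, tens_ej, W.hpol, Bt_ins_ins W.hf, restForm])
    (fun u w => by rw [tens_ej]; exact W.Q_ins j w _)

/-- The frame with the factor `j` on the left. -/
theorem frame_j' (j : ι) : Frame (pull Q (ej' j)) f (restForm f j) :=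
  frame W.hQ (ej' j) W.hf (W.symp_rest j)
    (fun w u w' u' => by rw [tens_ej', tens_ej', W.hpol, Bt_ins_ins W.hf, restForm, mul_comm])
    (fun w u => by rw [tens_ej']; exact W.Q_ins j w _)

variable [Finite F]

/-- Transvections of one factor lie in the reference group. -/
theorem rs_mem_N (j : ι) (v : W1) (c : F) : rs f j v c ∈ N := by
  have D := W.frame_j j
  obtain ⟨g, hg, hgv⟩ := D.root_mem (N := N.comap (phi (ej j)).toMonoidHom)
    (fun u w hu hw => sieg_mem W.hQ _ W.hsieg D.hQ u w hu hw) c (W.hf.alternating v)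
  have : phi (ej j) g = rs f j v c := eq_of_ins (j := j) fun z u => by
    rw [← comp_eqv j u, ← tens_ej, phi_mulVec, hgv, add_mulVec, one_mulVec, el_mulVec, D.ctr_tens', smul_mulVec,
      one_mulVec, tens_ej, rs_mulVec W.hf, ctr_ins, dot W.hf, map_smul]
    funext x
    simp only [Pi.add_apply, Function.comp_apply, Pi.smul_apply, smul_eq_mul, TensorMax.Lemmas.tens]
    show _ + c * (f z v * u ((eqv j).symm (ej j x).1)) * v (ej j x).2 = _ + c * (f z v * _)
    simp only [ej, Equiv.trans_apply, Equiv.prodCongr_apply, Prod.map, Equiv.refl_apply, Equiv.symm_apply_apply]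
    simp only [ins, LinearMap.coe_mk, AddHom.coe_mk, split, Equiv.coe_fn_mk, Function.comp_apply,
      Equiv.symm_apply_apply]
    ring
  rw [← this]
  exact hg

/-- Isometries of one factor lie in the reference group. -/
theorem one_mem_N (j : ι) (b : GL (Fin k) F) (hb : ∀ x y, f ((b : A1) *ᵥ x) ((b : A1) *ᵥ y) = f x y) :
    oneGL j b ∈ N :=
  Subspaces.SympGen.mem_of_isometry W.hf
    (M := N.comap (ptGL.comp (MonoidHom.mulSingle (fun _ : ι => GL (Fin k) F) j)))
    (fun v a => W.rs_mem_N j v a) hb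

/-- Isometries fixing one factor lie in the reference group. -/
theorem left_mem_N (j : ι) {g : GG} (hg : ∀ x y, Bt f ((g : Big) *ᵥ x) ((g : Big) *ᵥ y) = Bt f x y)
    {C : GL ({l // l ≠ j} → Fin k) F} (hC : ∀ z u, (g : Big) *ᵥ ins j z u = ins j z (C.val *ᵥ u)) : g ∈ N := by
  have D := W.frame_j j
  have hk := W.two_le
  set o : W1 := Pi.single ⟨0, by omega⟩ 1
  obtain ⟨o', ho'⟩ := exists_one W.hf (show o ≠ 0 by simp [o])
  have hCiso : ∀ x y, Bt f (C.val *ᵥ x) (C.val *ᵥ y) = Bt f x y := fun x y => by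
    have := hg (ins j o' x) (ins j o y)
    rwa [hC, hC, Bt_ins_ins W.hf, Bt_ins_ins W.hf, ho', one_mul, one_mul] at this
  obtain ⟨h, hh, hhv⟩ := D.left_mem (N := N.comap (phi (ej j)).toMonoidHom)
    (fun u w hu hw => sieg_mem W.hQ _ W.hsieg D.hQ u w hu hw) (restMat j C.val) (restMat j (C⁻¹).val)
    (by rw [← map_mul, ← Units.val_mul, mul_inv_cancel, Units.val_one, map_one])
    (fun x y => by
      show Bt f ((restMat j C.val *ᵥ x) ∘ eqv j) ((restMat j C.val *ᵥ y) ∘ eqv j) = Bt f (x ∘ eqv j) (y ∘ eqv j)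
      rw [restMat_mulVec, restMat_mulVec, hCiso])
  have : phi (ej j) h = g := eq_of_ins (j := j) fun z u => by
    rw [← comp_eqv j u, ← tens_ej, phi_mulVec, hhv, kron_mulVec_tens, one_mulVec, tens_ej, tens_ej, hC,
      restMat_mulVec]
  rw [← this]
  exact hh

/-- Permutations of at least three factors lie in the reference group. -/
theorem perm_mem_N (h3 : 3 ≤ Fintype.card ι) (σ : Equiv.Perm ι) : (pmGL σ : GG) ∈ N := by
  induction σ using Equiv.Perm.swap_induction_on with
  | one => rw [map_one]; exact N.one_mem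
  | swap_mul σ a b _ ih =>
    rw [map_mul]
    refine N.mul_mem ?_ ih
    obtain ⟨j, hj⟩ : ∃ j, j ∉ ({a, b} : Finset ι) := by
      by_contra hc
      push Not at hc
      have h1 : (Finset.univ : Finset ι) ⊆ {a, b} := fun i _ => hc i
      have h2 := Finset.card_le_card h1
      rw [Finset.card_univ] at h2
      have h3' := Finset.card_le_two (a := a) (b := b)
      omega
    simp only [Finset.mem_insert, Finset.mem_singleton, not_or] at hj
    have hfix : Equiv.swap a b j = j := Equiv.swap_apply_of_ne_of_ne hj.1 hj.2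
    have h1 := TensorPowerMax.Split.spU_tw (1 : ι → GL (Fin k) F) _ hfix
    rw [map_one, one_mul, show (fun l : {l // l ≠ j} => (1 : ι → GL (Fin k) F) l.1) = 1 from rfl, map_one,
      one_mul, Pi.one_apply] at h1
    refine W.left_mem_N j (C := pmGL (TensorPowerMax.Split.restrict (Equiv.swap a b) hfix))
      (fun x y => by rw [coe_pmGL]; exact Bt_pm W.hf _ x y) fun z u => ?_
    rw [BlockTo.mulVec_ins_of_kron h1, Units.val_one, one_mulVec]

/-- The overgroup contains the isometries of the factors. -/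
theorem one_mem (j : ι) (b : GL (Fin k) F) (hb : ∀ x y, f ((b : A1) *ᵥ x) ((b : A1) *ᵥ y) = f x y) :
    oneGL j b ∈ M :=
  W.stab _ (W.one_mem_N j b hb) (oneGL_mem_stab j b)

theorem perm_mem (h3 : 3 ≤ Fintype.card ι) (σ : Equiv.Perm ι) : (pmGL σ : GG) ∈ M :=
  W.stab _ (W.perm_mem_N h3 σ) (pmGL_mem_stab σ)

theorem iso (g : GG) (hg : g ∈ M) (x y : Vec) : Bt f ((g : Big) *ᵥ x) ((g : Big) *ᵥ y) = Bt f x y := by
  rw [← W.hpol, ← W.hpol, B_map (W.isoM g hg)]

theorem setting (hk : 4 ≤ k ∨ (k = 2 ∧ 5 ≤ Nat.card F ∧ (2 : F) ≠ 0)) : Setting f M where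
  hf := W.hf
  hk := hk
  hι := W.hι
  iso := W.iso
  one := W.one_mem
  perm := (Nat.lt_or_ge (Fintype.card ι) 3).imp (fun h => by have := W.hι; omega) W.perm_mem

/-- The core with the factor `j` on the right. -/
theorem core_j (hk : 4 ≤ k) (j : ι) :
    Core (pull Q (ej j)) (restForm f j) f (M.comap (phi (ej j)).toMonoidHom) where
  toFrame := W.frame_j j
  isoM g hg x := by
    show Q ((_ *ᵥ x) ∘ ej j) = Q (x ∘ ej j)
    rw [← phi_mulVec]
    exact W.isoM _ hg _
  root v c := by
    refine ⟨(phi (ej j)).symm (rs f j v c), ?_, ext_tens fun u z => ?_⟩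
    · show phi (ej j) _ ∈ M
      rw [(phi (ej j)).apply_symm_apply]
      exact W.one_mem j _ (tv_isometry W.hf v c)
    · rw [phi_symm_mulVec, tens_ej, rs_mulVec W.hf, ctr_ins, dot W.hf, map_smul, add_mulVec, one_mulVec, el_mulVec,
        (W.frame_j j).ctr_tens', smul_mulVec, one_mulVec]
      funext p
      simp only [Pi.add_apply, Function.comp_apply, Pi.smul_apply, smul_eq_mul, TensorMax.Lemmas.tens, ins,
        LinearMap.coe_mk, AddHom.coe_mk, ej, Equiv.symm_trans_apply, Equiv.prodCongr_symm, Equiv.prodCongr_apply,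
        Prod.map, Equiv.refl_symm, Equiv.refl_apply, Equiv.apply_symm_apply, split_symm_self]
      ring
  hm := by
    haveI := W.rest_nonempty j
    show 2 ≤ Fintype.card ({l // l ≠ j} → Fin k)
    rw [Fintype.card_fun, Fintype.card_fin]
    exact le_trans W.two_le (Nat.le_self_pow Fintype.card_ne_zero k)
  hk := hk

end World

end Cfsg.Agent.Lib.TensorSympMax.OrthWorld
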