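import Cfsg.Agent.Lib.TensorSympMax.Centraliser
import Cfsg.Agent.Lib.TensorSympMax.Average
import Cfsg.Agent.Lib.DicksonId.TransvectionsExc

/-!
The operator `π N ι` of a moved root element is a non-zero scalar.
-/

set_option autoImplicit false
set_option linter.unusedSectionVars false
set_option linter.style.haveILetI false

namespace Cfsg.Agent.Lib.TensorSympMax.Root

open Matrix Polynomial Kronecker
open Cfsg.Agent.Lib.Subspaces.Transvection Cfsg.Agent.Lib.Subspaces.FormVec
  Cfsg.Agent.Lib.TensorPowerMax.Basic Cfsg.Agent.Lib.TensorSympMax.Basic Cfsg.Agent.Lib.TensorSympMax.Quad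
  Cfsg.Agent.Lib.TensorSympMax.BlockTo Cfsg.Agent.Lib.TensorSympMax.TwoRoot
  Cfsg.Agent.Lib.TensorSympMax.Centraliser

section Fields

variable {F K : Type*} [Field F] [Fintype F] [DecidableEq F] [Field K] [Algebra F K]

theorem card_three (h2 : (2 : F) ≠ 0) : 3 ≤ Fintype.card F := by
  have h : ({0, 1, -1} : Finset F).card = 3 := Finset.card_eq_three.2
    ⟨0, 1, -1, zero_ne_one, (neg_ne_zero.2 one_ne_zero).symm,
      fun e => h2 (by linear_combination e), rfl⟩
  exact h ▸ Finset.card_le_univ _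

theorem sum_erase_one : ∑ _c ∈ (Finset.univ : Finset F).erase 0, (1 : F) = -1 := by
  rw [Finset.sum_const, Finset.card_erase_of_mem (Finset.mem_univ _), Finset.card_univ, nsmul_one,
    Nat.cast_sub Fintype.card_pos, FiniteField.cast_card_eq_zero, Nat.cast_one, zero_sub]

theorem sum_erase_pow {i : ℕ} (hi : i < Fintype.card F - 1) (hi0 : i ≠ 0) :
    ∑ c ∈ (Finset.univ : Finset F).erase 0, c ^ i = 0 := by
  rw [Finset.sum_erase (Finset.univ : Finset F) (f := fun c => c ^ i) (zero_pow hi0)]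
  exact FiniteField.sum_pow_lt_card_sub_one F i hi

/-- The tensor square of a two dimensional representation. -/
def sq2 : Matrix.SpecialLinearGroup (Fin 2) K →* (Matrix (Fin 2 × Fin 2) (Fin 2 × Fin 2) K)ˣ :=
  MonoidHom.toHomUnits
    { toFun := fun x => (x : Matrix (Fin 2) (Fin 2) K) ⊗ₖ (x : Matrix (Fin 2) (Fin 2) K)
      map_one' := by rw [Matrix.SpecialLinearGroup.coe_one, Matrix.one_kronecker_one]
      map_mul' := fun x y => by rw [Matrix.SpecialLinearGroup.coe_mul, Matrix.mul_kronecker_mul] }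

theorem coe_sq2 (x : Matrix.SpecialLinearGroup (Fin 2) K) :
    ((sq2 x : (Matrix (Fin 2 × Fin 2) (Fin 2 × Fin 2) K)ˣ) : Matrix (Fin 2 × Fin 2) (Fin 2 × Fin 2) K) =
      (x : Matrix (Fin 2) (Fin 2) K) ⊗ₖ (x : Matrix (Fin 2) (Fin 2) K) := rfl

theorem sq2_one_of {x : Matrix.SpecialLinearGroup (Fin 2) K} {a : K} (ha : a * a = 1)
    (hx : (x : Matrix (Fin 2) (Fin 2) K) = a • 1) : sq2 x = 1 := Units.ext (by
  rw [coe_sq2, hx, Matrix.smul_kronecker, Matrix.kronecker_smul, Matrix.one_kronecker_one, smul_smul, ha,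
    one_smul, Units.val_one])

theorem of_sq2_one {x : Matrix.SpecialLinearGroup (Fin 2) K} (h : sq2 x = 1) :
    ∃ a : K, a * a = 1 ∧ (x : Matrix (Fin 2) (Fin 2) K) = a • 1 := by
  have h1 : (x : Matrix (Fin 2) (Fin 2) K) ⊗ₖ (x : Matrix (Fin 2) (Fin 2) K) = 1 := congrArg Units.val h
  have e : ∀ a b, (x : Matrix (Fin 2) (Fin 2) K) a b * (x : Matrix (Fin 2) (Fin 2) K) a b =
      if a = b then 1 else 0 := fun a b => by
    have := congrFun (congrFun h1 (a, a)) (b, b)
    simpa [Matrix.one_apply] using this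
  have e2 := congrFun (congrFun h1 (0, 1)) (0, 1)
  simp only [kroneckerMap_apply, Matrix.one_apply_eq] at e2
  refine ⟨(x : Matrix (Fin 2) (Fin 2) K) 0 0, by simpa using e 0 0, ?_⟩
  have h00 := e 0 0
  simp only [if_true] at h00
  have h11 : (x : Matrix (Fin 2) (Fin 2) K) 1 1 = (x : Matrix (Fin 2) (Fin 2) K) 0 0 := by
    linear_combination (x : Matrix (Fin 2) (Fin 2) K) 0 0 * e2 - (x : Matrix (Fin 2) (Fin 2) K) 1 1 * h00
  ext a b
  fin_cases a <;> fin_cases b
  · simp
  · simpa using e 0 1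
  · simpa using e 1 0
  · simp [h11]

omit [Fintype F] [DecidableEq F] in
/-- A monic polynomial all of whose irreducible factors divide a linear one is a power of it. -/
theorem eq_pow_linear {P : F[X]} (hP : P.Monic) {b : F}
    (h : ∀ μ : F[X], Irreducible μ → μ ∣ P → μ ∣ X - C b) : ∃ n, P = (X - C b) ^ n := by
  classical
  refine ⟨(UniqueFactorizationMonoid.normalizedFactors P).card, ?_⟩
  refine eq_of_monic_of_associated hP ((monic_X_sub_C b).pow _) ?_
  refine ((UniqueFactorizationMonoid.prod_normalizedFactors hP.ne_zero).symm).trans ?_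
  suffices hall : ∀ μ ∈ UniqueFactorizationMonoid.normalizedFactors P, μ = X - C b by
    conv_lhs => rw [Multiset.eq_replicate.2 ⟨rfl, hall⟩, Multiset.prod_replicate]
    rfl
  intro μ hμ
  have h1 := UniqueFactorizationMonoid.irreducible_of_normalized_factor μ hμ
  have h2 : μ.Monic := by
    have := Polynomial.monic_normalize h1.ne_zero
    rwa [UniqueFactorizationMonoid.normalize_normalized_factor μ hμ] at this
  exact eq_of_monic_of_associated h2 (monic_X_sub_C b)
    (h1.associated_of_dvd (irreducible_X_sub_C b)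
      (h μ h1 (UniqueFactorizationMonoid.dvd_of_mem_normalizedFactors hμ)))

end Fields

variable {ι : Type} [Fintype ι] [DecidableEq ι] {k : ℕ} {F : Type*} [Field F]

local notation "Big" => Matrix (ι → Fin k) (ι → Fin k) F
local notation "GG" => GL (ι → Fin k) F
local notation "W1" => Fin k → F
local notation "SL2P" => Matrix.SpecialLinearGroup (Fin 2) F[X]

variable {f : (Fin k → F) → (Fin k → F) → F} {M : Subgroup (GL (ι → Fin k) F)} {j : ι} {w : Fin k → F}
  {N : Matrix (ι → Fin k) (ι → Fin k) F} {T : F → GL (ι → Fin k) F}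

/-- The root element in the generated group. -/
noncomputable def gR (f : (Fin k → F) → (Fin k → F) → F) (j : ι) (w : Fin k → F) (T : F → GL (ι → Fin k) F)
    (c : F) : Gp f j w T :=
  ⟨rs f j w c, Subgroup.subset_closure (Or.inl ⟨c, rfl⟩)⟩

/-- The moved root element in the generated group. -/
def gT (f : (Fin k → F) → (Fin k → F) → F) (j : ι) (w : Fin k → F) (T : F → GL (ι → Fin k) F)
    (c : F) : Gp f j w T :=
  ⟨T c, Subgroup.subset_closure (Or.inr ⟨c, rfl⟩)⟩

theorem rs_pow (hf : Cfsg.Geo.IsSymplecticForm f) (c : F) :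
    ∀ n : ℕ, ((rs f j w c ^ n : GG) : Big) = 1 + ((n : F) * c) • Xr f j w
  | 0 => by simp
  | n + 1 => by
    rw [pow_succ, Units.val_mul, rs_pow hf c n, coe_rs hf, add_mul, one_mul, mul_add, mul_one, smul_mul_smul_comm,
      Xr_sq hf, smul_zero, add_zero, Nat.cast_succ, add_one_mul, add_smul]
    abel

theorem gR_pow (hf : Cfsg.Geo.IsSymplecticForm f) {p : ℕ} [CharP F p] (c : F) : gR f j w T c ^ p = 1 :=
  Subtype.ext (Units.ext (by
    rw [Subgroup.coe_pow, gR, rs_pow hf, CharP.cast_eq_zero, zero_mul, zero_smul, add_zero]; rfl))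

theorem gR_coe_smul (hf : Cfsg.Geo.IsSymplecticForm f) (c : F) :
    ((gR f j w T c : GG) : Big) = 1 + c • Xr f j w := coe_rs hf j w c

/-- The pointwise stabiliser of the invariant subspace. -/
def fixK (f : (Fin k → F) → (Fin k → F) → F) (j : ι) (w : Fin k → F)
    (N : Matrix (ι → Fin k) (ι → Fin k) F) (T : F → GL (ι → Fin k) F) : Subgroup (Gp f j w T) where
  carrier := {x | ∀ z ∈ K0 f j w N (Module.finrank F (({l // l ≠ j} → Fin k) → F)), ((x : GG) : Big) *ᵥ z = z}
  one_mem' := fun z _ => by simp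
  mul_mem' {a b} ha hb z hz := by rw [Subgroup.coe_mul, gl_mul_mulVec, hb z hz, ha z hz]
  inv_mem' {a} ha z hz := by
    conv_lhs => rw [← ha z hz, Subgroup.coe_inv, gl_inv_mulVec]

namespace Pair

variable (D : Centraliser.Pair f M j w N T)
include D

local notation "B" => Bop f j w N
local notation "r0" => Module.finrank F (({l // l ≠ j} → Fin k) → F)

theorem fixK_normal [Finite F] : (fixK f j w N T).Normal := ⟨fun x hx y z hz => by
  have h := K0_invariant D.S.hf D.hNN D.hT (y⁻¹).2 hz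
  simp only [Subgroup.coe_mul, gl_mul_mulVec]
  rw [hx _ h, Subgroup.coe_inv, gl_mulVec_inv]⟩

variable [Finite F] (hG : ¬ Good f M) (hIH : Lower f ι)
include hG hIH

set_option maxHeartbeats 1000000 in
/-- The operator is not nilpotent. -/
theorem pow_ne_zero {p : ℕ} [Fact p.Prime] [CharP F p] (hback : T 1 ∉ stab ι k F) : B ^ r0 ≠ 0 := by
  intro h0
  haveI : Nonempty ι := ⟨j⟩
  obtain ⟨s, hs⟩ := exists_pow_fix D.S.hf D.hNN D.hT (p := p) r0
  have hp : IsPGroup p (Gp f j w T) := fun x => ⟨s, Subtype.ext (gl_ext fun z => by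
    rw [Subgroup.coe_pow, hs x.1 x.2 z (mem_K0.2 ⟨by rw [h0]; rfl, by rw [h0]; rfl⟩)]
    simp)⟩
  haveI := hp.isNilpotent
  let H : Subgroup (Gp f j w T) := (stab ι k F).subgroupOf (Gp f j w T)
  have hR : gR f j w T 1 ∈ H := oneGL_mem_stab _ _
  refine hback (show gT f j w T 1 ∈ H from ?_)
  by_contra hne
  have hlt : H < ⊤ := lt_of_le_of_ne le_top fun e => hne (e ▸ Subgroup.mem_top _)
  obtain ⟨n, hn, hnH⟩ := SetLike.exists_of_lt (Group.normalizerCondition_of_isNilpotent H hlt)
  have h1 : ((n : GG) * rs f j w 1 * (n : GG)⁻¹) ∈ stab ι k F :=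
    (Subgroup.mem_normalizer_iff.1 hn _).1 hR
  obtain ⟨j', w', hw', hm⟩ := maps_of_conj D.S.hf (D.S.hk.imp id fun h => ⟨h.1, h.2.2⟩) D.hw h1
  exact hnH (mem_of_maps D.S hG hIH (D.gp_le n.2) D.hw hw' hm)

omit hG hIH

/-- A suitable factor of the minimal polynomial. -/
theorem exists_factor (h0 : B ^ r0 ≠ 0) :
    ∃ μ : F[X], Irreducible μ ∧ μ ∣ minpoly F B ∧ ¬ μ ∣ X := by
  by_contra h
  push Not at h
  obtain ⟨n, hn⟩ := eq_pow_linear (b := (0 : F)) (minpoly.monic (Algebra.IsIntegral.isIntegral (R := F) B))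
    (fun μ hμ hd => by rw [map_zero, sub_zero]; exact h μ hμ hd)
  have h1 : B ^ n = 0 := by
    have := minpoly.aeval F B
    rwa [hn, map_zero, sub_zero, map_pow, aeval_X] at this
  refine h0 (LinearMap.ker_eq_top.1 (eq_top_iff.2 fun u _ => ?_))
  exact Module.End.ker_pow_le_ker_pow_finrank B n (by rw [h1]; exact LinearMap.mem_ker.2 rfl)

end Pair

/-! ### the representation -/

/-- A factor of the minimal polynomial with its representation. -/
structure Rep (f : (Fin k → F) → (Fin k → F) → F) (j : ι) (w : Fin k → F)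
    (N : Matrix (ι → Fin k) (ι → Fin k) F) (T : F → GL (ι → Fin k) F) (μ : F[X]) [Fact (Irreducible μ)]
    (ρ : Gp f j w T →* Matrix.SpecialLinearGroup (Fin 2) (AdjoinRoot μ)) : Prop where
  dvd : μ ∣ minpoly F (Bop f j w N)
  notX : ¬ μ ∣ X
  spec : ∀ (x : Gp f j w T) (P : SL2P), ((x : GG), P) ∈ Rel f j w N →
    ρ x = Matrix.SpecialLinearGroup.map (AdjoinRoot.mk μ) P

namespace Rep

variable {μ : F[X]} [Fact (Irreducible μ)] {ρ : Gp f j w T →* Matrix.SpecialLinearGroup (Fin 2) (AdjoinRoot μ)}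
  (R : Rep f j w N T μ ρ) (D : Centraliser.Pair f M j w N T)
include R D

local notation "B" => Bop f j w N
local notation "r0" => Module.finrank F (({l // l ≠ j} → Fin k) → F)
local notation "Kf" => AdjoinRoot μ
local notation "β" => AdjoinRoot.root μ
local notation "M2" => Matrix (Fin 2) (Fin 2) (AdjoinRoot μ)

omit D in
theorem root_ne : β ≠ 0 := fun e => R.notX (AdjoinRoot.mk_eq_zero.1 (by rw [AdjoinRoot.mk_X, e]))

theorem rho_R (c : F) : (ρ (gR f j w T c) : M2) = !![1, algebraMap F Kf c * β; 0, 1] := by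
  rw [R.spec _ _ (rel_rs D.S.hf D.hNN D.hT c)]
  ext a b
  show AdjoinRoot.mk μ ((!![1, C c * X; 0, 1] : Matrix (Fin 2) (Fin 2) F[X]) a b) = _
  fin_cases a <;> fin_cases b <;> simp [AdjoinRoot.algebraMap_eq]

theorem rho_T (c : F) : (ρ (gT f j w T c) : M2) = !![1, 0; algebraMap F Kf c, 1] := by
  rw [R.spec _ _ (rel_T D.S.hf D.hNN D.hT c)]
  ext a b
  show AdjoinRoot.mk μ ((!![1, 0; C c, 1] : Matrix (Fin 2) (Fin 2) F[X]) a b) = _
  fin_cases a <;> fin_cases b <;> simp [AdjoinRoot.algebraMap_eq]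

theorem rho_R_inj {c : F} (h : ρ (gR f j w T c) = 1) : c = 0 := by
  have e : !![1, algebraMap F Kf c * β; 0, 1] = (1 : M2) := by
    rw [← R.rho_R D, h, Matrix.SpecialLinearGroup.coe_one]
  have := congrFun (congrFun e 0) 1
  simp at this
  exact this.resolve_right R.root_ne

/-- The image of an element commuting with a root element. -/
theorem rho_comm {y : Gp f j w T} {c : F} (hc : c ≠ 0) (h : gR f j w T c * y = y * gR f j w T c) :
    ∃ a b : Kf, a * a = 1 ∧ (ρ y : M2) = !![a, b; 0, a] := by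
  have e : (ρ (gR f j w T c) : M2) * (ρ y : M2) = (ρ y : M2) * (ρ (gR f j w T c) : M2) := by
    rw [← Matrix.SpecialLinearGroup.coe_mul, ← map_mul, h, map_mul, Matrix.SpecialLinearGroup.coe_mul]
  rw [R.rho_R D] at e
  have hx : algebraMap F Kf c * β ≠ 0 := mul_ne_zero (by simpa using hc) R.root_ne
  have e00 := congrFun (congrFun e 0) 0
  have e01 := congrFun (congrFun e 0) 1
  simp [Matrix.mul_apply, Fin.sum_univ_two, -AdjoinRoot.algebraMap_eq] at e00 e01
  have h10 : (ρ y : M2) 1 0 = 0 := by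
    rcases e00 with (h | h) | h
    · exact absurd h hc
    · exact absurd h R.root_ne
    · exact h
  have h11 : (ρ y : M2) 1 1 = (ρ y : M2) 0 0 := mul_left_cancel₀ hx (by linear_combination e01)
  refine ⟨(ρ y : M2) 0 0, (ρ y : M2) 0 1, ?_, ?_⟩
  · have := (ρ y).2
    rw [Matrix.det_fin_two, h10, h11, mul_zero, sub_zero] at this
    exact this
  · ext a b
    fin_cases a <;> fin_cases b <;> simp [h10, h11]

theorem rho_sq {y : Gp f j w T} {c d : F} (hc : c ≠ 0) (h : gR f j w T c * y = y * gR f j w T c)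
    (hsq : y * y = gR f j w T d) :
    ∃ a b : Kf, a * a = 1 ∧ (ρ y : M2) = !![a, b; 0, a] ∧ 2 * a * b = algebraMap F Kf d * β := by
  obtain ⟨a, b, ha, hy⟩ := R.rho_comm D hc h
  refine ⟨a, b, ha, hy, ?_⟩
  have e : (ρ (y * y) : M2) 0 1 = (ρ (gR f j w T d) : M2) 0 1 := by rw [hsq]
  simp only [map_mul, Matrix.SpecialLinearGroup.coe_mul, hy, R.rho_R D] at e
  simp [Matrix.mul_apply, Fin.sum_univ_two, -AdjoinRoot.algebraMap_eq] at e
  linear_combination e

variable [Finite F] (hG : ¬ Good f M)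
include hG

theorem sq_eq {y : Gp f j w T} (hy : y ∈ fixK f j w N T) {c : F} (hc : c ≠ 0)
    (h : gR f j w T c * y = y * gR f j w T c) : ∃ d, y * y = gR f j w T d :=
  (D.sq_rs le_rfl hG y.2 hy hc (congrArg Subtype.val h)).imp fun _ e => Subtype.ext e

/-- In dimension at least four an element commuting with a root element has scalar coefficient. -/
theorem scalar_coef (hk : 4 ≤ k) {y : Gp f j w T} (hy : y ∈ fixK f j w N T)
    {A : (({l // l ≠ j} → Fin k) → F) → ({l // l ≠ j} → Fin k) → F}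
    (h1 : ∀ u, ((y : GG) : Big) *ᵥ ins j w u = ins j w (A u)) :
    ∃ a : F, (∀ u, A u = a • u) ∧ (ρ y : M2) 0 0 = algebraMap F Kf a := by
  obtain ⟨a, ha⟩ := D.four le_rfl hG hk (D.gp_le y.2) hy h1
  refine ⟨a, ha, ?_⟩
  obtain ⟨⟨y', P⟩, hP, hyy⟩ := gp_le_rel D.S.hf D.hNN D.hT y.2
  obtain rfl : y' = (y : GG) := hyy
  have hd : minpoly F B ∣ X * ((P : Matrix (Fin 2) (Fin 2) F[X]) 0 0 - Polynomial.C a) :=
    minpoly.dvd F _ (LinearMap.ext fun u => by
      rw [map_mul, map_sub, aeval_X, aeval_C, Module.End.mul_apply, LinearMap.sub_apply,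
        Module.algebraMap_end_apply, ← ha, map_sub, (D.coef_rel hP h1 u).2, sub_self, LinearMap.zero_apply])
  have := AdjoinRoot.mk_eq_mk.2 (((Fact.out : Irreducible μ).prime.dvd_or_dvd (R.dvd.trans hd)).resolve_left R.notX)
  rw [R.spec _ _ hP]
  simpa [AdjoinRoot.algebraMap_eq] using this

/-- If no root element fixes the invariant subspace, its fixers commuting with one are involutions. -/
theorem invol {H : Subgroup (Gp f j w T)} (hH : H ≤ fixK f j w N T)
    (hR : ∀ d, gR f j w T d ∈ H → d = 0) {c : F} (hc : c ≠ 0) {y : Gp f j w T} (hy : y ∈ H)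
    (h : gR f j w T c * y = y * gR f j w T c) :
    y * y = 1 ∧ ∃ a : Kf, a * a = 1 ∧ (ρ y : M2) = a • 1 := by
  obtain ⟨d, hd⟩ := R.sq_eq D hG (hH hy) hc h
  obtain rfl : d = 0 := hR d (hd ▸ H.mul_mem hy hy)
  obtain ⟨a, b, ha, hy', hab⟩ := R.rho_sq D hc h hd
  have h0 : gR f j w T (0 : F) = 1 := Subtype.ext (Units.ext (by rw [gR_coe_smul D.S.hf]; simp))
  refine ⟨hd.trans h0, a, ha, ?_⟩
  have h2 : (2 : Kf) * a ≠ 0 := by
    refine mul_ne_zero ?_ fun e => by rw [e, mul_zero] at ha; exact zero_ne_one ha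
    rw [← map_ofNat (algebraMap F Kf), _root_.map_ne_zero]
    exact D.two
  rw [map_zero, zero_mul] at hab
  rw [hy', (mul_eq_zero.1 hab).resolve_left h2]
  ext p q
  fin_cases p <;> fin_cases q <;> simp

theorem prime_to {p : ℕ} [Fact p.Prime] [CharP F p] {H : Subgroup (Gp f j w T)} (hn : H.Normal)
    (hH : H ≤ fixK f j w N T) (hR : ∀ d, gR f j w T d ∈ H → d = 0) : ¬ p ∣ Nat.card H := by
  refine Average.not_dvd (n := gR f j w T 1) (gR_pow D.S.hf 1) H (fun x => ⟨fun hx => hn.conj_mem x hx _,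
    fun hx => by simpa [mul_assoc] using hn.conj_mem _ hx (gR f j w T 1)⁻¹⟩) fun y hy hc hyp => ?_
  have hp2 : p ≠ 2 := fun e => D.two (by subst e; exact_mod_cast CharP.cast_eq_zero F 2)
  obtain ⟨m, hm⟩ := (Fact.out : p.Prime).odd_of_ne_two hp2
  rw [hm, pow_succ, pow_mul, sq, (R.invol D hG hH hR one_ne_zero hy hc).1, one_pow, one_mul] at hyp
  exact hyp

omit R in
/-- A scalar coefficient one makes an element commuting with the root a root element. -/
theorem eq_rs_of_one {y : Gp f j w T} (hy : y ∈ fixK f j w N T)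
    (h1 : ∀ u, ((y : GG) : Big) *ᵥ ins j w u = ins j w u) : ∃ d, y = gR f j w T d :=
  (D.fix_rs le_rfl hG (D.gp_le y.2) hy h1).imp fun _ e => Subtype.ext e

/-- In dimension at least four, nothing but one in `H` commutes with a root element. -/
theorem trivial_four (hk : 4 ≤ k) {H : Subgroup (Gp f j w T)} (hH : H ≤ fixK f j w N T)
    (hR : ∀ d, gR f j w T d ∈ H → d = 0)
    (hcase : (∀ y ∈ H, (ρ y : M2) 0 0 = 1) ∨ ∃ u, u ≠ 0 ∧ (B ^ r0) u = 0)
    {c : F} (hc : c ≠ 0) {y : Gp f j w T} (hy : y ∈ H) (h : gR f j w T c * y = y * gR f j w T c) : y = 1 := by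
  obtain ⟨A, h1, h2⟩ := D.exists_coef (D.commute_Xr hc (congrArg Subtype.val h))
  obtain ⟨a, ha, hρ⟩ := R.scalar_coef D hG hk (hH hy) h1
  have ha1 : a = 1 := by
    rcases hcase with h0 | ⟨u, hu, hu0⟩
    · rw [h0 y hy] at hρ
      exact (algebraMap F Kf).injective (by rw [← hρ, map_one])
    · have e := (hH hy) _ (D.ins_mem_K0 hu0)
      rw [h1] at e
      have e2 := ins_injective D.hw e
      rw [ha, ← sub_eq_zero] at e2
      rw [show a • u - u = (a - 1) • u by rw [sub_smul, one_smul], smul_eq_zero, sub_eq_zero] at e2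
      exact e2.resolve_right hu
  obtain ⟨d, rfl⟩ := eq_rs_of_one D hG (hH hy) fun u => by rw [h1, ha, ha1, one_smul]
  rw [hR d hy]
  exact Subtype.ext (Units.ext (by rw [gR_coe_smul D.S.hf]; simp))

/-- A normal subgroup without root elements acts trivially: four dimensions. -/
theorem all_trivial_four {p : ℕ} [Fact p.Prime] [CharP F p] (hk : 4 ≤ k) {H : Subgroup (Gp f j w T)}
    (hn : H.Normal) (hH : H ≤ fixK f j w N T) (hR : ∀ d, gR f j w T d ∈ H → d = 0)
    (hcase : (∀ y ∈ H, (ρ y : M2) 0 0 = 1) ∨ ∃ u, u ≠ 0 ∧ (B ^ r0) u = 0) : H = ⊥ := by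
  classical
  haveI : Fintype F := Fintype.ofFinite F
  refine (Subgroup.eq_bot_iff_forall _).2 fun x hx => ?_
  have h := Average.image_trivial (p := p) (A := Big) H hn (gR f j w T) (gR_pow D.S.hf)
    ((Gp f j w T).subtype) ?_ (fun c hc y hy h => by rw [R.trivial_four D hG hk hH hR hcase hc hy h, map_one])
    (R.prime_to D hG hn hH hR) x hx
  · exact Subtype.ext h
  · show ∑ c ∈ Finset.univ.erase (0 : F), ((gR f j w T c : GG) : Big) = -1
    simp only [gR_coe_smul D.S.hf, Finset.sum_add_distrib, ← Finset.sum_smul]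
    have h1 : ∑ c ∈ (Finset.univ : Finset F).erase 0, c = 0 := by
      have := sum_erase_pow (F := F) (i := 1) (by have := card_three (F := F) D.two; omega) one_ne_zero
      simpa using this
    rw [h1, zero_smul, add_zero, show ∑ _c ∈ (Finset.univ : Finset F).erase 0, (1 : Big) =
      (∑ _c ∈ (Finset.univ : Finset F).erase 0, (1 : F)) • 1 by rw [Finset.sum_smul]; simp, sum_erase_one]
    simp

/-- A normal subgroup without root elements is scalar in every representation: two dimensions. -/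
theorem all_trivial_two {p : ℕ} [Fact p.Prime] [CharP F p] (hq : 5 ≤ Nat.card F) {H : Subgroup (Gp f j w T)}
    (hn : H.Normal) (hH : H ≤ fixK f j w N T) (hR : ∀ d, gR f j w T d ∈ H → d = 0)
    {x : Gp f j w T} (hx : x ∈ H) : ∃ a : Kf, a * a = 1 ∧ (ρ x : M2) = a • 1 := by
  classical
  haveI : Fintype F := Fintype.ofFinite F
  refine of_sq2_one ?_
  refine Average.image_trivial (p := p) H hn (gR f j w T) (gR_pow D.S.hf) (sq2.comp ρ) ?_ (fun c hc y hy h => ?_)
    (R.prime_to D hG hn hH hR) x hx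
  · set E : M2 := !![0, β; 0, 0]
    have hform : ∀ c : F, ((sq2 (ρ (gR f j w T c)) : (Matrix (Fin 2 × Fin 2) (Fin 2 × Fin 2) Kf)ˣ) :
        Matrix (Fin 2 × Fin 2) (Fin 2 × Fin 2) Kf) = 1 + c • (E ⊗ₖ 1 + 1 ⊗ₖ E) + c ^ 2 • (E ⊗ₖ E) := by
      intro c
      have e : !![1, algebraMap F Kf c * β; 0, 1] = (1 : M2) + c • E := by
        ext a b
        rw [Matrix.add_apply, Matrix.smul_apply, Algebra.smul_def]
        fin_cases a <;> fin_cases b <;> simp [E]
      rw [coe_sq2, R.rho_R D, e, Matrix.add_kronecker, Matrix.kronecker_add, Matrix.kronecker_add,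
        Matrix.smul_kronecker, Matrix.kronecker_smul, Matrix.smul_kronecker, Matrix.kronecker_smul,
        Matrix.one_kronecker_one, smul_smul, sq]
      module
    simp only [MonoidHom.comp_apply, hform, Finset.sum_add_distrib, ← Finset.sum_smul]
    have hc : 5 ≤ Fintype.card F := by rwa [← Nat.card_eq_fintype_card]
    have h1 : ∑ c ∈ (Finset.univ : Finset F).erase 0, c = 0 := by
      simpa using sum_erase_pow (F := F) (i := 1) (by omega) one_ne_zero
    rw [h1, sum_erase_pow (by omega) two_ne_zero, zero_smul, zero_smul, add_zero, add_zero,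
      show ∑ _c ∈ (Finset.univ : Finset F).erase 0, (1 : Matrix (Fin 2 × Fin 2) (Fin 2 × Fin 2) Kf) =
        (∑ _c ∈ (Finset.univ : Finset F).erase 0, (1 : F)) • 1 by rw [Finset.sum_smul]; simp, sum_erase_one]
    simp
  · obtain ⟨-, a, ha, e⟩ := R.invol D hG hH hR hc hy h
    exact sq2_one_of ha e

end Rep

end Cfsg.Agent.Lib.TensorSympMax.Root
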