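import Cfsg.Agent.Lib.TensorSympMax.Root

/-!
Both coordinates are faithful and the operator `π N ι` has a single eigenvalue, which it equals.
-/

set_option autoImplicit false
set_option linter.unusedSectionVars false
set_option linter.style.haveILetI false

namespace Cfsg.Agent.Lib.TensorSympMax.Scalar

open Matrix Polynomial Kronecker
open Cfsg.Agent.Lib.Subspaces.Transvection Cfsg.Agent.Lib.Subspaces.FormVec
  Cfsg.Agent.Lib.TensorPowerMax.Basic Cfsg.Agent.Lib.TensorSympMax.Basic Cfsg.Agent.Lib.TensorSympMax.Quad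
  Cfsg.Agent.Lib.TensorSympMax.BlockTo Cfsg.Agent.Lib.TensorSympMax.TwoRoot
  Cfsg.Agent.Lib.TensorSympMax.Centraliser Cfsg.Agent.Lib.TensorSympMax.Root
open Cfsg.Agent.Lib.DicksonId (trLow trUp trGen trGen_cases eq_pre_of_map exc_of_alt_five map_closure_tr
  two_mul_card_PSL pre)

section Dickson

variable {K : Type*} [Field K] [Fintype K] {p : ℕ} [hp : Fact p.Prime] [CharP K p]

/-- Two opposite transvections generate everything, or three is the characteristic and `lam ^ 2 = -1`. -/
theorem gen_or_exc (hp2 : p ≠ 2) {lam : K} (hlam : lam ≠ 0) (hgen : Subfield.closure ({lam} : Set K) = ⊤) :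
    Subgroup.closure ({trLow, trUp lam} : Set (Matrix.SpecialLinearGroup (Fin 2) K)) = ⊤ ∨
      (p = 3 ∧ lam ^ 2 = -1) := by
  rcases trGen_cases hp2 hlam hgen with h | ⟨rfl, he⟩
  · left
    set G := Subgroup.closure ({trLow, trUp lam} : Set (Matrix.SpecialLinearGroup (Fin 2) K))
    have hmap : G.map (QuotientGroup.mk' _) = trGen lam := map_closure_tr lam
    have h2 : (2 : K) ≠ 0 := Cfsg.Agent.Lib.DicksonId.two_ne_zero_of_char (p := p) hp2
    obtain ⟨e, he, hq⟩ := Lib.Linear.exists_card_eq_pow (F := K) p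
    have hodd : Fintype.card K % 2 = 1 := hq ▸ Nat.odd_iff.mp (hp.out.odd_of_ne_two hp2).pow
    rw [eq_pre_of_map h2 (G := G) (by
      rw [hmap, h, Subgroup.card_top]
      show 2 ∣ Nat.card (Matrix.ProjectiveSpecialLinearGroup (Fin 2) K)
      have hc := two_mul_card_PSL (F := K) hp2
      have h4 : 4 ∣ Fintype.card K * ((Fintype.card K - 1) * (Fintype.card K + 1)) :=
        dvd_mul_of_dvd_right (Nat.mul_dvd_mul (by omega : 2 ∣ _) (by omega : 2 ∣ _)) _
      omega), hmap, h]
    ext; simp [pre]
  · exact Or.inr ⟨rfl, (exc_of_alt_five hlam hgen he).2⟩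

end Dickson

variable {ι : Type} [Fintype ι] [DecidableEq ι] {k : ℕ} {F : Type*} [Field F]

local notation "Big" => Matrix (ι → Fin k) (ι → Fin k) F
local notation "GG" => GL (ι → Fin k) F
local notation "W1" => Fin k → F
local notation "SL2P" => Matrix.SpecialLinearGroup (Fin 2) F[X]

variable {f : (Fin k → F) → (Fin k → F) → F} {M : Subgroup (GL (ι → Fin k) F)} {j : ι} {w : Fin k → F}
  {N : Matrix (ι → Fin k) (ι → Fin k) F} {T : F → GL (ι → Fin k) F}

section

variable {μ : F[X]} [Fact (Irreducible μ)] {ρ : Gp f j w T →* Matrix.SpecialLinearGroup (Fin 2) (AdjoinRoot μ)}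
  [Finite F] {p : ℕ} [hprime : Fact p.Prime] [hchar : CharP F p]
  (R : Rep f j w N T μ ρ) (D : Centraliser.Pair f M j w N T) (hG : ¬ Good f M)
include R D hG hprime hchar

local notation "B" => Bop f j w N
local notation "r0" => Module.finrank F (({l // l ≠ j} → Fin k) → F)
local notation "Kf" => AdjoinRoot μ
local notation "β" => AdjoinRoot.root μ
local notation "M2" => Matrix (Fin 2) (Fin 2) (AdjoinRoot μ)

omit R hG hprime hchar in
theorem two_ne : (2 : Kf) ≠ 0 := by
  rw [← map_ofNat (algebraMap F Kf), _root_.map_ne_zero]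
  exact D.two

omit R hG hprime hchar in
theorem rho_one_entry {y : Gp f j w T} (h : y ∈ ρ.ker) : (ρ y : M2) 0 0 = 1 := by
  rw [MonoidHom.mem_ker.1 h]; rfl

/-- The operator is injective. -/
theorem pow_injective : ∀ u, (B ^ r0) u = 0 → u = 0 := by
  by_contra hne
  push Not at hne
  obtain ⟨u, hu, hu0⟩ := hne
  have hf := D.S.hf
  have hR : ∀ d, gR f j w T d ∈ fixK f j w N T → d = 0 := fun d hd => by
    obtain ⟨z, hz, hzu⟩ := D.exists_K0_pre le_rfl hu
    have := hd z hz
    rw [gR, rs_mulVec hf, hzu, add_eq_left, smul_eq_zero] at this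
    refine this.resolve_right fun e => hu0 ?_
    exact ins_injective D.hw (e.trans (map_zero _).symm)
  have hn := Pair.fixK_normal D
  have hscal : ∀ x ∈ fixK f j w N T, ∃ a : Kf, a * a = 1 ∧ (ρ x : M2) = a • 1 := by
    intro x hx
    rcases D.S.hk with hk | ⟨-, hq, -⟩
    · have := R.all_trivial_four D hG (p := p) hk hn le_rfl hR (Or.inr ⟨u, hu0, hu⟩)
      rw [this, Subgroup.mem_bot] at hx
      exact ⟨1, one_mul 1, by rw [hx, map_one, one_smul, Matrix.SpecialLinearGroup.coe_one]⟩
    · exact R.all_trivial_two D hG (p := p) hq hn le_rfl hR hx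
  obtain ⟨s, hs⟩ := exists_pow_fix hf D.hNN D.hT (p := p) r0
  haveI : CharP Kf p := charP_of_injective_algebraMap (algebraMap F Kf).injective p
  have key : ∀ c : F, c ≠ 0 → algebraMap F Kf c * β + 4 = 0 := by
    intro c hc
    set h := gR f j w T c * gT f j w T 1
    have hfix : h ^ p ^ s ∈ fixK f j w N T := fun z hz => by rw [Subgroup.coe_pow]; exact hs _ h.2 z hz
    obtain ⟨a, ha, hρ⟩ := hscal _ hfix
    set m : M2 := (ρ h : M2)
    rw [map_pow, Matrix.SpecialLinearGroup.coe_pow] at hρ
    have hsq : (m * m - 1) ^ p ^ s = 0 := by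
      rw [sub_pow_char_pow_of_commute _ _ (Commute.one_right _), one_pow, (Commute.refl m).mul_pow, hρ,
        smul_mul_smul_comm, ha, one_smul, one_mul, sub_self]
    have hdet : (m * m - 1).det = 0 := by
      have := congrArg Matrix.det hsq
      rw [Matrix.det_pow, Matrix.det_zero] at this
      exact eq_zero_of_pow_eq_zero this
    simp only [m, h, map_mul, Matrix.SpecialLinearGroup.coe_mul, R.rho_R D, R.rho_T D] at hdet
    simp [Matrix.det_fin_two, -AdjoinRoot.algebraMap_eq] at hdet
    have hx : algebraMap F Kf c * β ≠ 0 := mul_ne_zero (by simpa using hc) R.root_ne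
    refine (mul_eq_zero.1 (?_ : (algebraMap F Kf c * β) * (algebraMap F Kf c * β + 4) = 0)).resolve_left hx
    linear_combination (-1 : Kf) * hdet
  have h1 := key 1 one_ne_zero
  have h2 := key (-1) (by simp)
  rw [map_one, one_mul] at h1
  rw [map_neg, map_one, neg_one_mul] at h2
  have h8 : (2 : Kf) * (2 * 2) = 0 := by linear_combination h1 + h2
  simp [two_ne D] at h8

variable (hrange : Module.finrank F (LinearMap.range (Matrix.mulVecLin N)) ≤
  Module.finrank F (({l // l ≠ j} → Fin k) → F))
include hrange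

/-- Everything fixes the invariant subspace. -/
theorem fix_all (x : Gp f j w T) : x ∈ fixK f j w N T := by
  have hf := D.S.hf
  have hinj := pow_injective R D hG (p := p)
  have hB : Function.Injective B := by
    refine (injective_iff_map_eq_zero B).2 fun u hu => hinj u ?_
    haveI := D.S.rest_nonempty j
    obtain ⟨t, ht⟩ : ∃ t, r0 = t + 1 := ⟨r0 - 1, by
      have : 0 < r0 := by rw [Module.finrank_fintype_fun_eq_card]; exact Fintype.card_pos
      omega⟩
    rw [ht, pow_succ, Module.End.mul_apply, hu, map_zero]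
  have hN : ∀ z, ctr j (formVec f w) (N *ᵥ z) = 0 → N *ᵥ z = 0 := by
    let L := (ctr j (formVec f w)).domRestrict (LinearMap.range (Matrix.mulVecLin N))
    have hsurj : Function.Surjective L := fun u => by
      obtain ⟨u', hu'⟩ := LinearMap.injective_iff_surjective.1 hB u
      exact ⟨⟨N *ᵥ ins j w u', _, rfl⟩, hu'⟩
    have hd : Module.finrank F (LinearMap.range (Matrix.mulVecLin N)) = r0 :=
      le_antisymm hrange (L.finrank_le_finrank_of_surjective hsurj)
    intro z hz
    have h0 : L ⟨N *ᵥ z, z, rfl⟩ = L 0 := by rw [map_zero]; exact hz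
    exact congrArg Subtype.val ((LinearMap.injective_iff_surjective_of_finrank_eq_finrank hd).2 hsurj h0)
  obtain ⟨x, hx⟩ := x
  intro z hz
  have h1 := hinj _ (mem_K0.1 hz).1
  have h2 := hN z (hinj _ (mem_K0.1 hz).2)
  induction hx using Subgroup.closure_induction with
  | mem y hy =>
    rcases hy with ⟨c, rfl⟩ | ⟨c, rfl⟩
    · show (rs f j w c : Big) *ᵥ z = z
      rw [rs_mulVec hf, h1, map_zero, smul_zero, add_zero]
    · show (T c : Big) *ᵥ z = z
      rw [T_mulVec D.hT, h2, smul_zero, add_zero]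
  | one => simp
  | mul a b _ _ ha hb =>
    show ((a * b : GG) : Big) *ᵥ z = z
    rw [gl_mul_mulVec]
    exact (congrArg _ hb).trans ha
  | inv a _ ha =>
    show ((a⁻¹ : GG) : Big) *ᵥ z = z
    conv_lhs => rw [← (ha : (a : Big) *ᵥ z = z), gl_inv_mulVec]

theorem ker_le : ρ.ker ≤ fixK f j w N T := fun x _ => fix_all R D hG (p := p) hrange x

omit hG hrange hprime hchar in
theorem ker_no_root (d : F) (h : gR f j w T d ∈ ρ.ker) : d = 0 := R.rho_R_inj D (MonoidHom.mem_ker.1 h)

theorem ker_four (hk : 4 ≤ k) : ρ.ker = ⊥ :=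
  R.all_trivial_four D hG (p := p) hk inferInstance (ker_le R D hG (p := p) hrange) (ker_no_root R D)
    (Or.inl fun _ h => rho_one_entry D h)

/-- The upper unitriangular image consists of multiples of the root. -/
theorem star {x : Gp f j w T} {b : Kf} (hx : (ρ x : M2) = !![1, b; 0, 1]) :
    ∃ d : F, 2 * b = algebraMap F Kf d * β := by
  have hp' : ¬ p ∣ Nat.card ((⊤ : Subgroup (Gp f j w T)) ⊓ ρ.ker : Subgroup (Gp f j w T)) := by
    rw [top_inf_eq]
    exact R.prime_to D hG inferInstance (ker_le R D hG (p := p) hrange) (ker_no_root R D)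
  obtain ⟨y, -, hy, hc⟩ := Average.exists_comm ρ (n := gR f j w T 1) (gR_pow D.S.hf 1) ⊤
    (fun _ => by simp) hp' (Subgroup.mem_top x) (Subtype.ext (by
      rw [Matrix.SpecialLinearGroup.coe_mul, Matrix.SpecialLinearGroup.coe_mul, hx, R.rho_R D]
      ext a c
      fin_cases a <;> fin_cases c <;> simp [Matrix.mul_apply, Fin.sum_univ_two]
      ring))
  obtain ⟨d, hd⟩ := R.sq_eq D hG (fix_all R D hG (p := p) hrange y) one_ne_zero hc
  obtain ⟨a, b', -, hy', hab⟩ := R.rho_sq D one_ne_zero hc hd
  rw [hy, hx] at hy'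
  have h00 := congrFun (congrFun hy' 0) 0
  have h01 := congrFun (congrFun hy' 0) 1
  simp at h00 h01
  exact ⟨d, by rw [← hab, ← h00, ← h01, mul_one]⟩

/-- The root lies in the field. -/
theorem root_mem : ∃ b : F, β = algebraMap F Kf b := by
  classical
  haveI : CharP Kf p := charP_of_injective_algebraMap (algebraMap F Kf).injective p
  haveI : Fintype F := Fintype.ofFinite F
  haveI : Module.Finite F Kf := (AdjoinRoot.powerBasis (Fact.out : Irreducible μ).ne_zero).finite
  haveI : Finite Kf := Module.finite_of_finite F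
  have hp2 : p ≠ 2 := fun e => D.two (by subst e; exact_mod_cast CharP.cast_eq_zero F 2)
  have hcases : ∀ c : F, c ≠ 0 →
      (∃ x, (ρ x : M2) = !![1, 1; 0, 1]) ∨ (p = 3 ∧ (algebraMap F Kf c * β) ^ 2 = -1) := by
    intro c hc
    set lam := algebraMap F Kf c * β
    have hlam : lam ≠ 0 := mul_ne_zero (by simpa using hc) R.root_ne
    set E := Subfield.closure ({lam} : Set Kf)
    let lam' : E := ⟨lam, Subfield.subset_closure rfl⟩
    haveI : Fintype E := Fintype.ofFinite E
    haveI : CharP E p := RingHom.charP E.subtype E.subtype.injective p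
    have hgen : Subfield.closure ({lam'} : Set E) = ⊤ := by
      refine eq_top_iff.2 fun x _ => ?_
      have h : E ≤ (Subfield.closure ({lam'} : Set E)).map E.subtype := by
        rw [RingHom.map_field_closure, Set.image_singleton]; exact le_rfl
      obtain ⟨y, hy, hyx⟩ := h x.2
      rwa [← Subtype.ext hyx]
    rcases gen_or_exc hp2 (lam := lam') (fun e => hlam (congrArg Subtype.val e)) hgen with h | ⟨h3, hsq⟩
    · left
      have hle : Subgroup.closure ({trLow, trUp lam'} : Set (Matrix.SpecialLinearGroup (Fin 2) E)) ≤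
          ρ.range.comap (Matrix.SpecialLinearGroup.map E.subtype) := by
        refine (Subgroup.closure_le _).2 ?_
        rintro _ (rfl | rfl)
        · refine ⟨gT f j w T 1, Subtype.ext ?_⟩
          rw [R.rho_T D, map_one]
          ext a b
          show _ = E.subtype ((trLow : Matrix.SpecialLinearGroup (Fin 2) E).1 a b)
          fin_cases a <;> fin_cases b <;> simp
        · refine ⟨gR f j w T c, Subtype.ext ?_⟩
          rw [R.rho_R D]
          ext a b
          show _ = E.subtype ((trUp lam').1 a b)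
          fin_cases a <;> fin_cases b <;> simp [lam', lam]
      rw [h] at hle
      obtain ⟨x, hx⟩ := hle (Subgroup.mem_top (trUp (1 : E)))
      refine ⟨x, ?_⟩
      rw [hx]
      ext a b
      show E.subtype ((trUp (1 : E)).1 a b) = _
      fin_cases a <;> fin_cases b <;> simp
    · exact Or.inr ⟨h3, by simpa [lam'] using congrArg Subtype.val hsq⟩
  by_cases hall : ∀ c : F, c ≠ 0 → p = 3 ∧ (algebraMap F Kf c * β) ^ 2 = -1
  swap
  · push Not at hall
    obtain ⟨c, hc, hne⟩ := hall
    obtain ⟨x, hx⟩ := (hcases c hc).resolve_right fun h => hne h.1 h.2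
    obtain ⟨d, hd⟩ := star R D hG (p := p) hrange hx
    have hd0 : algebraMap F Kf d ≠ 0 := fun e => by rw [e, zero_mul, mul_one] at hd; exact two_ne D hd
    refine ⟨2 / d, ?_⟩
    rw [map_div₀, eq_div_iff hd0, map_ofNat]
    linear_combination -hd
  obtain ⟨rfl, hb⟩ := hall 1 one_ne_zero
  rw [map_one, one_mul] at hb
  have hcard : Fintype.card F ≤ 3 := by
    have hsub : (Finset.univ : Finset F) ⊆ {0, 1, -1} := fun c _ => by
      simp only [Finset.mem_insert, Finset.mem_singleton]
      by_cases hc : c = 0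
      · exact Or.inl hc
      refine Or.inr (mul_self_eq_one_iff.1 ((algebraMap F Kf).injective ?_))
      have := (hall c hc).2
      rw [mul_pow, hb] at this
      rw [map_mul, map_one, ← sq]
      linear_combination -this
    exact (Finset.card_le_card hsub).trans Finset.card_le_three
  have hk : 4 ≤ k := D.S.hk.resolve_right fun h => by have h := And.intro h.1 h.2.1; rw [Nat.card_eq_fintype_card] at h; omega
  have hker := ker_four R D hG (p := 3) hrange hk
  have h3 : (3 : Kf) = 0 := by exact_mod_cast CharP.cast_eq_zero Kf 3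
  set h := gT f j w T 1 * gR f j w T (-1) * gT f j w T (-1) * gR f j w T 1 * gT f j w T 1 with hh
  have hρ : (ρ h : M2) = !![β, -1; 0, -β] := by
    simp only [hh, map_mul, Matrix.SpecialLinearGroup.coe_mul, R.rho_R D, R.rho_T D, map_one, map_neg, one_mul,
      neg_mul]
    ext a b
    fin_cases a <;> fin_cases b <;> simp [Matrix.mul_apply, Fin.sum_univ_two]
    all_goals linear_combination hb
  clear_value h
  have hconj : h * gR f j w T 1 = gR f j w T (-1) * h := by
    refine (MonoidHom.ker_eq_bot_iff ρ).1 hker (Subtype.ext ?_)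
    rw [map_mul, map_mul, Matrix.SpecialLinearGroup.coe_mul, Matrix.SpecialLinearGroup.coe_mul, hρ,
      R.rho_R D, R.rho_R D, map_one, map_neg, map_one, one_mul, neg_one_mul]
    ext a b
    fin_cases a <;> fin_cases b <;> simp [Matrix.mul_apply, Fin.sum_univ_two]
    ring
  have hanti : ∀ z, ((h : GG) : Big) *ᵥ (Xr f j w *ᵥ z) = -(Xr f j w *ᵥ (((h : GG) : Big) *ᵥ z)) := fun z => by
    have := congrArg (fun g : Gp f j w T => ((g : GG) : Big) *ᵥ z) hconj
    simp only [Subgroup.coe_mul, gl_mul_mulVec, gR, rs_mulVec D.S.hf, ← Xr_mulVec, mulVec_add,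
      one_smul, neg_one_smul] at this
    exact add_left_cancel this
  obtain ⟨y0, hy0⟩ := exists_one D.S.hf D.hw
  have hsec : ∀ u, ctr j (formVec f w) (ins j y0 u) = u := fun u => by
    rw [ctr_ins, dot D.S.hf, hy0, one_smul]
  obtain ⟨a, -, ha⟩ := R.scalar_coef D hG hk (fix_all R D hG (p := 3) hrange h)
    (A := fun u => -ctr j (formVec f w) (((h : GG) : Big) *ᵥ ins j y0 u)) fun u => by
      conv_lhs => rw [← hsec u, ← Xr_mulVec, hanti, Xr_mulVec, ← map_neg]
  exact ⟨a, by rw [← ha, hρ]; simp⟩

end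

end Cfsg.Agent.Lib.TensorSympMax.Scalar
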